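import Mathlib
import Cfsg.Prelude.Def_LocalStructure

/-! Small facts on alternating groups. -/

set_option autoImplicit false
set_option linter.unusedSectionVars false
set_option linter.unusedVariables false

namespace Cfsg.Agent.A4sq

open Equiv

abbrev A4 : Type := ↥(alternatingGroup (Fin 4))

theorem d1 : ∀ x : Perm (Fin 4), Perm.sign x = 1 → x * x * x * x = 1 → x * x = 1 := by decide +kernel

theorem d2 : ∀ x : Perm (Fin 4), Perm.sign x = 1 → x * x * x * x * x * x * x * x * x = 1 → x * x * x = 1 := by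
  decide +kernel

set_option synthInstance.maxSize 4096 in
set_option synthInstance.maxHeartbeats 400000 in
theorem d3 : ∀ x : Perm (Fin 4), Perm.sign x = 1 → x * x = 1 → x ≠ 1 → ∀ y : Perm (Fin 4), Perm.sign y = 1 → y * y = 1 →
    y ≠ 1 → x ≠ y → ∀ a : Perm (Fin 4), Perm.sign a = 1 → (a * a = 1 → a = 1 ∨ a = x ∨ a = y ∨ a = x * y) ∧
    (a * a * a = 1 → a ≠ 1 → (a * x * a⁻¹ = y ∧ a * y * a⁻¹ = x * y ∧ a⁻¹ * x * a = x * y ∧ a⁻¹ * y * a = x) ∨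
      (a * x * a⁻¹ = x * y ∧ a * y * a⁻¹ = x ∧ a⁻¹ * x * a = y ∧ a⁻¹ * y * a = x * y)) := by
  decide +kernel

theorem e1 (x : A4) (h : x ^ 4 = 1) : x * x = 1 :=
  Subtype.ext (d1 x.1 x.2 (by have := congrArg Subtype.val h; simpa [pow_succ] using this))

theorem e2 (x : A4) (h : x ^ 9 = 1) : x * x * x = 1 :=
  Subtype.ext (d2 x.1 x.2 (by have := congrArg Subtype.val h; simpa [pow_succ] using this))

theorem e3 (x y a : A4) (hx : x * x = 1) (hx1 : x ≠ 1) (hy : y * y = 1) (hy1 : y ≠ 1) (hxy : x ≠ y) :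
    (a * a = 1 → a = 1 ∨ a = x ∨ a = y ∨ a = x * y) ∧
    (a * a * a = 1 → a ≠ 1 → (a * x * a⁻¹ = y ∧ a * y * a⁻¹ = x * y ∧ a⁻¹ * x * a = x * y ∧ a⁻¹ * y * a = x) ∨
      (a * x * a⁻¹ = x * y ∧ a * y * a⁻¹ = x ∧ a⁻¹ * x * a = y ∧ a⁻¹ * y * a = x * y)) := by
  have := d3 x.1 x.2 (congrArg Subtype.val hx) (fun e => hx1 (Subtype.ext e)) y.1 y.2 (congrArg Subtype.val hy)
    (fun e => hy1 (Subtype.ext e)) (fun e => hxy (Subtype.ext e)) a.1 a.2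
  simp only [Ne, Subtype.ext_iff]
  exact this

theorem cardA : Nat.card A4 = 12 := by
  have h : 2 * Nat.card A4 = _ := two_mul_nat_card_alternatingGroup (α := Fin 4)
  rw [Nat.card_perm, Nat.card_fin, show Nat.factorial 4 = 24 from rfl] at h
  omega

theorem cardQ (Q : Sylow 3 (A4 × A4)) : Nat.card Q = 9 := by
  haveI : Fact (Nat.Prime 3) := ⟨by norm_num⟩
  rw [Sylow.card_eq_multiplicity, Nat.card_prod, cardA]
  have : Nat.factorization (12 * 12) 3 = 2 := by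
    have a := (Nat.Prime.pow_dvd_iff_le_factorization (p := 3) (k := 2) (n := 12 * 12) (by norm_num) (by norm_num)).1
      (by norm_num)
    have b := mt (Nat.Prime.pow_dvd_iff_le_factorization (p := 3) (k := 3) (n := 12 * 12) (by norm_num) (by norm_num)).2
      (by norm_num)
    omega
  rw [this]
  rfl

theorem qab (Q : Sylow 3 (A4 × A4)) : ∃ a b : A4, a ≠ 1 ∧ b ≠ 1 ∧ a * a * a = 1 ∧ b * b * b = 1 ∧
    (a, b) ∈ (Q : Subgroup (A4 × A4)) ∧ (a, b⁻¹) ∈ (Q : Subgroup (A4 × A4)) := by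
  have h9 : ∀ g ∈ (Q : Subgroup (A4 × A4)), g ^ 9 = 1 := fun g hg => by
    have : (⟨g, hg⟩ : Q) ^ Nat.card Q = 1 := pow_card_eq_one'
    rw [cardQ] at this
    exact congrArg Subtype.val this
  let Q' := ((Q : Subgroup (A4 × A4)).map (MonoidHom.fst _ _)).prod ((Q : Subgroup (A4 × A4)).map (MonoidHom.snd _ _))
  have hp : IsPGroup 3 Q' := fun g => ⟨2, Subtype.ext (by
    obtain ⟨u, hu, e1⟩ := g.2.1
    obtain ⟨v, hv, e2⟩ := g.2.2
    refine Prod.ext (?_ : g.1.1 ^ 9 = 1) (?_ : g.1.2 ^ 9 = 1)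
    · rw [← e1]
      exact congrArg Prod.fst (h9 u hu)
    · rw [← e2]
      exact congrArg Prod.snd (h9 v hv))⟩
  have e : Q' = Q := Q.is_maximal' hp fun g hg => ⟨⟨g, hg, rfl⟩, ⟨g, hg, rfl⟩⟩
  have ha : ∃ g ∈ (Q : Subgroup (A4 × A4)), g.1 ≠ 1 := by
    by_contra! h
    have : Nat.card Q ∣ Nat.card A4 := Subgroup.card_dvd_of_injective ((MonoidHom.snd _ _).comp (Q : Subgroup (A4 × A4)).subtype)
      ((injective_iff_map_eq_one _).2 fun g hg => Subtype.ext (Prod.ext (h _ g.2) hg))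
    rw [cardQ, cardA] at this
    omega
  have hb : ∃ g ∈ (Q : Subgroup (A4 × A4)), g.2 ≠ 1 := by
    by_contra! h
    have : Nat.card Q ∣ Nat.card A4 := Subgroup.card_dvd_of_injective ((MonoidHom.fst _ _).comp (Q : Subgroup (A4 × A4)).subtype)
      ((injective_iff_map_eq_one _).2 fun g hg => Subtype.ext (Prod.ext hg (h _ g.2)))
    rw [cardQ, cardA] at this
    omega
  obtain ⟨u, hu, hu1⟩ := ha
  obtain ⟨v, hv, hv1⟩ := hb
  refine ⟨u.1, v.2, hu1, hv1, e2 _ (congrArg Prod.fst (h9 u hu)), e2 _ (congrArg Prod.snd (h9 v hv)), ?_, ?_⟩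
  · rw [← e]
    exact ⟨⟨u, hu, rfl⟩, ⟨v, hv, rfl⟩⟩
  · rw [← e]
    exact ⟨⟨u, hu, rfl⟩, ⟨v⁻¹, inv_mem hv, rfl⟩⟩

theorem main (X : Sylow 2 (A4 × A4)) (Q : Sylow 3 (A4 × A4)) (B : Subgroup (A4 × A4)) (hBX : B ≤ (X : Subgroup _))
    (hB4 : Nat.card ↥B = 4) :
    B ⊓ ((X : Subgroup _) ⊓ Subgroup.prod ⊤ ⊥) ≠ ⊥ ∨ B ⊓ ((X : Subgroup _) ⊓ Subgroup.prod ⊥ ⊤) ≠ ⊥ ∨
      ∃ R : Subgroup (A4 × A4), R ≤ (Q : Subgroup _) ∧ Nat.card ↥R = 3 ∧
        R ≠ (Q : Subgroup _) ⊓ Subgroup.prod ⊤ ⊥ ∧ R ≠ (Q : Subgroup _) ⊓ Subgroup.prod ⊥ ⊤ ∧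
        R ≤ Subgroup.normalizer (B : Set _) := by
  haveI : Fact (Nat.Prime 3) := ⟨by norm_num⟩
  by_contra! H
  obtain ⟨h1, h2, h3⟩ := H
  have k1 : ∀ g ∈ B, g.2 = 1 → g = 1 := fun g hg e => by
    have : g ∈ B ⊓ ((X : Subgroup _) ⊓ Subgroup.prod ⊤ ⊥) := ⟨hg, hBX hg, trivial, e⟩
    rwa [h1] at this
  have k2 : ∀ g ∈ B, g.1 = 1 → g = 1 := fun g hg e => by
    have : g ∈ B ⊓ ((X : Subgroup _) ⊓ Subgroup.prod ⊥ ⊤) := ⟨hg, hBX hg, e, trivial⟩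
    rwa [h2] at this
  have i1 : ∀ g ∈ B, ∀ g' ∈ B, g.1 = g'.1 → g = g' := fun g hg g' hg' e =>
    mul_inv_eq_one.1 (k2 _ (mul_mem hg (inv_mem hg')) (mul_inv_eq_one.2 e))
  have i2 : ∀ g ∈ B, ∀ g' ∈ B, g.2 = g'.2 → g = g' := fun g hg g' hg' e =>
    mul_inv_eq_one.1 (k1 _ (mul_mem hg (inv_mem hg')) (mul_inv_eq_one.2 e))
  have h4 : ∀ g ∈ B, g ^ 4 = 1 := fun g hg => by
    have : (⟨g, hg⟩ : B) ^ Nat.card B = 1 := pow_card_eq_one'
    rw [hB4] at this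
    exact congrArg Subtype.val this
  have s1 : ∀ g ∈ B, g.1 * g.1 = 1 := fun g hg => e1 _ (congrArg Prod.fst (h4 g hg))
  have s2 : ∀ g ∈ B, g.2 * g.2 = 1 := fun g hg => e1 _ (congrArg Prod.snd (h4 g hg))
  obtain ⟨u, hu, v, hv, hu1, hv1, huv⟩ : ∃ u ∈ B, ∃ v ∈ B, u ≠ 1 ∧ v ≠ 1 ∧ u ≠ v := by
    haveI := Fintype.ofFinite B
    obtain ⟨x, y, z, hxy, hxz, hyz⟩ := Fintype.two_lt_card_iff.1 (show 2 < Fintype.card B by
      rw [← Nat.card_eq_fintype_card, hB4]; norm_num)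
    have xy : x.1 ≠ y.1 := fun e => hxy (Subtype.ext e)
    have xz : x.1 ≠ z.1 := fun e => hxz (Subtype.ext e)
    have yz : y.1 ≠ z.1 := fun e => hyz (Subtype.ext e)
    by_cases hx : x.1 = 1
    · exact ⟨_, y.2, _, z.2, fun e => xy (hx.trans e.symm), fun e => xz (hx.trans e.symm), yz⟩
    by_cases hy : y.1 = 1
    · exact ⟨_, x.2, _, z.2, hx, fun e => yz (hy.trans e.symm), xz⟩
    · exact ⟨_, x.2, _, y.2, hx, hy, xy⟩
  have E1 := fun a => e3 u.1 v.1 a (s1 u hu) (fun e => hu1 (k2 u hu e)) (s1 v hv) (fun e => hv1 (k2 v hv e))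
    (fun e => huv (i1 u hu v hv e))
  have E2 := fun a => e3 u.2 v.2 a (s2 u hu) (fun e => hu1 (k1 u hu e)) (s2 v hv) (fun e => hv1 (k1 v hv e))
    (fun e => huv (i2 u hu v hv e))
  have fin : ∀ g ∈ (Q : Subgroup (A4 × A4)), g.1 ≠ 1 → g.2 ≠ 1 → g * g * g = 1 → g * u * g⁻¹ ∈ B → g * v * g⁻¹ ∈ B →
      False := fun g hg g1 g2 g3 gu gv => by
    refine h3 (Subgroup.zpowers g) (Subgroup.zpowers_le.2 hg) ?_ ?_ ?_ (Subgroup.zpowers_le.2 ?_)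
    · rw [Nat.card_zpowers]
      exact orderOf_eq_prime (by simpa [pow_succ] using g3) fun e => g1 (congrArg Prod.fst e)
    · intro e
      have := Subgroup.mem_zpowers g
      rw [e] at this
      exact g2 this.2.2
    · intro e
      have := Subgroup.mem_zpowers g
      rw [e] at this
      exact g1 this.2.1
    · refine Subgroup.mem_normalizer_fintype fun n hn => ?_
      rcases (E1 n.1).1 (s1 n hn) with e | e | e | e
      · rw [k2 n hn e]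
        simp
      · rw [i1 n hn u hu e]
        exact gu
      · rw [i1 n hn v hv e]
        exact gv
      · rw [i1 n hn (u * v) (mul_mem hu hv) e, show g * (u * v) * g⁻¹ = (g * u * g⁻¹) * (g * v * g⁻¹) by group]
        exact mul_mem gu gv
  obtain ⟨a, b, a1, b1, a3, b3, q1, q2⟩ := qab Q
  have b3' : b⁻¹ * b⁻¹ * b⁻¹ = 1 := by rw [← mul_inv_rev, ← mul_inv_rev, ← mul_assoc, b3, inv_one]
  have uv := mul_mem hu hv
  rcases (E1 a).2 a3 a1 with ⟨p1, p2, -, -⟩ | ⟨p1, p2, -, -⟩ <;>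
    rcases (E2 b).2 b3 b1 with ⟨r1, r2, r3, r4⟩ | ⟨r1, r2, r3, r4⟩
  · exact fin _ q1 a1 b1 (Prod.ext a3 b3) ((show (a, b) * u * (a, b)⁻¹ = v from Prod.ext p1 r1) ▸ hv)
      ((show (a, b) * v * (a, b)⁻¹ = u * v from Prod.ext p2 r2) ▸ uv)
  · exact fin _ q2 a1 (inv_ne_one.2 b1) (Prod.ext a3 b3') ((show (a, b⁻¹) * u * (a, b⁻¹)⁻¹ = v from Prod.ext p1 r3) ▸ hv)
      ((show (a, b⁻¹) * v * (a, b⁻¹)⁻¹ = u * v from Prod.ext p2 r4) ▸ uv)
  · exact fin _ q2 a1 (inv_ne_one.2 b1) (Prod.ext a3 b3') ((show (a, b⁻¹) * u * (a, b⁻¹)⁻¹ = u * v from Prod.ext p1 r3) ▸ uv)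
      ((show (a, b⁻¹) * v * (a, b⁻¹)⁻¹ = u from Prod.ext p2 r4) ▸ hu)
  · exact fin _ q1 a1 b1 (Prod.ext a3 b3) ((show (a, b) * u * (a, b)⁻¹ = u * v from Prod.ext p1 r1) ▸ uv)
      ((show (a, b) * v * (a, b)⁻¹ = u from Prod.ext p2 r2) ▸ hu)

end Cfsg.Agent.A4sq
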