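import Mathlib

/-! The order of an abelian `p`-subgroup of a symmetric group in terms of its rank. -/

set_option autoImplicit false
set_option linter.unusedSectionVars false
set_option linter.unusedVariables false

namespace Cfsg.Agent.AbP

open Equiv MulAction

theorem amgm (x y : ℝ) (hx : 0 ≤ x) (hy : 0 ≤ y) (r s : ℕ) (hr : 0 < r) :
    (x / r) ^ r * (y / s) ^ s ≤ ((x + y) / (r + s : ℕ)) ^ (r + s) := by
  rcases s.eq_zero_or_pos with rfl | hs
  · simp only [pow_zero, mul_one, add_zero]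
    gcongr
    linarith
  have r0 : (0 : ℝ) < r := by exact_mod_cast hr
  have s0 : (0 : ℝ) < s := by exact_mod_cast hs
  have k0 : (0 : ℝ) < (r + s : ℕ) := by push_cast; positivity
  have h := Real.geom_mean_le_arith_mean2_weighted (w₁ := r / (r + s : ℕ)) (w₂ := s / (r + s : ℕ)) (p₁ := x / r)
    (p₂ := y / s) (by positivity) (by positivity) (by positivity) (by positivity) (by push_cast; field_simp)
  have h2 := pow_le_pow_left₀ (by positivity) h (r + s)
  rw [mul_pow, ← Real.rpow_natCast (_ ^ _), ← Real.rpow_natCast (_ ^ _), ← Real.rpow_mul (by positivity),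
    ← Real.rpow_mul (by positivity), div_mul_cancel₀ _ k0.ne', div_mul_cancel₀ _ k0.ne', Real.rpow_natCast,
    Real.rpow_natCast] at h2
  refine h2.trans_eq (congrArg (· ^ (r + s)) ?_)
  field_simp

theorem le_div_pow {m r : ℕ} (hr : 0 < r) (h : 2 ^ r ≤ m) : (m : ℝ) ≤ (m / r) ^ r := by
  have r0 : (0 : ℝ) < r := by exact_mod_cast hr
  rw [div_pow, le_div_iff₀ (by positivity)]
  obtain ⟨t, rfl⟩ : ∃ t, r = t + 1 := ⟨r - 1, by omega⟩
  have : m * (t + 1) ^ (t + 1) ≤ m ^ (t + 1) := by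
    rw [pow_succ' m]
    refine Nat.mul_le_mul_left _ ?_
    calc (t + 1) ^ (t + 1) ≤ (2 ^ t) ^ (t + 1) := Nat.pow_le_pow_left Nat.lt_two_pow_self _
      _ = (2 ^ (t + 1)) ^ t := by rw [← pow_mul, ← pow_mul, mul_comm]
      _ ≤ m ^ t := Nat.pow_le_pow_left h _
  exact_mod_cast this

variable {Ω : Type*} [Fintype Ω] [DecidableEq Ω]

theorem card_eq (B : Subgroup (Perm Ω)) (ω : Ω) :
    Nat.card ↥(B ⊓ stabilizer (Perm Ω) ω) * (orbit B ω).ncard = Nat.card B := by
  rw [← index_stabilizer, ← (stabilizer B ω).card_mul_index]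
  congr 1
  exact Nat.card_congr
    { toFun := fun g => ⟨⟨g.1, g.2.1⟩, g.2.2⟩
      invFun := fun g => ⟨g.1.1, g.1.2, g.2⟩
      left_inv := fun _ => rfl
      right_inv := fun _ => rfl }

theorem ind {p : ℕ} (hp : p.Prime) (N : ℕ) : ∀ (A E : Subgroup (Perm Ω)) (s : Set Ω) (k : ℕ), Nat.card A = N →
    (∀ a ∈ A, ∀ b ∈ A, a * b = b * a) → IsPGroup p A → (∀ x, x ∈ E ↔ x ∈ A ∧ x ^ p = 1) → Nat.card E = p ^ k →
    (∀ g ∈ A, ∀ y, g y ≠ y → y ∈ s) → (Nat.card A : ℝ) ≤ (s.ncard / k) ^ k := by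
  haveI := Fact.mk hp
  induction N using Nat.strong_induction_on with
  | _ N ih =>
  intro A E s k hN hc hA hE hk hs
  have EA : E ≤ A := fun x hx => ((hE x).1 hx).1
  by_cases h1 : A = ⊥
  · subst h1
    rw [le_bot_iff.1 EA, Subgroup.card_bot] at hk
    rw [(Nat.pow_eq_one.1 hk.symm).resolve_left hp.one_lt.ne']
    simp
  obtain ⟨x, hx⟩ : ∃ x : A, orderOf x = p := by
    obtain ⟨n, hn⟩ := IsPGroup.iff_card.1 hA
    refine exists_prime_orderOf_dvd_card' p (hn ▸ dvd_pow_self p ?_)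
    rintro rfl
    exact h1 (Subgroup.card_eq_one.1 hn)
  have x1 : x.1 ≠ 1 := fun e => hp.one_lt.ne' (by rw [← hx, show x = 1 from Subtype.ext e, orderOf_one])
  have xE : x.1 ∈ E := (hE _).2 ⟨x.2, congrArg Subtype.val (hx ▸ pow_orderOf_eq_one x : x ^ p = 1)⟩
  obtain ⟨ω, hω⟩ : ∃ ω, x.1 ω ≠ ω := by
    by_contra! h
    exact x1 (Equiv.ext h)
  have cA := card_eq A ω
  have cE := card_eq E ω
  obtain ⟨k', hk', e'⟩ := (Nat.dvd_prime_pow hp).1 (hk ▸ Dvd.intro _ cE)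
  have lt : k' < k := by
    refine lt_of_le_of_ne hk' fun e => hω ?_
    have : E ⊓ stabilizer (Perm Ω) ω = E := Subgroup.eq_of_le_of_card_ge inf_le_left (by rw [e', hk, e])
    exact (this.ge xE).2
  obtain ⟨r, rfl⟩ : ∃ r, k = r + k' := ⟨k - k', by omega⟩
  have r0 : 0 < r := by omega
  have oE : (orbit E ω).ncard = p ^ r := by
    rw [e', hk, pow_add, mul_comm] at cE
    exact Nat.eq_of_mul_eq_mul_right (pow_pos hp.pos _) cE
  have hm : 2 ^ r ≤ (orbit A ω).ncard := by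
    refine (Nat.pow_le_pow_left hp.two_le r).trans (oE ▸ Set.ncard_le_ncard ?_ (Set.toFinite _))
    rintro _ ⟨g, rfl⟩
    exact ⟨⟨g.1, EA g.2⟩, rfl⟩
  have hO : orbit A ω ⊆ s := by
    rintro _ ⟨a, rfl⟩
    refine hs x.1 x.2 _ fun e => hω (a.1.injective ?_)
    exact (congrArg (fun t : Perm Ω => t ω) (hc _ a.2 _ x.2)).trans e
  have two : 2 ≤ (orbit A ω).ncard := (Nat.le_self_pow r0.ne' 2).trans hm
  have kp : 0 < Nat.card ↥(A ⊓ stabilizer (Perm Ω) ω) := Nat.card_pos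
  have := ih _ (by rw [← hN, ← cA]; nlinarith) (A ⊓ stabilizer (Perm Ω) ω) (E ⊓ stabilizer (Perm Ω) ω) (s \ orbit A ω) k' rfl
    (fun a ha b hb => hc a ha.1 b hb.1) (hA.to_le inf_le_left)
    (fun y => by simp only [Subgroup.mem_inf, hE]; tauto) e' fun g hg y hy => ⟨hs g hg.1 y hy, by
      rintro ⟨a, rfl⟩
      refine hy ((congrArg (fun t : Perm Ω => t ω) (hc _ hg.1 _ a.2)).trans ?_)
      exact congrArg a.1 hg.2⟩
  have sum : (s.ncard : ℝ) = (orbit A ω).ncard + (s \ orbit A ω).ncard := by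
    rw [← Set.ncard_diff_add_ncard_of_subset hO (Set.toFinite _)]
    push_cast
    ring
  rw [← cA, sum, Nat.cast_mul, mul_comm]
  exact (mul_le_mul (le_div_pow r0 hm) this (by positivity) (by positivity)).trans
    (amgm _ _ (by positivity) (by positivity) r k' r0)

theorem main (p : ℕ) (hp : p.Prime) (A : Subgroup (Equiv.Perm Ω)) (hA : IsPGroup p A) (hab : IsMulCommutative A)
    (k : ℕ) (hk : Nat.card {x : A // x ^ p = 1} = p ^ k) : Nat.card A * k ^ k ≤ Fintype.card Ω ^ k := by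
  have hc : ∀ a ∈ A, ∀ b ∈ A, a * b = b * a := fun a ha b hb =>
    congrArg Subtype.val (hab.is_comm.comm (⟨a, ha⟩ : A) ⟨b, hb⟩)
  let E : Subgroup (Perm Ω) :=
    { carrier := {x | x ∈ A ∧ x ^ p = 1}
      one_mem' := ⟨one_mem _, one_pow _⟩
      mul_mem' := fun {a b} ha hb => ⟨mul_mem ha.1 hb.1, by
        rw [Commute.mul_pow (hc a ha.1 b hb.1), ha.2, hb.2, one_mul]⟩
      inv_mem' := fun {a} ha => ⟨inv_mem ha.1, by rw [inv_pow, ha.2, inv_one]⟩ }
  have cE : Nat.card E = p ^ k := hk ▸ Nat.card_congr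
    { toFun := fun g => ⟨⟨g.1, g.2.1⟩, Subtype.ext g.2.2⟩
      invFun := fun g => ⟨g.1.1, g.1.2, congrArg Subtype.val g.2⟩
      left_inv := fun _ => rfl
      right_inv := fun _ => rfl }
  have h := ind hp _ A E Set.univ k rfl hc hA (fun _ => Iff.rfl) cE fun _ _ _ _ => trivial
  rw [Set.ncard_univ, Nat.card_eq_fintype_card (α := Ω), div_pow] at h
  rcases k.eq_zero_or_pos with rfl | k0
  · simpa using h
  · rw [le_div_iff₀ (by positivity)] at h
    exact_mod_cast h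

end Cfsg.Agent.AbP
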