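import Mathlib

/-! The factorisation of the projective special linear group of dimension two in characteristic two. -/

set_option autoImplicit false

namespace Cfsg.Agent.Aba

open Matrix hiding norm_def
open QuadraticAlgebra

variable {F : Type*} [Field F] {c : F}

def lm (z : QuadraticAlgebra F c 1) : Matrix (Fin 2) (Fin 2) F := !![z.re, c * z.im; z.im, z.re + z.im]

theorem lm_mul (x y : QuadraticAlgebra F c 1) : lm (x * y) = lm x * lm y := by
  ext i j; fin_cases i <;> fin_cases j <;> simp [lm, Matrix.mul_apply, Fin.sum_univ_two] <;> ring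

def ro (c : F) : (Units.map (QuadraticAlgebra.norm : QuadraticAlgebra F c 1 →* F)).ker →* SpecialLinearGroup (Fin 2) F where
  toFun u := ⟨lm u.1.1, by
    have : QuadraticAlgebra.norm u.1.1 = 1 := congrArg Units.val u.2
    rw [norm_def] at this
    rw [lm, det_fin_two_of]; linear_combination this⟩
  map_one' := Subtype.ext (by ext i j; fin_cases i <;> fin_cases j <;> simp [lm])
  map_mul' u v := Subtype.ext (lm_mul _ _)

def tv (F : Type*) [Field F] : Multiplicative F →* SpecialLinearGroup (Fin 2) F where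
  toFun t := ⟨!![1, t.toAdd; 0, 1], by simp⟩
  map_one' := Subtype.ext (by ext i j; fin_cases i <;> fin_cases j <;> simp)
  map_mul' u v := Subtype.ext (show _ = !![1, u.toAdd; 0, 1] * !![1, v.toAdd; 0, 1] by simp [add_comm])

theorem res [Fintype F] (h2 : 2 ∣ Fintype.card F) : ∃ A B : Subgroup (ProjectiveSpecialLinearGroup (Fin 2) F),
    IsCyclic A ∧ Nat.card A = Fintype.card F + 1 ∧ IsMulCommutative B ∧ (∀ b ∈ B, b * b = 1) ∧ Nat.card B = Fintype.card F ∧
      ∀ g : ProjectiveSpecialLinearGroup (Fin 2) F, ∃ a ∈ A, ∃ b ∈ B, ∃ c ∈ A, g = a * b * c := by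
  classical
  have hr : ringChar F = 2 := FiniteField.even_card_iff_char_two.2 (by omega)
  have : CharP F 2 := ringChar.of_eq hr
  have z2 : (2 : F) = 0 := CharTwo.two_eq_zero
  obtain ⟨c, hc⟩ : ∃ c : F, ∀ r, r ^ 2 ≠ c + 1 * r := by
    by_contra h
    push Not at h
    have : Function.Surjective fun r : F => r ^ 2 - r := fun c => (h c).imp fun r e => by linear_combination e
    exact zero_ne_one (Finite.injective_iff_surjective.2 this (by simp : (fun r : F => r ^ 2 - r) 0 = (fun r : F => r ^ 2 - r) 1))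
  have := Fact.mk hc
  have : Finite (QuadraticAlgebra F c 1) := Finite.of_equiv _ (equivProd c 1).symm
  have : CharP (QuadraticAlgebra F c 1) 2 := charP_of_injective_algebraMap algebraMap_injective 2
  have sq1 : ∀ r : F, r ^ 2 = 1 → r = 1 := fun r h =>
    sub_eq_zero.1 (pow_eq_zero_iff two_ne_zero |>.1 (by linear_combination h + (1 - r) * z2))
  let π := QuotientGroup.mk' (Subgroup.center (SpecialLinearGroup (Fin 2) F))
  have πi : Function.Injective π := (injective_iff_map_eq_one _).2 fun g hg => by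
    obtain ⟨r, h1, h3⟩ := Matrix.SpecialLinearGroup.mem_center_iff.1 ((QuotientGroup.eq_one_iff g).1 hg)
    exact Subtype.ext (by rw [← h3, sq1 r (by simpa using h1)]; simp)
  have ri : Function.Injective (ro c) := fun u v e => Subtype.ext (Units.ext (QuadraticAlgebra.ext
    (congrArg (fun g : SpecialLinearGroup (Fin 2) F => g.1 0 0) e) (congrArg (fun g : SpecialLinearGroup (Fin 2) F => g.1 1 0) e)))
  have ti : Function.Injective (tv F) := fun u v e => congrArg (fun g : SpecialLinearGroup (Fin 2) F => g.1 0 1) e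
  have dv : ∀ (α : QuadraticAlgebra F c 1) (s : F), s ^ 2 = QuadraticAlgebra.norm α → ∃ m : QuadraticAlgebra F c 1, QuadraticAlgebra.norm m = 1 ∧ m * algebraMap F _ s = α := fun α s h => by
    by_cases h0 : s = 0
    · exact ⟨1, norm_one, by rw [h0, map_zero, mul_zero, (norm_eq_zero_iff_eq_zero (z := α)).1 (by rw [← h, h0]; simp)]⟩
    · exact ⟨α * algebraMap F _ s⁻¹, by rw [map_mul, QuadraticAlgebra.norm_algebraMap, ← h]; field_simp,
        by rw [mul_assoc, ← map_mul, inv_mul_cancel₀ h0, map_one, mul_one]⟩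
  refine ⟨(π.comp (ro c)).range, (π.comp (tv F)).range, isCyclic_of_surjective _ (π.comp (ro c)).rangeRestrict_surjective, ?_,
    inferInstance, ?_, by rw [← Nat.card_congr (MonoidHom.ofInjective (f := π.comp (tv F)) (πi.comp ti)).toEquiv]; simp, fun g => ?_⟩
  · rw [← Nat.card_congr (MonoidHom.ofInjective (f := π.comp (ro c)) (πi.comp ri)).toEquiv]
    have s : Function.Surjective (Units.map (QuadraticAlgebra.norm : QuadraticAlgebra F c 1 →* F)) := fun x => by
      obtain ⟨r, e⟩ := FiniteField.isSquare_of_char_two hr x.1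
      have : r ≠ 0 := fun h => x.ne_zero (by rw [e, h, zero_mul])
      exact ⟨Units.map (algebraMap F (QuadraticAlgebra F c 1)).toMonoidHom (Units.mk0 r this), Units.ext (by simp [e, sq])⟩
    have e := Subgroup.card_eq_card_quotient_mul_card_subgroup (Units.map (QuadraticAlgebra.norm : QuadraticAlgebra F c 1 →* F)).ker
    rw [Nat.card_congr (QuotientGroup.quotientKerEquivOfSurjective _ s).toEquiv, Nat.card_units, Nat.card_units,
      Nat.card_congr (equivProd c 1), Nat.card_prod, Nat.card_eq_fintype_card] at e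
    obtain ⟨k, hk⟩ : ∃ k, Fintype.card F = k + 2 := ⟨_, (Nat.sub_add_cancel Fintype.one_lt_card).symm⟩
    rw [hk] at e ⊢
    refine Nat.eq_of_mul_eq_mul_left (show 0 < k + 2 - 1 by omega) (e.symm.trans ?_)
    rw [show k + 2 - 1 = k + 1 from rfl, Nat.sub_eq_of_eq_add]; ring
  · rintro _ ⟨t, rfl⟩
    rw [← map_mul, show t * t = 1 from CharTwo.add_self_eq_zero t.toAdd, map_one]
  obtain ⟨g, rfl⟩ := QuotientGroup.mk_surjective g
  have hd := g.2
  rw [det_fin_two] at hd
  let β : QuadraticAlgebra F c 1 := ⟨g.1 0 1 + c * g.1 1 0, g.1 1 0 + g.1 0 0 + g.1 1 1⟩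
  let α : QuadraticAlgebra F c 1 := ⟨g.1 0 0 + g.1 0 1 + c * g.1 1 0, g.1 0 0 + g.1 1 1⟩
  obtain ⟨t, ht⟩ := FiniteField.isSquare_of_char_two hr (QuadraticAlgebra.norm β)
  obtain ⟨n, n1, n2⟩ := dv β t (by rw [ht, sq])
  obtain ⟨m, m1, m2⟩ := dv α (1 + t) (by
    rw [norm_def] at ht ⊢
    simp only [α, β] at ht ⊢
    linear_combination -hd - ht + (t - (g.1 0 1 + c * g.1 1 0) * g.1 0 0 - g.1 0 0 ^ 2 - c * (g.1 0 0 + g.1 1 1) * g.1 1 0) * z2)
  have := Fintype.ofFinite (QuadraticAlgebra F c 1)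
  obtain ⟨u, hu⟩ := FiniteField.isSquare_of_char_two (ringChar.eq _ 2) (m * n)
  have u1 : QuadraticAlgebra.norm u = 1 := sq1 _ (by rw [sq, ← map_mul, ← hu, map_mul, m1, n1, mul_one])
  have us : u * star u = 1 := by rw [← algebraMap_norm_eq_mul_star, u1, map_one]
  have ms : m * star m = 1 := by rw [← algebraMap_norm_eq_mul_star, m1, map_one]
  have k : ∀ x : QuadraticAlgebra F c 1, QuadraticAlgebra.norm x = 1 → ∃ y : (Units.map (QuadraticAlgebra.norm : QuadraticAlgebra F c 1 →* F)).ker, y.1.1 = x :=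
    fun x h => ⟨⟨Units.mk0 x fun e => by simp [e] at h, Units.ext h⟩, rfl⟩
  obtain ⟨a, ha⟩ := k u u1
  obtain ⟨b, hb⟩ := k (m * star u) (by rw [map_mul, m1, QuadraticAlgebra.norm_star, u1, mul_one])
  refine ⟨_, ⟨a, rfl⟩, _, ⟨Multiplicative.ofAdd t, rfl⟩, _, ⟨b, rfl⟩, congrArg π (Subtype.ext ?_)⟩
  show g.1 = lm a.1.1 * !![1, t; 0, 1] * lm b.1.1
  have e1 : ∀ x y : QuadraticAlgebra F c 1, lm x * !![1, t; 0, 1] * lm y =
      lm (x * y * algebraMap F _ (1 + t)) + lm (x * star y * algebraMap F _ t) * !![1, 1; 0, 1] := fun x y => by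
    ext i j; fin_cases i <;> fin_cases j <;> simp [lm, Matrix.mul_apply, Fin.sum_univ_two] <;> ring_nf <;> reduce_mod_char!
  rw [e1, ha, hb, show u * (m * star u) = m by linear_combination m * us, m2,
    show u * star (m * star u) = n by rw [star_mul', star_star]; linear_combination n * ms - star m * hu, n2]
  ext i j; fin_cases i <;> fin_cases j <;> simp [lm, α, β, Matrix.mul_apply, Fin.sum_univ_two] <;> ring_nf <;> reduce_mod_char!

end Cfsg.Agent.Aba
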