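import Cfsg.Agent.Lib.J2.Enum
import Cfsg.Agent.Lib.PU.Tv1

/-! The centraliser of a reflection in the Hall-Janko group. -/

set_option autoImplicit false
set_option maxRecDepth 100000

namespace Cfsg.Agent.Ct.J2c

open Cfsg.Agent.PC Cfsg.Agent.Fi MulAction Subgroup
open Cfsg.Agent.J2 (bs bs_reps bs_inj B0 TB ord_of)
open scoped Pointwise

def W_t : TL := (TL.node (TL.node (TL.node (TL.node (TL.leaf [nat_lit 2]) (TL.leaf [nat_lit 2, nat_lit 3, nat_lit 0, nat_lit 1, nat_lit 3, nat_lit 0, nat_lit 2, nat_lit 3, nat_lit 0, nat_lit 1, nat_lit 3, nat_lit 0])) (TL.node (TL.leaf [nat_lit 0, nat_lit 3, nat_lit 0, nat_lit 2, nat_lit 0, nat_lit 1, nat_lit 3, nat_lit 0, nat_lit 1, nat_lit 3, nat_lit 0, nat_lit 3, nat_lit 1, nat_lit 0, nat_lit 3, nat_lit 1, nat_lit 0, nat_lit 2, nat_lit 0, nat_lit 3, nat_lit 0]) (TL.leaf []))) (TL.node (TL.node (TL.leaf [nat_lit 3, nat_lit 2, nat_lit 3]) (TL.leaf [])) (TL.node (TL.leaf [nat_lit 0, nat_lit 1, nat_lit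 3, nat_lit 0, nat_lit 3, nat_lit 1, nat_lit 2, nat_lit 0, nat_lit 3, nat_lit 1, nat_lit 2, nat_lit 0, nat_lit 3, nat_lit 0, nat_lit 1, nat_lit 3]) (TL.leaf [])))) (TL.node (TL.node (TL.node (TL.leaf [nat_lit 1]) (TL.leaf [])) (TL.node (TL.leaf [nat_lit 3, nat_lit 1, nat_lit 0, nat_lit 3, nat_lit 2, nat_lit 0, nat_lit 3, nat_lit 1, nat_lit 0, nat_lit 3, nat_lit 1, nat_lit 0, nat_lit 2, nat_lit 0, nat_lit 3]) (TL.leaf []))) (TL.node (TL.node (TL.leaf [nat_lit 0, nat_lit 2, nat_lit 0]) (TL.leaf [])) (TL.node (TL.leaf [nat_lit 0, nat_lit 1, nat_lit 2, nat_lit 3, nat_lit 0, nat_lit 1, nat_lit 3, nat_lit 2, nat_lit 0, nat_lit 1, nat_lit 2, nat_lit 3, nat_lit 0, nat_lit 1, nat_lit 0, nat_lit 3, nat_lit 0]) (TL.leaf [])))))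
noncomputable def W (i : ℕ) : List ℕ := TL.get W_t i
def Qf_t : TN := (TN.node (TN.node (TN.node (TN.node (TN.leaf (nat_lit 0x7f0c394049d3446ed869e24a51b014881e200a991374e4d2062bac240cd044f2a96d5e2e30dbc50cc8d51639a961ebe81d7a7ec845aec0ab)) (TN.leaf (nat_lit 0x6121c04b296e897ce98a77f0c8548c820d0bf450c966a578e727e047112d92849307ad1418e03018d75eb42c38db8b0cdb264889b76aac62))) (TN.node (TN.leaf (nat_lit 0x29508a61e3900c1684488067cf040e00082198b0b22eeaedc2680283530e1287efa2ce7340e9b1d28b4812228b8ad54a90a7497b3777a7c4)) (TN.leaf (nat_lit 0xaa7469444189346101727145476073714c24cb0cb588424d1045a5460620bd6ba948d1b698f82a4f18d46e51fa79e56f62552d6c836629ce)))) (TN.node (TN.node (TN.leaf (nat_lit 0xb75715eaf5ad54a74a8e36a587af1c10481182e2b47c905207f0cabc34b519e6eda7c424a532a98add055cc191306c41427200c4010e030d)) (TN.leaf (nat_lit 0x3c0e32b3e9d62f3a2b72911a96a581a3cc35db3dc57818890a8dcb30b6eda5094e9a224e854402d599b946cd552491043e8e31c73299c3))) (TN.node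 (TN.leaf (nat_lit 0x75660ab58aadd71498f206214da412964cf42d0cbdbf1ac43c14b0d59c386cd8e9cfe3bd41104991246292e30bebf05b3766c5a2f86c9c92)) (TN.leaf (nat_lit 0x383e5cc))))) (TN.node (TN.node (TN.node (TN.leaf (nat_lit 0xeec8212f39e9450cc8999b2ce478d0649f367564a4e9642292b30d7be62edca8642a1c14885ba75a889391e341972b1c89d362b87d02642)) (TN.leaf (nat_lit 0x1e021025cc463b5e420ac9301c47bf631db7cc9f9e4e042a174183cc12286b09a90726893b0d66ed629778f4b4fa55ca94a781b343014d23))) (TN.node (TN.leaf (nat_lit 0x7ea68d0811e318972b1c89d362acae72f4fa7816a8566eae2b975259b75ad2ab095ec476c293c2a41735326850d0c14ec274891cc2e59393)) (TN.leaf (nat_lit 0x54780df42cf18082f6bd86c1e9da78c501a6f167844691fc75b0d2beba0dc3a181544e2f219083662b61c425d8b9a46f2fb24cfd4a5415db)))) (TN.node (TN.node (TN.leaf (nat_lit 0x6ed98b47981ab07ab90ac00aabd43070d191a896da1e7a6a69895227bf26092b6508c03f2d1e30c1e3c6142ec84b0080aba1670e0bf62edc)) (TN.leaf (nat_lit 0x5169619b84da6016ba0478b85a967cc9204b22559d9329492450a6d54141d905e3209c7119c9a6cf6257670efa3b0c06874215d4c3c2830e)))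 (TN.node (TN.leaf (nat_lit 0x498f22aaac601853651d10008932e1db5c536971550cc832a64a886383c6039728e81165a28229096c07ef0c3e70bdcbb6f75a9aad511b0)) (TN.leaf (nat_lit 0x0))))))
noncomputable def Qf (i : ℕ) : ℕ := get2 Qf_t (nat_lit 7) (nat_lit 0x7f) i
noncomputable def Q (j c : ℕ) : ℕ := Qf (Nat.add (Nat.mul j (nat_lit 100)) c)
def R_t : TL := (TL.node (TL.node (TL.node (TL.node (TL.node (TL.node (TL.node (TL.node (TL.leaf []) (TL.leaf [nat_lit 0])) (TL.node (TL.leaf [nat_lit 0]) (TL.leaf [nat_lit 0]))) (TL.node (TL.node (TL.leaf [nat_lit 0]) (TL.leaf [nat_lit 0])) (TL.node (TL.leaf [nat_lit 0]) (TL.leaf [])))) (TL.node (TL.node (TL.node (TL.leaf []) (TL.leaf [])) (TL.node (TL.leaf []) (TL.leaf []))) (TL.node (TL.node (TL.leaf []) (TL.leaf [])) (TL.node (TL.leaf []) (TL.leaf []))))) (TL.node (TL.node (TL.node (TL.node (TL.leaf []) (TL.leaf [])) (TL.node (TL.leaf []) (TL.leaf []))) (TL.node (TL.node (TL.leaf []) (TL.leaf [])) (TL.node (TL.leaf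 []) (TL.leaf [])))) (TL.node (TL.node (TL.node (TL.leaf []) (TL.leaf [])) (TL.node (TL.leaf []) (TL.leaf []))) (TL.node (TL.node (TL.leaf []) (TL.leaf [])) (TL.node (TL.leaf []) (TL.leaf [])))))) (TL.node (TL.node (TL.node (TL.node (TL.node (TL.leaf []) (TL.leaf [])) (TL.node (TL.leaf []) (TL.leaf [nat_lit 0, nat_lit 2]))) (TL.node (TL.node (TL.leaf []) (TL.leaf [nat_lit 1, nat_lit 2, nat_lit 4, nat_lit 3])) (TL.node (TL.leaf []) (TL.leaf [])))) (TL.node (TL.node (TL.node (TL.leaf []) (TL.leaf [])) (TL.node (TL.leaf []) (TL.leaf []))) (TL.node (TL.node (TL.leaf []) (TL.leaf [])) (TL.node (TL.leaf []) (TL.leaf []))))) (TL.node (TL.node (TL.node (TL.node (TL.leaf []) (TL.leaf [])) (TL.node (TL.leaf []) (TL.leaf []))) (TL.node (TL.node (TL.leaf []) (TL.leaf [])) (TL.node (TL.leaf []) (TL.leaf [])))) (TL.node (TL.node (TL.node (TL.leaf []) (TL.leaf [])) (TL.node (TL.leaf []) (TL.leaf []))) (TL.node (TL.node (TL.leaf []) (TL.leaf [])) (TL.node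 (TL.leaf []) (TL.leaf []))))))) (TL.node (TL.node (TL.node (TL.node (TL.node (TL.node (TL.leaf []) (TL.leaf [nat_lit 0, nat_lit 2])) (TL.node (TL.leaf []) (TL.leaf [nat_lit 0, nat_lit 4]))) (TL.node (TL.node (TL.leaf []) (TL.leaf [nat_lit 0, nat_lit 3])) (TL.node (TL.leaf [nat_lit 0, nat_lit 2]) (TL.leaf [])))) (TL.node (TL.node (TL.node (TL.leaf []) (TL.leaf [])) (TL.node (TL.leaf []) (TL.leaf []))) (TL.node (TL.node (TL.leaf []) (TL.leaf [])) (TL.node (TL.leaf []) (TL.leaf []))))) (TL.node (TL.node (TL.node (TL.node (TL.leaf []) (TL.leaf [])) (TL.node (TL.leaf []) (TL.leaf []))) (TL.node (TL.node (TL.leaf []) (TL.leaf [])) (TL.node (TL.leaf []) (TL.leaf [])))) (TL.node (TL.node (TL.node (TL.leaf []) (TL.leaf [])) (TL.node (TL.leaf []) (TL.leaf []))) (TL.node (TL.node (TL.leaf []) (TL.leaf [])) (TL.node (TL.leaf []) (TL.leaf [])))))) (TL.node (TL.node (TL.node (TL.node (TL.node (TL.leaf []) (TL.leaf [])) (TL.node (TL.leaf []) (TL.leaf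 []))) (TL.node (TL.node (TL.leaf []) (TL.leaf [])) (TL.node (TL.leaf []) (TL.leaf [])))) (TL.node (TL.node (TL.node (TL.leaf []) (TL.leaf [])) (TL.node (TL.leaf []) (TL.leaf []))) (TL.node (TL.node (TL.leaf []) (TL.leaf [])) (TL.node (TL.leaf []) (TL.leaf []))))) (TL.node (TL.node (TL.node (TL.node (TL.leaf []) (TL.leaf [])) (TL.node (TL.leaf []) (TL.leaf []))) (TL.node (TL.node (TL.leaf []) (TL.leaf [])) (TL.node (TL.leaf []) (TL.leaf [])))) (TL.node (TL.node (TL.node (TL.leaf []) (TL.leaf [])) (TL.node (TL.leaf []) (TL.leaf []))) (TL.node (TL.node (TL.leaf []) (TL.leaf [])) (TL.node (TL.leaf []) (TL.leaf [])))))))) (TL.node (TL.node (TL.node (TL.node (TL.node (TL.node (TL.node (TL.leaf []) (TL.leaf [nat_lit 0, nat_lit 1])) (TL.node (TL.leaf [nat_lit 0, nat_lit 1]) (TL.leaf [nat_lit 1]))) (TL.node (TL.node (TL.leaf []) (TL.leaf [nat_lit 1])) (TL.node (TL.leaf [nat_lit 0, nat_lit 1]) (TL.leaf [])))) (TL.node (TL.node (TL.node (TL.leaf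 []) (TL.leaf [])) (TL.node (TL.leaf []) (TL.leaf []))) (TL.node (TL.node (TL.leaf []) (TL.leaf [])) (TL.node (TL.leaf []) (TL.leaf []))))) (TL.node (TL.node (TL.node (TL.node (TL.leaf []) (TL.leaf [])) (TL.node (TL.leaf []) (TL.leaf []))) (TL.node (TL.node (TL.leaf []) (TL.leaf [])) (TL.node (TL.leaf []) (TL.leaf [])))) (TL.node (TL.node (TL.node (TL.leaf []) (TL.leaf [])) (TL.node (TL.leaf []) (TL.leaf []))) (TL.node (TL.node (TL.leaf []) (TL.leaf [])) (TL.node (TL.leaf []) (TL.leaf [])))))) (TL.node (TL.node (TL.node (TL.node (TL.node (TL.leaf []) (TL.leaf [])) (TL.node (TL.leaf []) (TL.leaf [nat_lit 0, nat_lit 5]))) (TL.node (TL.node (TL.leaf []) (TL.leaf [nat_lit 0, nat_lit 1])) (TL.node (TL.leaf []) (TL.leaf [])))) (TL.node (TL.node (TL.node (TL.leaf []) (TL.leaf [])) (TL.node (TL.leaf []) (TL.leaf []))) (TL.node (TL.node (TL.leaf []) (TL.leaf [])) (TL.node (TL.leaf []) (TL.leaf []))))) (TL.node (TL.node (TL.node (TL.node (TL.leaf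 []) (TL.leaf [])) (TL.node (TL.leaf []) (TL.leaf []))) (TL.node (TL.node (TL.leaf []) (TL.leaf [])) (TL.node (TL.leaf []) (TL.leaf [])))) (TL.node (TL.node (TL.node (TL.leaf []) (TL.leaf [])) (TL.node (TL.leaf []) (TL.leaf []))) (TL.node (TL.node (TL.leaf []) (TL.leaf [])) (TL.node (TL.leaf []) (TL.leaf []))))))) (TL.node (TL.node (TL.node (TL.node (TL.node (TL.node (TL.leaf []) (TL.leaf [nat_lit 0, nat_lit 3])) (TL.node (TL.leaf []) (TL.leaf [nat_lit 1, nat_lit 2, nat_lit 4, nat_lit 3]))) (TL.node (TL.node (TL.leaf []) (TL.leaf [nat_lit 2])) (TL.node (TL.leaf []) (TL.leaf [])))) (TL.node (TL.node (TL.node (TL.leaf []) (TL.leaf [])) (TL.node (TL.leaf []) (TL.leaf []))) (TL.node (TL.node (TL.leaf []) (TL.leaf [])) (TL.node (TL.leaf []) (TL.leaf []))))) (TL.node (TL.node (TL.node (TL.node (TL.leaf []) (TL.leaf [])) (TL.node (TL.leaf []) (TL.leaf []))) (TL.node (TL.node (TL.leaf []) (TL.leaf [])) (TL.node (TL.leaf []) (TL.leaf [])))) (TL.node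 (TL.node (TL.node (TL.leaf []) (TL.leaf [])) (TL.node (TL.leaf []) (TL.leaf []))) (TL.node (TL.node (TL.leaf []) (TL.leaf [])) (TL.node (TL.leaf []) (TL.leaf [])))))) (TL.node (TL.node (TL.node (TL.node (TL.node (TL.leaf []) (TL.leaf [])) (TL.node (TL.leaf []) (TL.leaf []))) (TL.node (TL.node (TL.leaf []) (TL.leaf [])) (TL.node (TL.leaf []) (TL.leaf [])))) (TL.node (TL.node (TL.node (TL.leaf []) (TL.leaf [])) (TL.node (TL.leaf []) (TL.leaf []))) (TL.node (TL.node (TL.leaf []) (TL.leaf [])) (TL.node (TL.leaf []) (TL.leaf []))))) (TL.node (TL.node (TL.node (TL.node (TL.leaf []) (TL.leaf [])) (TL.node (TL.leaf []) (TL.leaf []))) (TL.node (TL.node (TL.leaf []) (TL.leaf [])) (TL.node (TL.leaf []) (TL.leaf [])))) (TL.node (TL.node (TL.node (TL.leaf []) (TL.leaf [])) (TL.node (TL.leaf []) (TL.leaf []))) (TL.node (TL.node (TL.leaf []) (TL.leaf [])) (TL.node (TL.leaf []) (TL.leaf [])))))))))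
noncomputable def R (i : ℕ) : List ℕ := TL.get R_t i
def U_t : TL := (TL.node (TL.node (TL.node (TL.node (TL.node (TL.node (TL.node (TL.node (TL.node (TL.leaf [nat_lit 0]) (TL.leaf [nat_lit 0])) (TL.node (TL.leaf [nat_lit 0]) (TL.leaf []))) (TL.node (TL.node (TL.leaf [nat_lit 0]) (TL.leaf [])) (TL.node (TL.leaf [nat_lit 0]) (TL.leaf [])))) (TL.node (TL.node (TL.node (TL.leaf [nat_lit 0]) (TL.leaf [])) (TL.node (TL.leaf [nat_lit 0]) (TL.leaf []))) (TL.node (TL.node (TL.leaf [nat_lit 0]) (TL.leaf [])) (TL.node (TL.leaf [nat_lit 0]) (TL.leaf []))))) (TL.node (TL.node (TL.node (TL.node (TL.leaf []) (TL.leaf [])) (TL.node (TL.leaf []) (TL.leaf []))) (TL.node (TL.node (TL.leaf []) (TL.leaf [])) (TL.node (TL.leaf []) (TL.leaf [])))) (TL.node (TL.node (TL.node (TL.leaf []) (TL.leaf [])) (TL.node (TL.leaf []) (TL.leaf []))) (TL.node (TL.node (TL.leaf []) (TL.leaf [])) (TL.node (TL.leaf []) (TL.leaf [])))))) (TL.node (TL.node (TL.node (TL.node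 (TL.node (TL.leaf []) (TL.leaf [])) (TL.node (TL.leaf []) (TL.leaf []))) (TL.node (TL.node (TL.leaf []) (TL.leaf [])) (TL.node (TL.leaf []) (TL.leaf [])))) (TL.node (TL.node (TL.node (TL.leaf []) (TL.leaf [])) (TL.node (TL.leaf []) (TL.leaf []))) (TL.node (TL.node (TL.leaf []) (TL.leaf [])) (TL.node (TL.leaf []) (TL.leaf []))))) (TL.node (TL.node (TL.node (TL.node (TL.leaf []) (TL.leaf [])) (TL.node (TL.leaf []) (TL.leaf []))) (TL.node (TL.node (TL.leaf []) (TL.leaf [])) (TL.node (TL.leaf []) (TL.leaf [])))) (TL.node (TL.node (TL.node (TL.leaf []) (TL.leaf [])) (TL.node (TL.leaf []) (TL.leaf []))) (TL.node (TL.node (TL.leaf []) (TL.leaf [])) (TL.node (TL.leaf []) (TL.leaf []))))))) (TL.node (TL.node (TL.node (TL.node (TL.node (TL.node (TL.leaf [nat_lit 4]) (TL.leaf [nat_lit 0, nat_lit 1])) (TL.node (TL.leaf [nat_lit 4]) (TL.leaf []))) (TL.node (TL.node (TL.leaf [nat_lit 0, nat_lit 4]) (TL.leaf [])) (TL.node (TL.leaf [nat_lit 0, nat_lit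 2]) (TL.leaf [])))) (TL.node (TL.node (TL.node (TL.leaf [nat_lit 0, nat_lit 4]) (TL.leaf [])) (TL.node (TL.leaf [nat_lit 1, nat_lit 2, nat_lit 4, nat_lit 3]) (TL.leaf []))) (TL.node (TL.node (TL.leaf [nat_lit 0, nat_lit 4]) (TL.leaf [])) (TL.node (TL.leaf [nat_lit 4]) (TL.leaf []))))) (TL.node (TL.node (TL.node (TL.node (TL.leaf []) (TL.leaf [])) (TL.node (TL.leaf []) (TL.leaf []))) (TL.node (TL.node (TL.leaf []) (TL.leaf [])) (TL.node (TL.leaf []) (TL.leaf [])))) (TL.node (TL.node (TL.node (TL.leaf []) (TL.leaf [])) (TL.node (TL.leaf []) (TL.leaf []))) (TL.node (TL.node (TL.leaf []) (TL.leaf [])) (TL.node (TL.leaf []) (TL.leaf [])))))) (TL.node (TL.node (TL.node (TL.node (TL.node (TL.leaf []) (TL.leaf [])) (TL.node (TL.leaf []) (TL.leaf []))) (TL.node (TL.node (TL.leaf []) (TL.leaf [])) (TL.node (TL.leaf []) (TL.leaf [])))) (TL.node (TL.node (TL.node (TL.leaf []) (TL.leaf [])) (TL.node (TL.leaf []) (TL.leaf []))) (TL.node (TL.node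 (TL.leaf []) (TL.leaf [])) (TL.node (TL.leaf []) (TL.leaf []))))) (TL.node (TL.node (TL.node (TL.node (TL.leaf []) (TL.leaf [])) (TL.node (TL.leaf []) (TL.leaf []))) (TL.node (TL.node (TL.leaf []) (TL.leaf [])) (TL.node (TL.leaf []) (TL.leaf [])))) (TL.node (TL.node (TL.node (TL.leaf []) (TL.leaf [])) (TL.node (TL.leaf []) (TL.leaf []))) (TL.node (TL.node (TL.leaf []) (TL.leaf [])) (TL.node (TL.leaf []) (TL.leaf [])))))))) (TL.node (TL.node (TL.node (TL.node (TL.node (TL.node (TL.node (TL.leaf [nat_lit 2]) (TL.leaf [nat_lit 3])) (TL.node (TL.leaf [nat_lit 0, nat_lit 2]) (TL.leaf []))) (TL.node (TL.node (TL.leaf [nat_lit 2]) (TL.leaf [])) (TL.node (TL.leaf [nat_lit 0, nat_lit 4]) (TL.leaf [])))) (TL.node (TL.node (TL.node (TL.leaf [nat_lit 0, nat_lit 2]) (TL.leaf [])) (TL.node (TL.leaf [nat_lit 0, nat_lit 3]) (TL.leaf []))) (TL.node (TL.node (TL.leaf [nat_lit 0, nat_lit 2]) (TL.leaf [])) (TL.node (TL.leaf [nat_lit 3]) (TL.leaf [])))))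 (TL.node (TL.node (TL.node (TL.node (TL.leaf []) (TL.leaf [])) (TL.node (TL.leaf []) (TL.leaf []))) (TL.node (TL.node (TL.leaf []) (TL.leaf [])) (TL.node (TL.leaf []) (TL.leaf [])))) (TL.node (TL.node (TL.node (TL.leaf []) (TL.leaf [])) (TL.node (TL.leaf []) (TL.leaf []))) (TL.node (TL.node (TL.leaf []) (TL.leaf [])) (TL.node (TL.leaf []) (TL.leaf [])))))) (TL.node (TL.node (TL.node (TL.node (TL.node (TL.leaf []) (TL.leaf [])) (TL.node (TL.leaf []) (TL.leaf []))) (TL.node (TL.node (TL.leaf []) (TL.leaf [])) (TL.node (TL.leaf []) (TL.leaf [])))) (TL.node (TL.node (TL.node (TL.leaf []) (TL.leaf [])) (TL.node (TL.leaf []) (TL.leaf []))) (TL.node (TL.node (TL.leaf []) (TL.leaf [])) (TL.node (TL.leaf []) (TL.leaf []))))) (TL.node (TL.node (TL.node (TL.node (TL.leaf []) (TL.leaf [])) (TL.node (TL.leaf []) (TL.leaf []))) (TL.node (TL.node (TL.leaf []) (TL.leaf [])) (TL.node (TL.leaf []) (TL.leaf [])))) (TL.node (TL.node (TL.node (TL.leaf [])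 (TL.leaf [])) (TL.node (TL.leaf []) (TL.leaf []))) (TL.node (TL.node (TL.leaf []) (TL.leaf [])) (TL.node (TL.leaf []) (TL.leaf []))))))) (TL.node (TL.node (TL.node (TL.node (TL.node (TL.node (TL.leaf []) (TL.leaf [])) (TL.node (TL.leaf []) (TL.leaf []))) (TL.node (TL.node (TL.leaf []) (TL.leaf [])) (TL.node (TL.leaf []) (TL.leaf [])))) (TL.node (TL.node (TL.node (TL.leaf []) (TL.leaf [])) (TL.node (TL.leaf []) (TL.leaf []))) (TL.node (TL.node (TL.leaf []) (TL.leaf [])) (TL.node (TL.leaf []) (TL.leaf []))))) (TL.node (TL.node (TL.node (TL.node (TL.leaf []) (TL.leaf [])) (TL.node (TL.leaf []) (TL.leaf []))) (TL.node (TL.node (TL.leaf []) (TL.leaf [])) (TL.node (TL.leaf []) (TL.leaf [])))) (TL.node (TL.node (TL.node (TL.leaf []) (TL.leaf [])) (TL.node (TL.leaf []) (TL.leaf []))) (TL.node (TL.node (TL.leaf []) (TL.leaf [])) (TL.node (TL.leaf []) (TL.leaf [])))))) (TL.node (TL.node (TL.node (TL.node (TL.node (TL.leaf []) (TL.leaf [])) (TL.node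 (TL.leaf []) (TL.leaf []))) (TL.node (TL.node (TL.leaf []) (TL.leaf [])) (TL.node (TL.leaf []) (TL.leaf [])))) (TL.node (TL.node (TL.node (TL.leaf []) (TL.leaf [])) (TL.node (TL.leaf []) (TL.leaf []))) (TL.node (TL.node (TL.leaf []) (TL.leaf [])) (TL.node (TL.leaf []) (TL.leaf []))))) (TL.node (TL.node (TL.node (TL.node (TL.leaf []) (TL.leaf [])) (TL.node (TL.leaf []) (TL.leaf []))) (TL.node (TL.node (TL.leaf []) (TL.leaf [])) (TL.node (TL.leaf []) (TL.leaf [])))) (TL.node (TL.node (TL.node (TL.leaf []) (TL.leaf [])) (TL.node (TL.leaf []) (TL.leaf []))) (TL.node (TL.node (TL.leaf []) (TL.leaf [])) (TL.node (TL.leaf []) (TL.leaf []))))))))) (TL.node (TL.node (TL.node (TL.node (TL.node (TL.node (TL.node (TL.node (TL.leaf [nat_lit 1]) (TL.leaf [nat_lit 1, nat_lit 2, nat_lit 4, nat_lit 3])) (TL.node (TL.leaf [nat_lit 0, nat_lit 1]) (TL.leaf []))) (TL.node (TL.node (TL.leaf [nat_lit 0, nat_lit 1]) (TL.leaf [])) (TL.node (TL.leaf [nat_lit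 1]) (TL.leaf [])))) (TL.node (TL.node (TL.node (TL.leaf [nat_lit 1]) (TL.leaf [])) (TL.node (TL.leaf [nat_lit 1]) (TL.leaf []))) (TL.node (TL.node (TL.leaf [nat_lit 0, nat_lit 1]) (TL.leaf [])) (TL.node (TL.leaf [nat_lit 1]) (TL.leaf []))))) (TL.node (TL.node (TL.node (TL.node (TL.leaf []) (TL.leaf [])) (TL.node (TL.leaf []) (TL.leaf []))) (TL.node (TL.node (TL.leaf []) (TL.leaf [])) (TL.node (TL.leaf []) (TL.leaf [])))) (TL.node (TL.node (TL.node (TL.leaf []) (TL.leaf [])) (TL.node (TL.leaf []) (TL.leaf []))) (TL.node (TL.node (TL.leaf []) (TL.leaf [])) (TL.node (TL.leaf []) (TL.leaf [])))))) (TL.node (TL.node (TL.node (TL.node (TL.node (TL.leaf []) (TL.leaf [])) (TL.node (TL.leaf []) (TL.leaf []))) (TL.node (TL.node (TL.leaf []) (TL.leaf [])) (TL.node (TL.leaf []) (TL.leaf [])))) (TL.node (TL.node (TL.node (TL.leaf []) (TL.leaf [])) (TL.node (TL.leaf []) (TL.leaf []))) (TL.node (TL.node (TL.leaf []) (TL.leaf [])) (TL.node (TL.leaf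 []) (TL.leaf []))))) (TL.node (TL.node (TL.node (TL.node (TL.leaf []) (TL.leaf [])) (TL.node (TL.leaf []) (TL.leaf []))) (TL.node (TL.node (TL.leaf []) (TL.leaf [])) (TL.node (TL.leaf []) (TL.leaf [])))) (TL.node (TL.node (TL.node (TL.leaf []) (TL.leaf [])) (TL.node (TL.leaf []) (TL.leaf []))) (TL.node (TL.node (TL.leaf []) (TL.leaf [])) (TL.node (TL.leaf []) (TL.leaf []))))))) (TL.node (TL.node (TL.node (TL.node (TL.node (TL.node (TL.leaf []) (TL.leaf [])) (TL.node (TL.leaf []) (TL.leaf []))) (TL.node (TL.node (TL.leaf []) (TL.leaf [])) (TL.node (TL.leaf []) (TL.leaf [])))) (TL.node (TL.node (TL.node (TL.leaf []) (TL.leaf [])) (TL.node (TL.leaf []) (TL.leaf []))) (TL.node (TL.node (TL.leaf []) (TL.leaf [])) (TL.node (TL.leaf []) (TL.leaf []))))) (TL.node (TL.node (TL.node (TL.node (TL.leaf []) (TL.leaf [])) (TL.node (TL.leaf []) (TL.leaf []))) (TL.node (TL.node (TL.leaf []) (TL.leaf [])) (TL.node (TL.leaf []) (TL.leaf [])))) (TL.node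 (TL.node (TL.node (TL.leaf []) (TL.leaf [])) (TL.node (TL.leaf []) (TL.leaf []))) (TL.node (TL.node (TL.leaf []) (TL.leaf [])) (TL.node (TL.leaf []) (TL.leaf [])))))) (TL.node (TL.node (TL.node (TL.node (TL.node (TL.leaf []) (TL.leaf [])) (TL.node (TL.leaf []) (TL.leaf []))) (TL.node (TL.node (TL.leaf []) (TL.leaf [])) (TL.node (TL.leaf []) (TL.leaf [])))) (TL.node (TL.node (TL.node (TL.leaf []) (TL.leaf [])) (TL.node (TL.leaf []) (TL.leaf []))) (TL.node (TL.node (TL.leaf []) (TL.leaf [])) (TL.node (TL.leaf []) (TL.leaf []))))) (TL.node (TL.node (TL.node (TL.node (TL.leaf []) (TL.leaf [])) (TL.node (TL.leaf []) (TL.leaf []))) (TL.node (TL.node (TL.leaf []) (TL.leaf [])) (TL.node (TL.leaf []) (TL.leaf [])))) (TL.node (TL.node (TL.node (TL.leaf []) (TL.leaf [])) (TL.node (TL.leaf []) (TL.leaf []))) (TL.node (TL.node (TL.leaf []) (TL.leaf [])) (TL.node (TL.leaf []) (TL.leaf [])))))))) (TL.node (TL.node (TL.node (TL.node (TL.node (TL.node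 (TL.node (TL.leaf [nat_lit 3]) (TL.leaf [nat_lit 4])) (TL.node (TL.leaf [nat_lit 0, nat_lit 3]) (TL.leaf []))) (TL.node (TL.node (TL.leaf [nat_lit 0, nat_lit 3]) (TL.leaf [])) (TL.node (TL.leaf [nat_lit 1, nat_lit 2, nat_lit 4, nat_lit 3]) (TL.leaf [])))) (TL.node (TL.node (TL.node (TL.leaf [nat_lit 0, nat_lit 3]) (TL.leaf [])) (TL.node (TL.leaf [nat_lit 2]) (TL.leaf []))) (TL.node (TL.node (TL.leaf [nat_lit 3]) (TL.leaf [])) (TL.node (TL.leaf [nat_lit 1, nat_lit 2, nat_lit 4, nat_lit 3]) (TL.leaf []))))) (TL.node (TL.node (TL.node (TL.node (TL.leaf []) (TL.leaf [])) (TL.node (TL.leaf []) (TL.leaf []))) (TL.node (TL.node (TL.leaf []) (TL.leaf [])) (TL.node (TL.leaf []) (TL.leaf [])))) (TL.node (TL.node (TL.node (TL.leaf []) (TL.leaf [])) (TL.node (TL.leaf []) (TL.leaf []))) (TL.node (TL.node (TL.leaf []) (TL.leaf [])) (TL.node (TL.leaf []) (TL.leaf [])))))) (TL.node (TL.node (TL.node (TL.node (TL.node (TL.leaf []) (TL.leaf [])) (TL.node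 (TL.leaf []) (TL.leaf []))) (TL.node (TL.node (TL.leaf []) (TL.leaf [])) (TL.node (TL.leaf []) (TL.leaf [])))) (TL.node (TL.node (TL.node (TL.leaf []) (TL.leaf [])) (TL.node (TL.leaf []) (TL.leaf []))) (TL.node (TL.node (TL.leaf []) (TL.leaf [])) (TL.node (TL.leaf []) (TL.leaf []))))) (TL.node (TL.node (TL.node (TL.node (TL.leaf []) (TL.leaf [])) (TL.node (TL.leaf []) (TL.leaf []))) (TL.node (TL.node (TL.leaf []) (TL.leaf [])) (TL.node (TL.leaf []) (TL.leaf [])))) (TL.node (TL.node (TL.node (TL.leaf []) (TL.leaf [])) (TL.node (TL.leaf []) (TL.leaf []))) (TL.node (TL.node (TL.leaf []) (TL.leaf [])) (TL.node (TL.leaf []) (TL.leaf []))))))) (TL.node (TL.node (TL.node (TL.node (TL.node (TL.node (TL.leaf []) (TL.leaf [])) (TL.node (TL.leaf []) (TL.leaf []))) (TL.node (TL.node (TL.leaf []) (TL.leaf [])) (TL.node (TL.leaf []) (TL.leaf [])))) (TL.node (TL.node (TL.node (TL.leaf []) (TL.leaf [])) (TL.node (TL.leaf []) (TL.leaf []))) (TL.node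 (TL.node (TL.leaf []) (TL.leaf [])) (TL.node (TL.leaf []) (TL.leaf []))))) (TL.node (TL.node (TL.node (TL.node (TL.leaf []) (TL.leaf [])) (TL.node (TL.leaf []) (TL.leaf []))) (TL.node (TL.node (TL.leaf []) (TL.leaf [])) (TL.node (TL.leaf []) (TL.leaf [])))) (TL.node (TL.node (TL.node (TL.leaf []) (TL.leaf [])) (TL.node (TL.leaf []) (TL.leaf []))) (TL.node (TL.node (TL.leaf []) (TL.leaf [])) (TL.node (TL.leaf []) (TL.leaf [])))))) (TL.node (TL.node (TL.node (TL.node (TL.node (TL.leaf []) (TL.leaf [])) (TL.node (TL.leaf []) (TL.leaf []))) (TL.node (TL.node (TL.leaf []) (TL.leaf [])) (TL.node (TL.leaf []) (TL.leaf [])))) (TL.node (TL.node (TL.node (TL.leaf []) (TL.leaf [])) (TL.node (TL.leaf []) (TL.leaf []))) (TL.node (TL.node (TL.leaf []) (TL.leaf [])) (TL.node (TL.leaf []) (TL.leaf []))))) (TL.node (TL.node (TL.node (TL.node (TL.leaf []) (TL.leaf [])) (TL.node (TL.leaf []) (TL.leaf []))) (TL.node (TL.node (TL.leaf []) (TL.leaf []))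 (TL.node (TL.leaf []) (TL.leaf [])))) (TL.node (TL.node (TL.node (TL.leaf []) (TL.leaf [])) (TL.node (TL.leaf []) (TL.leaf []))) (TL.node (TL.node (TL.leaf []) (TL.leaf [])) (TL.node (TL.leaf []) (TL.leaf []))))))))))
noncomputable def U (i : ℕ) : List ℕ := TL.get U_t i
def Z_t : TN := (TN.node (TN.leaf (nat_lit 0x1000000000)) (TN.leaf (nat_lit 0x0)))
noncomputable def Z (i : ℕ) : ℕ := get2 Z_t (nat_lit 7) (nat_lit 0x7f) i
def Y_t : TN := (TN.node (TN.leaf (nat_lit 0x1001001001002002002002002002002002001001001001002002002002001001001001001001001001002002002002001001001001002002003003003003002002001001001001004004002002001001001001001001001001002002000000)) (TN.leaf (nat_lit 0x1001001001002002002002002002002002001001001001002002002002001001001001001001001001002002002002001001001001002002002002002002002002001001001001002002002002001001001001001001001001002002002002)))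
noncomputable def Y (i : ℕ) : ℕ := get2 Y_t (nat_lit 12) (nat_lit 0xfff) i
def NC (i : ℕ) : ℕ := Nat.land (Nat.shiftRight (nat_lit 0x24949b6d2249912249249480) (Nat.mul (nat_lit 3) i)) (nat_lit 7)
def V_t : TN := (TN.node (TN.node (TN.node (TN.leaf (nat_lit 0x1c739206263a00031c2866c6ca0000c8806271200c4ce4806962800003060063c18074b14818c669000cb4a000e398000cd20019b660313b1200e2620336314803a6280c71b5406699200cd8c4066c689000318a063a6241d2c6500064260c71d94638e6ac31c745000066300d31d018d8c281c4ce50019a670cd31120006710334c64b8e58ec031c49206259a40c4d34819b1c900c734e00e27200034c300e38e9031c7521896728cd312500e2669000cb0a0000000000c82800006100cd39018e692831334498e266b000348a189a6a4c734c58063968)) (TN.leaf (nat_lit 0x6371c03133401899a900321ce0062618c73b45863676a00c4d0e06962240312c406366ca0c72d940000e90003362801a58700713500e3962800c72380066c6031c79203a5924074b6499a698b00c74d0006269c031d2400063a500c4b5006365a40031e28669a49334d3140639624034d340006366003134c000068b34c785863a76a031ced2006769800c6c38639daa00c74ce0626220031b140669a69000c74c00e38a000c713862668a0000346638f62c03138380006230c4b8d400638980336c386363ca)))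 (TN.node (TN.leaf (nat_lit 0xc4c4d2006991c001c4300189c70c72ed58971a3001c7240001a65031cb5219a69a8cd3485000064300c4d100669a24074b448006685033635200e96a0000342000e3870074d1000001880312e400189c60c71cd40006590312cd519a70ea003130e019a62001d2c400006640071cd0018e7231c73460018e66031cd1006259240cd314001a62700074cc06269a000c743019a6c9031b1d2669a7280cd344018d8c90c71ed4018e320031c740638dca00c4ed00389da4001cd300000010318c9201a59200c787400019c5031b3520003994031c44063898a)) (TN.leaf (nat_lit 0x0)))) (TN.node (TN.node (TN.leaf (nat_lit 0x31cd2d619a6c241c4cd50000384c71cb18018d9a00c4ce406269c9033631206963a4000c72800e6870c787120e39a2831c715063658a0cd3852063a6200c736480e2649034d352019a69c0034d300626670334e10038e6a4000742e698e6b003360c66990a800cd3318e396b0c734d40638e24003343019b1c80003108000008800312300063060034d0e00e99200c4cd400189670074b900669c24031c73819a6c801c4d12003a69c031ce3819b1a80334ed19a691ac0336340e3962b003360e03a63240c74d4818e26900c6c906698e280c71c4000e967))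 (TN.leaf (nat_lit 0x0))) (TN.node (TN.leaf (nat_lit 0x31b3920003894000312006262701c4c52001899407138480696880cd32120639724312c850063c470cd38d2018dc2000c733818e369000030419a63a431c72506365aa00001c60006390003133000e26700c735006370a40c7344800676507134959a69c2c0031c3001a5c7000748c006969c0c4d2400669a800cd8ce019a61c074c7499a63ca001d30e069a724000c428018c670cd8d920389b24071cb48006966000334a001a4180318c40063c270312e1206371a40c6e2481a5a6900cd38e19b1924c4b8d5806390807138d4063a72400c743818e969)) (TN.leaf (nat_lit 0x0)))))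
noncomputable def V (i : ℕ) : ℕ := get2 V_t (nat_lit 27) (nat_lit 0x7ffffff) i
def S (i : ℕ) : ℕ := Nat.land (Nat.shiftRight (nat_lit 0x2a0000100004000000082000221002042000800000000200100800a0820800000000080400003008000080c1040000000000000000d000001040000004012) (Nat.mul (nat_lit 100) i)) (nat_lit 1267650600228229401496703205375)
def T5f (i : ℕ) : ℕ := Nat.land (Nat.shiftRight (nat_lit 0x46388b08c61c2846888d111a223444688) (Nat.mul (nat_lit 3) i)) (nat_lit 7)
noncomputable def T5 (j c : ℕ) : ℕ := T5f (Nat.add (Nat.mul j (nat_lit 5)) c)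
def hl : List (alternatingGroup (Fin 5)) := [1, 1, 1, 1, 1, ⟨⟨![0, 2, 1, 4, 3], ![0, 2, 1, 4, 3], by decide, by decide⟩, Equiv.Perm.mem_alternatingGroup.2 (by decide +kernel)⟩, ⟨⟨![0, 3, 4, 1, 2], ![0, 3, 4, 1, 2], by decide, by decide⟩, Equiv.Perm.mem_alternatingGroup.2 (by decide +kernel)⟩, ⟨⟨![0, 3, 1, 2, 4], ![0, 2, 3, 1, 4], by decide, by decide⟩, Equiv.Perm.mem_alternatingGroup.2 (by decide +kernel)⟩, ⟨⟨![3, 4, 1, 2, 0], ![4, 2, 3, 0, 1], by decide, by decide⟩, Equiv.Perm.mem_alternatingGroup.2 (by decide +kernel)⟩]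
def DV0 (i : ℕ) : ℕ := Nat.land (Nat.shiftRight (nat_lit 0x79ab1) (Nat.mul (nat_lit 4) i)) (nat_lit 15)
def DV1 (i : ℕ) : ℕ := Nat.land (Nat.shiftRight (nat_lit 0x15680) (Nat.mul (nat_lit 4) i)) (nat_lit 15)
def DV2 (i : ℕ) : ℕ := Nat.land (Nat.shiftRight (nat_lit 0x8410) (Nat.mul (nat_lit 4) i)) (nat_lit 15)
noncomputable def l5 : List Lev := [⟨nat_lit 0, nat_lit 5, nat_lit 3, DV0⟩, ⟨nat_lit 4, nat_lit 4, nat_lit 1, DV1⟩, ⟨nat_lit 1, nat_lit 3, nat_lit 0, DV2⟩]

variable {G X : Type*} [Group G] [MulAction G X] {pt : ℕ → X} {g : ℕ → G}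

theorem md_conj {N m : ℕ} {B : List ℕ} {T : ℕ → ℕ → ℕ} (M : Md pt N B g T m) (a : G) :
    Md (fun c => a • pt c) N B (fun j => a * g j * a⁻¹) T m :=
  ⟨fun i hi j hj e => M.inj i hi j hj (smul_left_cancel a e), M.lt, fun x h => by
    have := M.base (a⁻¹ * x * a) fun b hb => by rw [mul_smul, mul_smul, h b hb, inv_smul_smul]
    rwa [mul_assoc, inv_mul_eq_one, eq_comm, mul_eq_right] at this,
    fun j hj c hc => ⟨(M.reps j hj c hc).1, by rw [mul_smul, inv_smul_smul, mul_smul, (M.reps j hj c hc).2]⟩⟩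

theorem es_congr {A B : Type*} [Group A] [Group B] (e : A ≃* B) (h : IsExtraspecial 2 A) : IsExtraspecial 2 B := by
  have c : ∀ x : B, x ∈ center B ↔ e.symm x ∈ center A := fun x => by
    simp only [Subgroup.mem_center_iff]
    exact ⟨fun h g => e.injective (by simp [h]), fun h g => e.symm.injective (by simp [h])⟩
  refine ⟨⟨h.1.1.of_equiv e, Subgroup.ext fun x => ?_, Subgroup.ext fun x => ?_⟩,
    (Nat.card_congr (Subgroup.centerCongr e).toEquiv).symm.trans h.2⟩
  · rw [c, ← h.1.2.1]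
    exact ⟨fun h => frattini_le_comap_frattini_of_surjective (φ := e.symm.toMonoidHom) e.symm.surjective h,
      fun h => by simpa using frattini_le_comap_frattini_of_surjective (φ := e.toMonoidHom) e.surjective h⟩
  · rw [c, ← h.1.2.2, ← mem_map_equiv, _root_.commutator_def, _root_.commutator_def, map_commutator]
    simp

theorem core (M0 : Md pt 100 B0 g TB 4) (cd : Nat.card G = 604800) : ∃ (Q : Subgroup (centralizer {g 2})) (_ : Q.Normal),
    Nat.card Q = 32 ∧ IsExtraspecial 2 Q ∧ Nonempty (centralizer {g 2} ⧸ Q ≃* alternatingGroup (Fin 5)) := by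
  have : Finite G := Nat.finite_of_card_ne_zero (by omega)
  have h5 := M0.cls (σ := id) (σ' := id) (z := 2) (n := 314) (K := B0) (V := V) (by decide +kernel) (upTo_beq (by decide +kernel))
    (L := ⊤) fun _ _ => trivial
  obtain ⟨q, md, h0⟩ : ∃ q, Md pt 100 B0 q Q 9 ∧ g 2 = q 0 :=
    ⟨_, M0.words (W := W) (by decide +kernel) (upTo_beq (by decide +kernel)), (one_mul _).symm⟩
  rw [h0] at h5 ⊢
  have sy := md.sy' (p := 2) (r := 7) (by decide) (by decide) (R := R) (by decide +kernel) (Z := Z) (pr := 128) rfl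
    (upTo_beq (by decide +kernel)) (by rw [cd]; decide)
  have L := md.loc (s := 5) (t := 9) sy (by decide) (Z := Y) (ps := 32) (pr := 128) ⟨rfl, rfl⟩ (upTo_beq (by decide +kernel)) (U := U)
    (by decide +kernel) (l := [([7], 3), ([8], 5)]) (by decide +kernel) (by decide) h5 (by rw [cd]; decide)
  have c1 : Nat.card (centralizer {q 0}) = 1920 := by
    have := md.dvdC sy (t := 9) (by decide) (l := [([7], 3), ([8], 5)]) (by decide +kernel) (by decide)
    rw [← L.cen] at this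
    rw [top_inf_eq, card_top, cd] at h5
    have := Nat.le_of_dvd Nat.card_pos this
    simp at this; omega
  have rs := bs_reps md.reps md.inj (S := S) (T' := T5) (n := 5) (by decide +kernel)
  have ry : Reps (fun c => Fin.ofNat 5 c) 5 (hl.getD · 1) T5 9 := by unfold Reps PC.Rep; decide +kernel
  have iy : Inj (fun c => Fin.ofNat 5 c) 5 := by unfold Inj; decide
  have c5 : Nat.card (alternatingGroup (Fin 5)) = 60 := by rw [nat_card_alternatingGroup]; simp [Nat.factorial]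
  obtain ⟨φ, f1, f2⟩ := surj_of_tables rs ry (bs_inj md.inj (by decide +kernel)) iy
    (fun b _ => faithful_of_surj (by decide) b) L.cen.symm (top_unique ((chain_gen_eq iy (ry.comp (σ := ([7, 5, 6, 8].getD · 0)) (m' := 4)
      (by decide)) (M := 4) (t := l5) (by decide +kernel) le_top (cardLE_of_card (by rw [card_top, c5]; rfl))).1.ge.trans
      (gen_le fun j hj => mem_gen (hl.getD · 1) (by revert j; decide))))
  have le : gen q 5 ≤ centralizer {q 0} := L.cen ▸ gen_mono q (by decide)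
  have c2 : Nat.card ((gen q 5).subgroupOf (centralizer {q 0})) = 32 :=
    (Nat.card_congr (subgroupOfEquivOfLe le).toEquiv).trans (sy.card Nat.prime_two (by decide))
  have e : (gen q 5).subgroupOf (centralizer {q 0}) = φ.ker := eq_of_le_of_card_ge (fun x hx => (f2 x).2 fun c hc =>
    gen_fix rs (a := 5) (by revert c; decide +kernel) hx) (by
      have := card_eq_card_quotient_mul_card_subgroup φ.ker
      rw [Nat.card_congr (QuotientGroup.quotientKerEquivOfSurjective φ f1).toEquiv, c5, c1] at this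
      omega)
  refine ⟨φ.ker, inferInstance, e ▸ c2, e ▸ es_congr (subgroupOfEquivOfLe le).symm ?_, ⟨QuotientGroup.quotientKerEquivOfSurjective φ f1⟩⟩
  have nf : ∀ x ∈ gen q 5, ∃ c < 32, PC.Rep pt 100 x (trp Q 2 5 0 c) ∧ x = evp q 2 5 0 c := fun x hx => by
    obtain ⟨c, hc, rfl⟩ := sy.nf two_pos (by decide) hx
    exact ⟨c, hc, rep_evp md.reps 2 5 0 c (by decide), rfl⟩
  have r0 := md.reps 0 (by decide)
  refine PU.Tv.extra_of (L.pg (by decide)) (one_mul (q 0) ▸ ord_of md (w := [0]) (n := 2) (by decide +kernel)) (le_antisymm (fun x hx => ?_)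
    (zpowers_le.2 ⟨mem_gen q (by decide), fun y hy => le hy _ rfl |>.symm⟩)) (commutator_le.2 fun x hx y hy => ?_) (fun x hx => ?_) fun h => ?_
  · obtain ⟨c, hc, r, rfl⟩ := nf x hx.1
    rcases (by decide +kernel : ∀ c < 32, c < 2 ∨ NC c < 5 ∧ agF B0 (fun i => Q (NC c) (trp Q 2 5 0 c i))
      (fun i => trp Q 2 5 0 c (Q (NC c) i)) ≠ 0) c hc with h | ⟨h, h'⟩
    · simpa [gen_succ, gen_zero] using evp_lt q two_pos 5 1 0 c h
    · have r1 := md.reps (NC c) (by omega)
      exact absurd ((md.eqF (r1.mul r) (r.mul r1)).2 (hx.2 _ (mem_gen q h))) h'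
  · obtain ⟨c, hc, r, -⟩ := nf x hx
    obtain ⟨d, hd, r', -⟩ := nf y hy
    rcases (by decide +kernel : ∀ c < 32, ∀ d < 32,
      agF B0 (fun i => trp Q 2 5 0 c (trp Q 2 5 0 d i)) (fun i => trp Q 2 5 0 d (trp Q 2 5 0 c i)) = 0 ∨
      agF B0 (fun i => trp Q 2 5 0 c (trp Q 2 5 0 d i)) (fun i => Q 0 (trp Q 2 5 0 d (trp Q 2 5 0 c i))) = 0) c hc d hd with h | h
    · simp [commutatorElement_def, (md.eqF (r.mul r') (r'.mul r)).1 h]
    · simp [commutatorElement_def, (md.eqF (r.mul r') (r0.mul (r'.mul r))).1 h, mul_assoc]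
  · obtain ⟨c, hc, r, -⟩ := nf x hx
    rcases (by decide +kernel : ∀ c < 32, agF B0 (itF (trp Q 2 5 0 c) 2) (fun i => i) = 0 ∨
      agF B0 (itF (trp Q 2 5 0 c) 2) (Q 0) = 0) c hc with h | h
    · simp [(md.eqF (r.itF 2) Rep.one).1 h]
    · simp [(md.eqF (r.itF 2) r0).1 h]
  · exact sy.str 1 (by decide) (by simpa [gen_succ, gen_zero] using h (mem_gen q (by decide : 1 < 5)))

open Cfsg.Spor Cfsg.Agent.J2 in
theorem res (f : Equiv.Perm icoLeech) (hf : IsIcoReflection f) (hfm : f ∈ twoJ2) :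
    ∃ (Q : Subgroup (centralizer {(QuotientGroup.mk ⟨f, hfm⟩ : Spor.J2)})) (_ : Q.Normal), Nat.card Q = 32 ∧ IsExtraspecial 2 Q ∧
      Nonempty (centralizer {(QuotientGroup.mk ⟨f, hfm⟩ : Spor.J2)} ⧸ Q ≃* alternatingGroup (Fin 5)) := by
  obtain ⟨i, hi, rfl⟩ := refl_eq.le hf
  obtain ⟨a, e⟩ := pt_trans hi
  have : (QuotientGroup.mk ⟨_, hfm⟩ : Spor.J2) = (a : Spor.J2) * al 2 * (a : Spor.J2)⁻¹ := (congrArg QuotientGroup.mk e).symm
  rw [this]
  exact core (md_conj md0 (a : Spor.J2)) J2.card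

end Cfsg.Agent.Ct.J2c
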