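import Cfsg.Agent.Lib.Leech.Mono
import Cfsg.Prelude.Def_Spor_Conway

/-! A faithful 23-dimensional representation of Co₂ over the field with 13 elements. -/

set_option autoImplicit false
set_option linter.unusedSectionVars false
set_option linter.unusedVariables false

namespace Cfsg.Agent.Co2R

open Cfsg.Agent.Leech Cfsg.Spor Finset

def E (p : GolayPt) : L := ⟨e8 p, e8_mem p⟩

theorem eight (x : L) : (8 : ℤ) • x = ∑ p, (x.1 p) • E p := by
  apply Subtype.ext
  funext i
  rw [AddSubgroup.val_finset_sum, Finset.sum_apply, Finset.sum_eq_single i]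
  · simp [E, e8, mul_comm]
  · intro b _ hb
    simp [E, e8, Pi.single_apply, Ne.symm hb]
  · simp

def r : L →+ (ZMod 23 → ZMod 13) :=
  .mk' (fun x j => (x.1 (some j) : ZMod 13) - if j = 0 then (x.1 none : ZMod 13) else 0) fun x y => by
    funext j
    simp only [AddSubgroup.coe_add, Pi.add_apply, Int.cast_add]
    split_ifs <;> ring

theorem r_apply (x : L) (j : ZMod 23) :
    r x j = (x.1 (some j) : ZMod 13) - if j = 0 then (x.1 none : ZMod 13) else 0 := rfl

theorem r_U : r leechU = 0 := by
  funext j
  rw [r_apply]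
  by_cases h : j = 0 <;> simp [leechU, vecU, h]

theorem E_none : E none = (2 : ℤ) • leechU - E (some 0) := by
  apply Subtype.ext
  funext i
  show e8 none i = 2 * vecU i - e8 (some 0) i
  revert i
  decide

def c (g : Co2) : Co0 := ⟨g.1, g.2.1⟩

theorem c_U (g : Co2) : c g • leechU = leechU := g.2.2

theorem zsm (g : Co0) (a : ℤ) (x : L) : g • (a • x) = a • (g • x) :=
  map_zsmul (DistribSMul.toAddMonoidHom L g) a x

theorem g_eight (g : Co0) (x : L) : (8 : ℤ) • (g • x) = ∑ p, (x.1 p) • (g • E p) := by
  rw [← zsm, eight, Finset.smul_sum]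
  exact sum_congr rfl fun p _ => zsm _ _ _

def N (g : Co2) : Matrix (ZMod 23) (ZMod 23) (ZMod 13) := fun i j => 5 * r (c g • E (some j)) i

theorem aux (a y : ZMod 23 → ZMod 13) (t : ZMod 13) :
    ∑ j, 5 * a j * (y j - if j = 0 then t else 0) = 5 * (∑ j, y j * a j) - 5 * (t * a 0) := by
  simp only [mul_sub, sum_sub_distrib, mul_ite, mul_zero, sum_ite_eq', mem_univ, if_true, mul_sum]
  rw [show ∑ j, 5 * a j * y j = ∑ j, 5 * (y j * a j) from sum_congr rfl fun j _ => by ring]
  ring

theorem key (g : Co2) (x : L) (i : ZMod 23) : r (c g • x) i = ∑ j, N g i j * r x j := by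
  have h := congrFun (congrArg r (g_eight (c g) x)) i
  rw [map_zsmul, map_sum, Fintype.sum_option, E_none, smul_sub, zsm, c_U, map_zsmul, map_sub, map_zsmul, r_U] at h
  simp only [map_zsmul, Pi.add_apply, Finset.sum_apply, Pi.smul_apply, zsmul_eq_mul, Pi.sub_apply, Pi.zero_apply,
    mul_zero, zero_sub, smul_zero, Pi.neg_apply, Pi.mul_apply, Pi.intCast_apply] at h
  have e : ∑ j, N g i j * r x j = _ :=
    aux (fun j => r (c g • E (some j)) i) (fun j => (x.1 (some j) : ZMod 13)) (x.1 none : ZMod 13)
  rw [e]
  generalize (∑ j, (x.1 (some j) : ZMod 13) * r (c g • E (some j)) i) = S at h ⊢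
  generalize r (c g • E (some 0)) i = A at h ⊢
  generalize r (c g • x) i = B at h ⊢
  generalize (x.1 none : ZMod 13) = T at h ⊢
  have h40 : (40 : ZMod 13) = 1 := by decide
  push_cast at h
  linear_combination 5 * h - B * h40

theorem r_E (j i : ZMod 23) : 5 * r (E (some j)) i = if i = j then 1 else 0 := by
  rw [r_apply]
  have h40 : (5 : ZMod 13) * 8 = 1 := by decide
  by_cases h : i = j <;> simp [E, e8, Pi.single_apply, h, h40]

def ρ : Co2 →* Matrix (ZMod 23) (ZMod 23) (ZMod 13) where
  toFun := N
  map_one' := by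
    ext i j
    rw [Matrix.one_apply, ← r_E]
    rfl
  map_mul' g h := by
    ext i j
    have : c (g * h) • E (some j) = c g • (c h • E (some j)) := rfl
    rw [Matrix.mul_apply, N, this, key, mul_sum]
    exact sum_congr rfl fun k _ => by simp only [N]; ring

theorem dot_U (x : L) : dotInt x.1 leechU.1 = 4 * x.1 none + 4 * x.1 (some 0) := by
  have : leechU.1 = Pi.single none 4 + Pi.single (some 0) 4 := by
    funext i
    revert i
    decide
  rw [this, dot_add, dot_single, dot_single]
  ring

theorem triv {g : Co2} (h : ρ g = 1) : g = 1 := by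
  have h1 : ∀ x : L, ∀ i, r (c g • x) i = r x i := fun x i => by
    have : N g = 1 := h
    rw [key, this]
    simp [Matrix.one_apply]
  have h2 : ∀ x : L, ∀ p, (13 : ℤ) ∣ (c g • x : L).1 p - x.1 p := fun x p => by
    have a := dot_smul_smul (c g) x leechU
    rw [c_U, dot_U, dot_U] at a
    have b := h1 x 0
    rw [r_apply, r_apply, if_pos rfl, if_pos rfl] at b
    have b' : (13 : ℤ) ∣ ((c g • x : L).1 (some 0) - (c g • x : L).1 none) - (x.1 (some 0) - x.1 none) := by
      apply (ZMod.intCast_zmod_eq_zero_iff_dvd _ 13).1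
      push_cast
      rw [b, sub_self]
    rcases p with _ | j
    · omega
    · by_cases hj : j = 0
      · subst hj
        omega
      · have d := h1 x j
        rw [r_apply, r_apply, if_neg hj, if_neg hj, sub_zero, sub_zero] at d
        apply (ZMod.intCast_zmod_eq_zero_iff_dvd _ 13).1
        push_cast
        rw [d, sub_self]
  have h3 : ∀ p, c g • E p = E p := fun p => by
    have n : sqNorm (c g • E p : L).1 = 64 := (Leech.norm_smul _ _).trans (sqNorm_e8 p)
    have bd : ∀ i, -8 ≤ (c g • E p : L).1 i ∧ (c g • E p : L).1 i ≤ 8 := fun i => by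
      have := sq_le_sqNorm (c g • E p : L).1 i
      rw [n] at this
      constructor <;> nlinarith
    have z : ∀ i, i ≠ p → (c g • E p : L).1 i = 0 := fun i hi => by
      have a := h2 (E p) i
      have b := bd i
      have : (E p).1 i = 0 := by simp [E, e8, Pi.single_apply, hi]
      omega
    have s : (c g • E p : L).1 = Pi.single p ((c g • E p : L).1 p) := by
      funext i
      by_cases hi : i = p
      · subst hi
        simp
      · rw [z i hi, Pi.single_eq_of_ne hi]
    have n' := n
    rw [s, sqNorm_single] at n'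
    have a := h2 (E p) p
    have b := bd p
    have e : (E p).1 p = 8 := by simp [E, e8]
    have f : (c g • E p : L).1 p = 8 := by
      have : (c g • E p : L).1 p = 8 ∨ (c g • E p : L).1 p = -5 := by omega
      rcases this with t | t
      · exact t
      · rw [t] at n'
        omega
    apply Subtype.ext
    rw [s, f]
    rfl
  refine Subtype.ext (Equiv.ext fun x => Subtype.ext (funext fun i => ?_))
  have a := g_eight (c g) x
  simp only [h3] at a
  rw [← eight] at a
  have b : 8 * (c g • x : L).1 i = 8 * x.1 i := congrFun (congrArg Subtype.val a) i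
  show (c g • x : L).1 i = x.1 i
  omega

theorem emb : ∃ f : ↥Cfsg.Spor.Co2 →* GL (Fin 23) (ZMod 13), Function.Injective f := by
  refine ⟨(ρ.toHomUnits : Co2 →* (Matrix (ZMod 23) (ZMod 23) (ZMod 13))ˣ), (injective_iff_map_eq_one _).2 fun g hg => triv ?_⟩
  exact congrArg Units.val hg

end Cfsg.Agent.Co2R
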