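import Cfsg.Agent.Lib.J2.Ord

/-! Enumeration of a permutation group up to conjugacy along a stabiliser chain. -/

set_option autoImplicit false

namespace Cfsg.Agent.J2

open Cfsg.Agent.PC Cfsg.Agent.Fi Cfsg.Agent.Ct MulAction

variable {G X : Type*} [Group G] [MulAction G X] {pt : ℕ → X} {N : ℕ} {q t : ℕ → G} {Q U : ℕ → ℕ → ℕ} {r M n : ℕ}

noncomputable def pwE (B K : List ℕ) (f : ℕ → ℕ) : ℕ :=
  List.rec (nat_lit 1) (fun k _ ih => Nat.rec (nat_lit 0) (fun _ _ => ih) (agF B (itF f k) fun x => x)) K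

theorem pwE_zero {B : List ℕ} (D : Md pt N B q Q r) {x : G} {f : ℕ → ℕ} (h : Rep pt N x f) :
    ∀ K, pwE B K f = 0 → ∃ k ∈ K, x ^ k = 1
  | [], e => absurd e one_ne_zero
  | k :: K, e => by
    change Nat.rec (motive := fun _ => ℕ) 0 (fun _ _ => pwE B K f) (agF B (itF f k) fun x => x) = 0 at e
    generalize hs : agF B (itF f k) (fun x => x) = s at e
    cases s with
    | zero => exact ⟨k, List.mem_cons_self, (D.eqF (h.itF k) Rep.one).1 hs⟩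
    | succ s => obtain ⟨j, hj, e'⟩ := pwE_zero D h K e; exact ⟨j, List.mem_cons_of_mem _ hj, e'⟩

theorem conj_gen {l : Lev} {lt : List Lev} (C : Ch pt N q Q r M (l :: lt)) {k : ℕ} {V O rt : ℕ → ℕ}
    (h : ∀ c < N, soE Q l.m' N M k V O rt c = 0) (ht : Reps pt N t U n) (hk : k ≤ n ∧ ∀ i < k, U i l.β = rt (i + 1)) (x : G) :
    ∃ g : G, ∃ i < k, ∃ y ∈ gen q l.m', g⁻¹ * x * g = t i * y := by
  obtain ⟨-, hb, hm, -⟩ := chain_cons C.reps C.chain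
  obtain ⟨c, hc, e⟩ := C.reps.orbit_sub C.inj hb (C.top.ge (Subgroup.mem_top x))
  obtain ⟨h1, h2⟩ := PC.add_eq_zero' (PC.add_eq_zero' (h c hc)).2
  obtain ⟨i, hi⟩ : ∃ i, O c = i + 1 := ⟨O c - 1, by have := ltE_zero h1; omega⟩
  have hik : i < k := by have := sub_eq_zero' h2; omega
  obtain ⟨g, hg, e'⟩ := descT_main (C.reps.mono hm) (fun c hc => (PC.add_eq_zero' (PC.add_eq_zero' (h c hc)).1).1) c hc (by omega)
  refine ⟨g, i, hik, (t i)⁻¹ * (g⁻¹ * x * g), ?_, by simp⟩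
  rw [C.stab.1] at hg ⊢
  rw [mem_stabilizer_iff, mul_smul, mul_smul, mul_smul, mem_stabilizer_iff.1 hg, e, ← e', inv_smul_smul, inv_smul_eq_iff,
    (ht i (by omega) _ hb).2, hk.2 i hik, hi]

/-- the check for one level of transversals -/
def LvP (Q U : ℕ → ℕ → ℕ) (W : ℕ → List ℕ) (I : ℕ → ℕ) (N n m β lo a : ℕ) : Prop :=
  (β < N ∧ lo + a ≤ n ∧ SfP U I β lo a β) ∧ (∀ j < m, ∀ c < N, SfP U I β lo a c → SfP U I β lo a (Q j c)) ∧
    ∀ i < a, lettE m (W (lo + i)) = 0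
noncomputable instance (Q U : ℕ → ℕ → ℕ) (W : ℕ → List ℕ) (I : ℕ → ℕ) (N n m β lo a : ℕ) : Decidable (LvP Q U W I N n m β lo a) := by
  unfold LvP; infer_instance

theorem enum2 {l0 l1 l2 : Lev} (C : Ch pt N q Q r M [l0, l1, l2]) (h0 : l2.m' = 0) {k : ℕ} {V O rt : ℕ → ℕ}
    (h : ∀ c < N, soE Q l0.m' N M k V O rt c = 0) {W : ℕ → List ℕ} (ht : Reps pt N (fun j => ev q (W j)) U n)
    (hk : k ≤ n ∧ ∀ i < k, U i l0.β = rt (i + 1)) {I1 I2 : ℕ → ℕ} {a b : ℕ} (h1 : LvP Q U W I1 N n l0.m' l1.β k a)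
    (h2 : LvP Q U W I2 N n l1.m' l2.β (k + a) b) (x : G) : ∃ g : G, ∃ i < k, ∃ j < a, ∃ c < b,
      Rep pt N (g⁻¹ * x * g) fun p => U i (U (k + j) (U (k + a + c) p)) := by
  obtain ⟨g, i, hi, y, hy, e⟩ := conj_gen C h ht hk x
  obtain ⟨-, r1, c1, k1⟩ := chain_next C.inj C.reps C.chain (C.top ▸ C.le)
  obtain ⟨e2, r2, c2, k2⟩ := chain_next C.inj r1 c1 k1
  obtain ⟨e3, -⟩ := chain_next C.inj r2 c2 k2
  obtain ⟨j, hj, z, hz, rfl⟩ := sift r1 C.inj ht I1 h1.1 h1.2.1 (fun i hi => ev_mem_gen _ (lettE_zero (h1.2.2 i hi))) e2 hy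
  obtain ⟨c, hc, w, hw, rfl⟩ := sift r2 C.inj ht I2 h2.1 h2.2.1 (fun i hi => ev_mem_gen _ (lettE_zero (h2.2.2 i hi))) e3 hz
  obtain rfl : w = 1 := Subgroup.mem_bot.1 (gen_zero q ▸ h0 ▸ hw)
  have := h2.1.2.1
  exact ⟨g, i, hi, j, hj, c, hc, by
    rw [e, mul_one]; exact (ht i (by omega)).mul ((ht _ (by omega)).mul (ht _ (by omega)))⟩

theorem conj_pow_one {g x : G} {k : ℕ} (h : (g⁻¹ * x * g) ^ k = 1) : x ^ k = 1 := by
  rwa [← inv_inv g, inv_inv g⁻¹, conj_pow, conj_eq_one_iff] at h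

/-- the sum of `F` over all products of three transversal tables -/
noncomputable def en2E (R : TN) (w m k a b : ℕ) (F : (ℕ → ℕ) → ℕ) (i : ℕ) : ℕ := force (R.get i) fun r1 =>
  upTo (fun j => force (R.get (Nat.add k j)) fun r2 => upTo (fun c => force (R.get (Nat.add (Nat.add k a) c)) fun r3 =>
    F fun x => get1 r1 w m (get1 r2 w m (get1 r3 w m x))) b) a

theorem en2E_zero {R : TN} {w m k a b : ℕ} {F : (ℕ → ℕ) → ℕ} {i : ℕ} (h : en2E R w m k a b F i = 0) {j c : ℕ} (hj : j < a) (hc : c < b) :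
    F (fun x => get1 (R.get i) w m (get1 (R.get (k + j)) w m (get1 (R.get (k + a + c)) w m x))) = 0 := by
  have h1 := upTo_zero h j hj
  rw [force_eq] at h1
  have h2 := upTo_zero h1 c hc
  rwa [force_eq] at h2

end Cfsg.Agent.J2
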