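import Mathlib

/-! The number of fixed points is not constant on a product of two classes. -/

set_option autoImplicit false
set_option linter.unusedSectionVars false
set_option linter.unusedVariables false

namespace Cfsg.Agent.FixNC

open Equiv Equiv.Perm Finset

variable {Ω : Type} [Fintype Ω] [DecidableEq Ω]

theorem ai (g : Perm Ω) (x : Ω) : g (g⁻¹ x) = x := g.apply_symm_apply x
theorem ia (g : Perm Ω) (x : Ω) : g⁻¹ (g x) = x := g.symm_apply_apply x

theorem eep {ι : Type} [Finite ι] {u v : ι → Ω} (hu : Function.Injective u) (hv : Function.Injective v) :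
    ∃ g : Perm Ω, ∀ i, g (u i) = v i := exists_extending_pair u v hu hv

def F (α b g : Perm Ω) : ℕ := #{x | g (b (g⁻¹ x)) = α x}

theorem F_symm (α b g : Perm Ω) : F α b g = F b α g⁻¹ := card_equiv g⁻¹ fun x => by
  simp only [mem_filter, mem_univ, true_and, inv_inv, ai]
  exact ⟨fun h => by rw [← h, ia], fun h => by rw [← h, ai]⟩

theorem par (p : Perm Ω → Prop) {g : Perm Ω} {u v : Ω} (h : u ≠ v) (h1 : p g) (h2 : p (g * swap u v)) :
    ∃ g, sign g = 1 ∧ p g := by
  rcases Int.units_eq_one_or (sign g) with e | e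
  · exact ⟨g, e, h1⟩
  · exact ⟨_, by rw [Perm.sign_mul, e, sign_swap h]; rfl, h2⟩

theorem ext {k : ℕ} (hk : k + 2 ≤ Fintype.card Ω) {u v : Fin k → Ω} (hu : Function.Injective u) (hv : Function.Injective v) :
    ∃ g : Perm Ω, sign g = 1 ∧ ∀ i, g (u i) = v i := by
  obtain ⟨g, hg⟩ := eep hu hv
  obtain ⟨a, ha, b, hb, ab⟩ := one_lt_card.1 (show 1 < #(univ.image u)ᶜ by
    rw [card_compl, card_image_of_injective _ hu, card_univ, Fintype.card_fin]; omega)
  refine par (fun g => ∀ i, g (u i) = v i) ab hg fun i => ?_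
  rw [Perm.mul_apply, swap_apply_of_ne_of_ne (by rintro rfl; simp at ha) (by rintro rfl; simp at hb), hg]

theorem two_le {α b g : Perm Ω} {y z : Ω} (h : y ≠ z) (h1 : g (b y) = α (g y)) (h2 : g (b z) = α (g z)) : 2 ≤ F α b g :=
  one_lt_card.2 ⟨g y, by simpa using h1, g z, by simpa using h2, g.injective.ne h⟩

theorem four {b : Perm Ω} (h : 4 ≤ #b.support) : ∃ y z, Function.Injective ![y, b y, z, b z] := by
  obtain ⟨y, hy⟩ := card_pos.1 (show 0 < #b.support by omega)
  obtain ⟨z, hz, hz'⟩ := exists_mem_notMem_of_card_lt_card (s := {y, b y, b⁻¹ y}) (card_le_three.trans_lt h)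
  simp only [mem_insert, mem_singleton, not_or] at hz'
  have e1 := mem_support.1 hy
  have e2 := mem_support.1 hz
  have e3 : b z ≠ y := fun e => hz'.2.2 (by rw [← e, ia])
  have e4 : b z ≠ b y := b.injective.ne hz'.1
  refine ⟨y, z, List.nodup_ofFn.1 ?_⟩
  simp [e1.symm, e2.symm, e3.symm, e4.symm, Ne.symm hz'.1, Ne.symm hz'.2.1]

theorem T2a {α b : Perm Ω} (h1 : 4 ≤ #α.support) (h2 : 4 ≤ #b.support) (hb : ∀ y, b (b y) = y) :
    ∃ g, sign g = 1 ∧ 2 ≤ F α b g := by
  obtain ⟨x, w, hx⟩ := four h1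
  obtain ⟨y, z, hy⟩ := four h2
  obtain ⟨g, hg⟩ := eep hy hx
  have t : 2 ≤ F α b g := two_le (hy.ne (show (0 : Fin 4) ≠ 2 by decide)) ((hg 1).trans (congrArg α (hg 0).symm))
    ((hg 3).trans (congrArg α (hg 2).symm))
  refine par (fun g => 2 ≤ F α b g) (hy.ne (show (0 : Fin 4) ≠ 1 by decide)) t (t.trans_eq ?_)
  have c : ∀ u, swap y (b y) (b (swap y (b y) u)) = b u := fun u => by
    have := congrArg (fun s : Perm Ω => s (swap y (b y) u)) (mul_swap_eq_swap_mul b y (b y))
    simp only [Perm.mul_apply, swap_apply_self, hb] at this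
    rw [this, swap_comm]
  refine congrArg card (filter_congr fun u _ => ?_)
  show _ ↔ (g * swap y (b y)) _ = _
  simp only [mul_inv_rev, swap_inv, Perm.mul_apply, Matrix.cons_val_zero, Matrix.cons_val_one, c]

theorem three {b : Perm Ω} {y : Ω} (h : b (b y) ≠ y) : Function.Injective ![y, b y, b (b y)] := by
  have e : b y ≠ y := fun e => h (by rw [e, e])
  refine List.nodup_ofFn.1 ?_
  simp [e.symm, h.symm]

theorem T2 (hn : 5 ≤ Fintype.card Ω) {α b : Perm Ω} (h1 : 4 ≤ #α.support) (h2 : 4 ≤ #b.support) :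
    ∃ g, sign g = 1 ∧ 2 ≤ F α b g := by
  by_cases hb : ∀ y, b (b y) = y
  · exact T2a h1 h2 hb
  by_cases ha : ∀ y, α (α y) = y
  · obtain ⟨g, g1, g2⟩ := T2a h2 h1 ha
    exact ⟨g⁻¹, by rwa [sign_inv], by rwa [← F_symm]⟩
  obtain ⟨y, hy⟩ := not_forall.1 hb
  obtain ⟨x, hx⟩ := not_forall.1 ha
  obtain ⟨g, g1, hg⟩ := ext (k := 3) hn (three hy) (three hx)
  exact ⟨g, g1, two_le ((three hy).ne (show (0 : Fin 3) ≠ 1 by decide)) ((hg 1).trans (congrArg α (hg 0).symm))
    ((hg 2).trans (congrArg α (hg 1).symm))⟩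

theorem T1 (hn : 5 ≤ Fintype.card Ω) {α b : Perm Ω} (hb : b ≠ 1) (h : #b.support ≤ #α.support) :
    ∃ g, sign g = 1 ∧ #α.supportᶜ + 1 ≤ F α b g := by
  obtain ⟨y, hy⟩ := nonempty_iff_ne_empty.2 (mt support_eq_empty_iff.1 hb)
  obtain ⟨x, hx⟩ := card_pos.1 ((card_pos.2 ⟨y, hy⟩).trans_le h)
  obtain ⟨j⟩ := Function.Embedding.nonempty_of_card_le (α := b.support) (β := α.support) (by rwa [Fintype.card_coe, Fintype.card_coe])
  obtain ⟨g0, h0⟩ := eep (u := (Subtype.val : b.support → Ω)) (v := fun u => (j u).1)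
    Subtype.val_injective (Subtype.val_injective.comp j.injective)
  let Q : Perm Ω → Prop := fun g => ∀ u ∈ b.support, g u ∈ α.support
  have q0 : Q g0 := fun u hu => (h0 ⟨u, hu⟩).symm ▸ (j ⟨u, hu⟩).2
  have qs : ∀ g, Q g → ∀ s ∈ α.support, ∀ t ∈ α.support, Q (swap s t * g) := fun g q s hs t ht u hu => by
    rw [Perm.mul_apply, swap_apply_def]
    split_ifs
    exacts [ht, hs, q u hu]
  have hy' := apply_mem_support.2 hy
  have q1 := qs g0 q0 _ (q0 y hy) x hx
  have q2 := qs _ q1 _ (q1 _ hy') _ (apply_mem_support.2 hx)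
  have a1 : (swap (g0 y) x * g0) y = x := by simp
  generalize swap (g0 y) x * g0 = g1 at q1 q2 a1
  have a2 : (swap (g1 (b y)) (α x) * g1) y = x := by
    rw [Perm.mul_apply, a1, swap_apply_of_ne_of_ne (a1 ▸ g1.injective.ne (mem_support.1 hy).symm) (mem_support.1 hx).symm]
  have a3 : (swap (g1 (b y)) (α x) * g1) (b y) = α x := by simp
  generalize swap (g1 (b y)) (α x) * g1 = g at q2 a2 a3
  have fin : ∀ g, Q g → g y = x → g (b y) = α x → #α.supportᶜ + 1 ≤ F α b g := fun g q e1 e2 => by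
    rw [← card_insert_of_notMem (show x ∉ α.supportᶜ by simpa using hx)]
    refine card_le_card fun u hu => mem_filter.2 ⟨mem_univ _, ?_⟩
    rcases mem_insert.1 hu with rfl | hu
    · rw [← e2, ← e1, ia]
    · rw [notMem_support.1 (mem_compl.1 hu), (notMem_support (f := b) (x := g⁻¹ u)).1 fun m =>
        mem_compl.1 hu (ai g u ▸ q _ m), ai]
  obtain ⟨u, v, uv, p1, p2, p3, p4, p5⟩ : ∃ u v, u ≠ v ∧ u ≠ y ∧ u ≠ b y ∧ v ≠ y ∧ v ≠ b y ∧
      (u ∈ b.support ↔ v ∈ b.support) := by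
    have cc := card_compl_add_card b.support
    by_cases c : 1 < #b.supportᶜ
    · obtain ⟨u, hu, v, hv, uv⟩ := one_lt_card.1 c
      rw [mem_compl] at hu hv
      exact ⟨u, v, uv, fun e => hu (e ▸ hy), fun e => hu (e ▸ hy'), fun e => hv (e ▸ hy), fun e => hv (e ▸ hy'),
        iff_of_false hu hv⟩
    · have := le_card_sdiff ({y, b y} : Finset Ω) b.support
      have := card_le_two (a := y) (b := b y)
      obtain ⟨u, hu, v, hv, uv⟩ := one_lt_card.1 (show 1 < #(b.support \ {y, b y}) by omega)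
      simp only [mem_sdiff, mem_insert, mem_singleton, not_or] at hu hv
      exact ⟨u, v, uv, hu.2.1, hu.2.2, hv.2.1, hv.2.2, iff_of_true hu.1 hv.1⟩
  refine par (fun g => #α.supportᶜ + 1 ≤ F α b g) uv (fin g q2 a2 a3) (fin _ (fun w hw => q2 _ ?_) ?_ ?_)
  · rw [swap_apply_def]
    split_ifs with e e
    exacts [p5.1 (e ▸ hw), p5.2 (e ▸ hw), hw]
  · rw [Perm.mul_apply, swap_apply_of_ne_of_ne p1.symm p3.symm, a2]
  · rw [Perm.mul_apply, swap_apply_of_ne_of_ne p2.symm p4.symm, a3]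

def N (y y' x x' : Ω) : ℕ := #{g : Perm Ω | sign g = 1 ∧ g y = x ∧ g y' = x'}

theorem N_const (hn : 5 ≤ Fintype.card Ω) {y y' x x' z z' w w' : Ω} (h1 : y ≠ y') (h2 : x ≠ x') (h3 : z ≠ z') (h4 : w ≠ w') :
    N y y' x x' = N z z' w w' := by
  have i : ∀ {a b : Ω}, a ≠ b → Function.Injective ![a, b] := fun h => List.nodup_ofFn.1 (by simp [h])
  obtain ⟨s, s1, hs⟩ := ext (k := 2) (by omega) (i h1) (i h3)
  obtain ⟨t, t1, ht⟩ := ext (k := 2) (by omega) (i h2) (i h4)
  obtain rfl : s y = z := hs 0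
  obtain rfl : s y' = z' := hs 1
  obtain rfl : t x = w := ht 0
  obtain rfl : t x' = w' := ht 1
  exact card_equiv ((Equiv.mulLeft t).trans (Equiv.mulRight s⁻¹)) fun g => by simp [s1, t1]

theorem N_zero {y y' x x' : Ω} (h : ¬ (y = y' ↔ x = x')) : N y y' x x' = 0 :=
  card_eq_zero.2 (filter_false_of_mem fun g _ q => h (by rw [← q.2.1, ← q.2.2, g.injective.eq_iff]))

theorem avg (hn : 5 ≤ Fintype.card Ω) {α b : Perm Ω} {c : ℕ} (h : ∀ g, sign g = 1 → F α b g = c) :
    c * (Fintype.card Ω * (Fintype.card Ω - 1)) =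
      #α.supportᶜ * (#b.supportᶜ * (Fintype.card Ω - 1)) + #α.support * #b.support := by
  obtain ⟨p, q, pq⟩ := Fintype.exists_pair_of_one_lt_card (α := Ω) (by omega)
  set m := N p q p q
  have m0 : 0 < m := card_pos.2 ⟨1, by simp⟩
  have n1 : ∀ y x, N y y x x = (Fintype.card Ω - 1) * m := fun y x => by
    obtain ⟨y', hy'⟩ := Fintype.exists_ne_of_one_lt_card (α := Ω) (by omega) y
    rw [N, card_eq_sum_card_fiberwise (f := fun g : Perm Ω => g y') (t := univ.erase x) fun g hg => by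
      have := (mem_filter.1 hg).2.2.1
      simpa [← this] using hy', ← card_univ, ← card_erase_of_mem (mem_univ x), ← smul_eq_mul, ← sum_const]
    refine sum_congr rfl fun x' hx' => Eq.trans ?_ (N_const hn hy'.symm (ne_of_mem_erase hx').symm pq pq)
    rw [filter_filter]
    exact congrArg card (filter_congr fun g _ => by tauto)
  have tot : #{g : Perm Ω | sign g = 1} = Fintype.card Ω * ((Fintype.card Ω - 1) * m) := by
    rw [card_eq_sum_card_fiberwise (f := fun g : Perm Ω => g p) (t := univ) fun _ _ => mem_univ _, ← card_univ,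
      ← smul_eq_mul, ← sum_const]
    refine sum_congr rfl fun x _ => Eq.trans ?_ (n1 p x)
    rw [filter_filter]
    exact congrArg card (filter_congr fun g _ => by tauto)
  have key : ∑ g with sign g = 1, F α b g = ∑ x, ∑ y, N y (b y) x (α x) := by
    simp only [F, N, card_filter, sum_filter]
    rw [sum_congr rfl fun x _ => sum_comm, sum_comm]
    refine sum_congr rfl fun g _ => ?_
    split_ifs with hg
    · refine sum_congr rfl fun x _ => ?_
      rw [sum_eq_single (g⁻¹ x) (fun y _ hy => if_neg fun q => hy (by rw [← q.2.1, ia])) (by simp)]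
      simp [hg]
    · simp [hg]
  rw [sum_congr rfl fun g hg => h g (mem_filter.1 hg).2, sum_const, tot, smul_eq_mul, ← sum_add_sum_compl α.support,
    sum_congr rfl (g := fun _ => #b.support * m) fun x hx => ?_,
    sum_congr rfl (s₁ := α.supportᶜ) (g := fun _ => #b.supportᶜ * ((Fintype.card Ω - 1) * m)) fun x hx => ?_,
    sum_const, sum_const, smul_eq_mul, smul_eq_mul] at key
  · refine Nat.eq_of_mul_eq_mul_right m0 ?_
    linear_combination key
  · have e := notMem_support.1 (mem_compl.1 hx)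
    rw [← sum_add_sum_compl b.support, sum_eq_zero fun y hy => N_zero fun q => mem_support.1 hy (q.2 e.symm).symm, zero_add,
      ← smul_eq_mul, ← sum_const]
    exact sum_congr rfl fun y hy => by rw [e, notMem_support.1 (mem_compl.1 hy), n1]
  · have e := mem_support.1 hx
    rw [← sum_add_sum_compl b.support, sum_eq_zero (s := b.supportᶜ) fun y hy => N_zero fun q =>
      e (q.1 (notMem_support.1 (mem_compl.1 hy)).symm).symm, add_zero, ← smul_eq_mul, ← sum_const]
    exact sum_congr rfl fun y hy => N_const hn (mem_support.1 hy).symm e.symm pq pq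

theorem half (hn : 5 ≤ Fintype.card Ω) {α b : Perm Ω} (hb : b ≠ 1) (hl : #b.support ≤ #α.support) {c : ℕ}
    (h : ∀ g, sign g = 1 → F α b g = c) : False := by
  have e := avg hn h
  obtain ⟨g, g1, g2⟩ := T1 hn hb hl
  rw [h g g1] at g2
  have t : 4 ≤ #b.support → 2 ≤ c := fun q => by
    obtain ⟨g, g1, g2⟩ := T2 hn (q.trans hl) q
    exact h g g1 ▸ g2
  have s2 := two_le_card_support_of_ne_one hb
  have c1 := card_compl_add_card α.support
  have c2 := card_compl_add_card b.support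
  obtain ⟨k, hk⟩ : ∃ k, Fintype.card Ω = k + 1 := ⟨Fintype.card Ω - 1, by omega⟩
  rw [hk, Nat.add_sub_cancel] at e
  rw [hk] at c1 c2 hn
  generalize #α.supportᶜ = f at *
  generalize #b.supportᶜ = f' at *
  generalize #α.support = s at *
  generalize #b.support = s' at *
  have e2 : c * k + f + f' = f * f' + (k + 1) := by
    refine Nat.eq_of_mul_eq_mul_left (show 0 < k + 1 by omega) ?_
    zify at e c1 c2 ⊢
    rw [show (s : ℤ) = k + 1 - f by omega, show (s' : ℤ) = k + 1 - f' by omega] at e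
    linear_combination e
  rcases f with _ | f
  · rw [zero_mul] at e2
    by_cases q : 4 ≤ s'
    · have := Nat.mul_le_mul_right k (t q)
      omega
    · have := Nat.mul_le_mul_right k g2
      omega
  · have a1 := Nat.mul_le_mul_right k g2
    have a2 : f * f' ≤ f * k := Nat.mul_le_mul_left f (by omega)
    nlinarith

theorem main (n : ℕ) (hn : 5 ≤ n) (a b : Equiv.Perm (Fin n)) (ha : a ≠ 1) (hb : b ≠ 1) :
    ∃ g₁ h₁ g₂ h₂ : Equiv.Perm (Fin n), g₁ ∈ alternatingGroup (Fin n) ∧ h₁ ∈ alternatingGroup (Fin n) ∧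
      g₂ ∈ alternatingGroup (Fin n) ∧ h₂ ∈ alternatingGroup (Fin n) ∧
      Nat.card (Function.fixedPoints ⇑(g₁ * a * g₁⁻¹ * (h₁ * b * h₁⁻¹))) ≠
        Nat.card (Function.fixedPoints ⇑(g₂ * a * g₂⁻¹ * (h₂ * b * h₂⁻¹))) := by
  by_contra! H
  have e : ∀ g : Perm (Fin n), Nat.card (Function.fixedPoints ⇑(1 * a * 1⁻¹ * (g * b * g⁻¹))) = F a⁻¹ b g := fun g => by
    rw [F, ← Fintype.card_subtype, ← Nat.card_eq_fintype_card]
    exact Nat.card_congr (Equiv.subtypeEquivRight fun x => by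
      rw [Function.mem_fixedPoints_iff, Perm.eq_inv_iff_eq, one_mul, inv_one, mul_one]
      rfl)
  have h : ∀ g, sign g = 1 → F a⁻¹ b g = F a⁻¹ b 1 := fun g hg => by
    rw [← e, ← e]
    exact H 1 g 1 1 (one_mem _) hg (one_mem _) (one_mem _)
  have hn' : 5 ≤ Fintype.card (Fin n) := by rwa [Fintype.card_fin]
  rcases le_total #b.support #a⁻¹.support with q | q
  · exact half hn' hb q h
  · exact half hn' (inv_ne_one.2 ha) q fun g hg => by rw [F_symm, h _ (by rwa [sign_inv])]

end Cfsg.Agent.FixNC
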