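import Cfsg.Agent.Lib.J2.Min

/-! The reflection group: upper bound for the order and the action on the reflections. -/

set_option autoImplicit false
set_option maxRecDepth 100000

namespace Cfsg.Agent.J2

open Cfsg.Spor Quaternion Cfsg.Agent.PC Z8 MulAction

theorem two_eq : (2 : ℍ[ℝ]) = (2 : ℝ) • 1 := by ext <;> simp <;> rfl

theorem qip_g2 (x : V) : qip x (rv (gi 2)) = (2 : ℝ) • x 0 := by
  rw [rv_g2, two_eq, qip_eq]; simp [show star ((2 : ℝ) • (1 : ℍ[ℝ])) = (2 : ℝ) • 1 by ext <;> simp]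

theorem neg0 (x : V) : qrefl (rv (gi 2)) x = ![-x 0, x 1, x 2] := by
  apply V_ext <;> simp only [qrefl, qip_g2] <;> rw [rv_g2] <;> simp [mul_two]

theorem gm (j : ℕ) (h : j < 4 := by norm_num) : rv (gi j) ∈ Min := rv_min (gi_lt h)

theorem ng_mem : ng ∈ twoJ2 := by
  have : ng = rf (rv (gi 2)) * (rf (rv (gi 0)) * rf (rv (gi 2)) * rf (rv (gi 0))) *
      (rf (rv (gi 1)) * rf (rv (gi 0)) * rf (rv (gi 2)) * rf (rv (gi 0)) * rf (rv (gi 1))) := by
    refine Equiv.ext fun x => Subtype.ext ?_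
    simp only [Equiv.Perm.mul_apply, rf_apply (gm 0), rf_apply (gm 1), rf_apply (gm 2), sw0, sw1, neg0, ng_apply]
    apply V_ext <;> simp
  rw [this]
  repeat' first | exact rf_mem _ | apply mul_mem

noncomputable def p1 : icoLeech := ⟨_, (gm 2).1⟩
theorem r2_min : Ph r2 ∈ Min := Ph_min.2 (by decide +kernel)
noncomputable def p2 : icoLeech := ⟨_, r2_min.1⟩
noncomputable def p3 : icoLeech := ⟨_, (gm 0).1⟩

theorem ng_ne : ng ≠ 1 := fun h => by
  have := congrArg (fun f : Equiv.Perm icoLeech => (f p1 : V)) h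
  simp only [ng_apply, Equiv.Perm.one_apply, neg_eq_iff_add_eq_zero, ← two_smul ℝ, smul_eq_zero, two_ne_zero, false_or] at this
  exact rv_ne (gi_lt (by norm_num)) this

theorem fix1 {g : Equiv.Perm icoLeech} (hg : g ∈ twoJ2) (h1 : g p1 = p1) (x : icoLeech) : (g x : V) 0 = x.1 0 := by
  have := iso hg x p1
  rw [h1] at this
  exact smul_right_injective _ (two_ne_zero (α := ℝ)) ((qip_g2 _).symm.trans (this.trans (qip_g2 _)))

theorem hh_ne : icoH ≠ 0 := fun h => by simpa [h] using normSq_hh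

theorem fix3 {g : Equiv.Perm icoLeech} (hg : g ∈ twoJ2) (h1 : g p1 = p1) (h2 : g p2 = p2) : g p3 = p3 := by
  obtain ⟨i, hi, u, hu, hu', e⟩ := min_cls (iso_min hg (r := p3) (gm 0))
  have e0 : u * ph (R i).x = icoH := by
    have := fix1 hg h1 p3
    rw [e] at this
    exact this.trans (congrFun rv_g0 0)
  have e1 := iso hg p3 p2
  rw [h2, e, qip_smul] at e1
  obtain rfl := K1 i hi (norm_eq (d := hh) (by rw [ph_hh, ← e0, map_mul, hu', one_mul])).1 (ph_inj (by
    rw [ph_mul, ph_mul, ph_st, ph_st, ph_ip, ph_ip, ph_hh, ← e0, show qip (Ph (R (gi 0))) (Ph r2) = _ from e1.symm, star_mul,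
      mul_smul_comm, mul_smul_comm, mul_assoc, ← mul_assoc (star u), Quaternion.star_mul_self, hu', Quaternion.coe_one, one_mul]
    rfl))
  have : ph (R (gi 0)).x = icoH := congrFun rv_g0 0
  rw [this, mul_left_eq_self₀] at e0
  exact Subtype.ext (by rw [e, e0.resolve_right hh_ne, one_smul]; rfl)

theorem fix_all {g : Equiv.Perm icoLeech} (hg : g ∈ twoJ2) (h1 : g p1 = p1) (h2 : g p2 = p2) : g = 1 := by
  refine Equiv.ext fun x => Subtype.ext ?_
  have e0 := fix1 hg h1 x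
  have e1 := iso hg x p3
  have e2 := iso hg x p2
  rw [fix3 hg h1 h2] at e1
  rw [h2] at e2
  simp only [p3, rv_g0, qip_eq, e0, Matrix.cons_val_zero, Matrix.cons_val_one, Matrix.cons_val, star_zero, mul_zero, add_zero,
    add_right_inj, mul_eq_mul_right_iff, star_eq_zero, neg_eq_zero, hh_ne, or_false] at e1
  simp only [qip_eq, e0, e1, add_right_inj, mul_eq_mul_right_iff, star_eq_zero] at e2
  exact V_ext e0 e1 (e2.resolve_right fun h => absurd (ph_inj (h.trans ph_zero.symm)) (by decide))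

theorem min_fin : Min.Finite := Set.finite_of_ncard_ne_zero (by rw [ncard_min]; norm_num)

theorem orb1 : (orbit twoJ2 p1).Finite ∧ (orbit twoJ2 p1).ncard ≤ 37800 := by
  have h : Set.MapsTo Subtype.val (orbit twoJ2 p1) Min := by
    rintro _ ⟨g, rfl⟩; exact iso_min g.2 (gm 2)
  exact ⟨Set.Finite.of_injOn h Subtype.val_injective.injOn min_fin,
    ncard_min ▸ Set.ncard_le_ncard_of_injOn _ h Subtype.val_injective.injOn min_fin⟩

theorem orb2 : (orbit ↥(twoJ2 ⊓ stabilizer _ p1) p2).Finite ∧ (orbit ↥(twoJ2 ⊓ stabilizer _ p1) p2).ncard ≤ 32 := by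
  have k : ∀ s : icoLeech, ∃ i, s ∈ orbit ↥(twoJ2 ⊓ stabilizer _ p1) p2 →
      i < 315 ∧ ∃ u, normSq u = 1 ∧ s.1 = u • rv i ∧ u * ph (R i).x = ph r2.x := fun s => by
    by_cases h : s ∈ orbit ↥(twoJ2 ⊓ stabilizer _ p1) p2
    · obtain ⟨g, rfl⟩ := h
      obtain ⟨i, hi, u, hu, hu', e⟩ := min_cls (iso_min g.2.1 (r := p2) r2_min)
      exact ⟨i, fun _ => ⟨hi, u, hu', e, by have := fix1 g.2.1 g.2.2 p2; rwa [e] at this⟩⟩
    · exact ⟨0, fun h' => absurd h' h⟩
  choose f hf using k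
  have c := Inj.ncard_class (pt := fun i => i) (N := 315) (fun _ _ _ _ h => h) (fun i => bE ((R i).x.n0 = 4 ∧ (R i).x.n1 = 4)) 0
  rw [K32, Set.image_id'] at c
  have h : Set.MapsTo f (orbit ↥(twoJ2 ⊓ stabilizer _ p1) p2) {d | d < 315 ∧ bE ((R d).x.n0 = 4 ∧ (R d).x.n1 = 4) = 0} := by
    intro s hs
    obtain ⟨h1, u, h2, -, h3⟩ := hf s hs
    have : (R (f s)).x.n0 = 4 ∧ (R (f s)).x.n1 = 4 := norm_eq (c := (R (f s)).x) (d := r2.x) (by rw [← h3, map_mul, h2, one_mul])
    exact ⟨h1, by simp [bE, this]⟩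
  have h' : Set.InjOn f (orbit ↥(twoJ2 ⊓ stabilizer _ p1) p2) := by
    intro s hs t ht e
    obtain ⟨-, u, -, h2, h3⟩ := hf s hs
    obtain ⟨-, v, -, h4, h5⟩ := hf t ht
    rw [← e] at h4 h5
    obtain rfl : u = v := mul_right_cancel₀ (fun h0 => by
      rw [h0, mul_zero, ← ph_zero] at h3; exact absurd (ph_inj h3) (by decide)) (h3.trans h5.symm)
    exact Subtype.ext (h2.trans h4.symm)
  have fin := Set.finite_of_ncard_ne_zero (c.trans_ne (by norm_num))
  exact ⟨Set.Finite.of_injOn h h' fin, c ▸ Set.ncard_le_ncard_of_injOn _ h h' fin⟩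

theorem two_le : CardLE twoJ2 1209600 := by
  have e1 := card_eq_orbit_mul twoJ2 p1
  have e2 := card_eq_orbit_mul (twoJ2 ⊓ stabilizer _ p1) p2
  rw [show twoJ2 ⊓ stabilizer _ p1 ⊓ stabilizer _ p2 = ⊥ from eq_bot_iff.2 fun g h => fix_all h.1.1 h.1.2 h.2, Subgroup.card_bot,
    mul_one] at e2
  have a1 := (Set.ncard_pos orb1.1).2 (nonempty_orbit _)
  have a2 := (Set.ncard_pos orb2.1).2 (nonempty_orbit _)
  rw [e2] at e1
  exact ⟨Nat.finite_of_card_ne_zero (by rw [e1]; positivity), e1 ▸ Nat.mul_le_mul orb1.2 orb2.2⟩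

instance : Finite twoJ2 := two_le.1

def zz : Subgroup.center twoJ2 := ⟨⟨ng, ng_mem⟩, Subgroup.mem_center_iff.2 fun g => Subtype.ext (ng_comm g.2)⟩

theorem zz_ne : zz ≠ 1 := fun h => ng_ne (congrArg (fun x : Subgroup.center twoJ2 => x.1.1) h)

theorem ctr_ge : 2 ≤ Nat.card (Subgroup.center twoJ2) := Finite.one_lt_card_iff_nontrivial.2 ⟨_, _, zz_ne⟩

theorem j2_le : CardLE (⊤ : Subgroup Spor.J2) 604800 := by
  have := Subgroup.card_eq_card_quotient_mul_card_subgroup (Subgroup.center twoJ2)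
  refine ⟨inferInstance, ?_⟩
  rw [Subgroup.card_top]
  nlinarith [two_le.2, ctr_ge]

/-- a group, as the set on which its central quotient acts by conjugation -/
def CX (G : Type*) : Type _ := G

noncomputable instance (G : Type*) [Group G] : MulAction (G ⧸ Subgroup.center G) (CX G) :=
  MulAction.compHom G (QuotientGroup.lift (Subgroup.center G) (MulAut.conj : G →* MulAut G) fun a ha => by
    ext x; simp [← Subgroup.mem_center_iff.1 ha x])

def toCX {G : Type*} (x : G) : CX G := x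

theorem cx_smul {G : Type*} [Group G] (a x : G) : (a : G ⧸ Subgroup.center G) • toCX x = toCX (a * x * a⁻¹) := rfl

noncomputable def rr (i : ℕ) : twoJ2 := ⟨rf (rv i), rf_mem _⟩
noncomputable def pt (i : ℕ) : CX twoJ2 := toCX (rr i)
noncomputable def al (j : ℕ) : Spor.J2 := rr (gi j)

theorem pt_inj : Inj pt 315 := fun i hi j hj h => rf_inj i hi j hj (congrArg Subtype.val h)

theorem pt_reps : Reps pt 315 al T 4 := fun j hj c hc => by
  obtain ⟨h1, u, h2, h3, e⟩ := rv_refl hj hc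
  exact ⟨h1, congrArg toCX (Subtype.ext ((rf_conj (gm j hj) (rv_min hc)).trans (by rw [e, rf_unit h2 h3 (rv_min h1)]; rfl)))⟩

theorem al_sq (j : ℕ) : al j * al j = 1 := by
  rw [al, ← QuotientGroup.mk_mul, show rr (gi j) * rr (gi j) = 1 from Subtype.ext (rf_sq _)]; rfl

end Cfsg.Agent.J2
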