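import Cfsg.Agent.Lib.J2.Enum
import Cfsg.Agent.Lib.Classical.OrthStm

/-! First cohomology of small orthogonal groups over the field with two elements on the natural module. -/

set_option autoImplicit false
set_option maxRecDepth 100000

namespace Cfsg.Agent.Ct.H1

open Cfsg.Agent.PC Cfsg.Agent.Fi MulAction Matrix

section
variable {ι : Type} [Fintype ι] [DecidableEq ι] {ix : ι → ℕ} {d : ℕ}

def bv (ix : ι → ℕ) (c : ℕ) : ι → ZMod 2 := fun i => if c.testBit (ix i) then 1 else 0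
def cm (ix : ι → ℕ) (T : ℕ → ℕ) : Matrix ι ι (ZMod 2) := of fun a b => bv ix (T (2 ^ ix b)) a
def Af (V : Type) : Type := V

omit [Fintype ι] [DecidableEq ι] in
theorem bv_xor (a b : ℕ) : bv ix (a ^^^ b) = bv ix a + bv ix b := funext fun i => by
  simp only [bv, Nat.testBit_xor, Pi.add_apply]
  cases a.testBit (ix i) <;> cases b.testBit (ix i) <;> rfl

omit [Fintype ι] [DecidableEq ι] in
theorem bv_inj (h : ∀ k < d, ∃ i, ix i = k) : Inj (bv ix) (2 ^ d) := fun a ha b hb e => Nat.eq_of_testBit_eq fun k => by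
  by_cases hk : k < d
  · obtain ⟨i, rfl⟩ := h k hk
    have := congrFun e i
    simp only [bv] at this
    revert this
    cases a.testBit (ix i) <;> cases b.testBit (ix i) <;> decide
  · have := Nat.pow_le_pow_right two_pos (not_lt.1 hk)
    rw [Nat.testBit_eq_false_of_lt (ha.trans_le this), Nat.testBit_eq_false_of_lt (hb.trans_le this)]

theorem bv_surj (h : (∀ k < d, ∃ i, ix i = k) ∧ Fintype.card ι = d) (v : ι → ZMod 2) : ∃ c < 2 ^ d, bv ix c = v := by
  have : (Finset.range (2 ^ d)).image (bv ix) = Finset.univ := Finset.eq_univ_of_card _ (by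
    rw [Finset.card_image_of_injOn fun a ha b hb => bv_inj h.1 a (by simpa using ha) b (by simpa using hb)]; simp [h.2])
  simpa using this.ge (Finset.mem_univ v)

theorem allE_of {α : Type} {f : α → ℕ} {Q : List α} (h : ∀ q ∈ Q, f q = 0) : allE f Q = 0 := by
  induction Q with
  | nil => rfl
  | cons q Q ih => exact Nat.add_eq_zero_iff.2 ⟨h q (.head _), ih fun p hp => h p (.tail _ hp)⟩

noncomputable def afT (U : ℕ → ℕ → ℕ) (j x i c : ℕ) : ℕ := Nat.xor (U i c) (Nat.mul (eqI i j) x)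

theorem coc {G : Type*} [Group G] [DistribMulAction G (ι → ZMod 2)] (hix : (∀ k < d, ∃ i, ix i = k) ∧ Fintype.card ι = d) {a : ℕ → G}
    {U : ℕ → ℕ → ℕ} {B : List ℕ} (ma : Md (bv ix) (2 ^ d) B a U d) (ta : gen a d = ⊤) (d0 : 0 < d)
    {I : ℕ → ℕ} (hI : ∀ x < 2 ^ d, I x < 2 ^ d ∧ U 0 (I x) ^^^ I x = x) {R : ℕ → List (List ℕ × ℕ)}
    (hR : ∀ j < d, ∀ p ∈ R j, lettE (j + 1) p.1 = 0 ∧ lettE d p.1 = 0 ∧ agF B (itF (trF U p.1) p.2) (fun x => x) = 0)
    (hX : ∀ j < d, ∀ x < 2 ^ d, j = 0 ∨ x = 0 ∨ allE (fun p => itF (trF (afT U j x) p.1) p.2 0) (R j) ≠ 0)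
    (f : G → ι → ZMod 2) (hf : ∀ g h, f (g * h) = f g + g • f h) : ∃ v, ∀ g, f g = g • v - v := by
  obtain ⟨x, hx, e2⟩ := bv_surj hix (f (a 0))
  obtain ⟨f', hf', h0, e⟩ : ∃ f' : G → ι → ZMod 2, (∀ g h, f' (g * h) = f' g + g • f' h) ∧ f' (a 0) = 0 ∧
      ∀ g, f' g = f g - (g • bv ix (I x) - bv ix (I x)) := ⟨_, fun g h => by simp only [hf, mul_smul, smul_sub]; abel, by
    show _ - _ = _
    rw [(ma.reps 0 d0 _ (hI x hx).1).2, ← e2, ← congrArg (bv ix) (hI x hx).2, bv_xor]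
    exact funext fun i => (by decide : ∀ a b : ZMod 2, a + b - (a - b) = 0) _ _, fun _ => rfl⟩
  have f1 : f' 1 = 0 := by simpa using hf' 1 1
  have b0 : bv ix 0 = 0 := funext fun i => by simp [bv]
  letI : MulAction G (Af (ι → ZMod 2)) :=
    { smul := fun g (w : ι → ZMod 2) => (g • w + f' g : ι → ZMod 2)
      one_smul := fun (w : ι → ZMod 2) => show (1 : G) • w + f' 1 = w by rw [one_smul, f1, add_zero]
      mul_smul := fun g h (w : ι → ZMod 2) => show (g * h) • w + f' (g * h) = g • (h • w + f' h) + f' g by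
        rw [hf', mul_smul, smul_add]; abel }
  have key : ∀ j < d, f' (a j) = 0 := fun j => Nat.strong_induction_on j fun j ih hj => by
    obtain ⟨y, hy, e3⟩ := bv_surj hix (f' (a j))
    rcases hX j hj y hy with rfl | rfl | h
    · exact h0
    · rw [← e3, b0]
    refine absurd (allE_of fun p hp => ?_) h
    have rp : Reps (X := Af (ι → ZMod 2)) (bv ix) (2 ^ d) a (afT U j y) (j + 1) := fun i hi c hc => by
      obtain ⟨h1, h2⟩ := ma.reps i (by omega) c hc
      have : Nat.mul (eqI i j) y < 2 ^ d ∧ f' (a i) = bv ix (Nat.mul (eqI i j) y) := by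
        rw [eqI_eq]
        split_ifs with h
        · simpa [h] using ⟨hy, e3.symm⟩
        · simpa [b0] using ih i (by omega) (by omega)
      exact ⟨Nat.xor_lt_two_pow h1 this.1, show a i • bv ix c + f' (a i) = _ by rw [h2, this.2]; exact (bv_xor _ _).symm⟩
    obtain ⟨h1, h2, h3⟩ := hR j hj p hp
    obtain ⟨h4, h5⟩ := (trF_eq _ p.1 ▸ rp.ev (lettE_zero h1) :).itF p.2 0 (Nat.two_pow_pos d)
    rw [(ma.eqF ((ma.rw h2).itF p.2) Rep.one).1 h3] at h5
    exact bv_inj hix.1 _ h4 _ (Nat.two_pow_pos d) (h5.symm.trans (one_smul G (α := Af _) _))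
  refine ⟨_, fun g => sub_eq_zero.1 ((e g).symm.trans (gen_induction (P := fun g => f' g = 0) f1 (fun j hj x hx => ?_)
    (fun j hj x hx => ?_) g (ta.ge trivial)))⟩
  · rw [hf', key j hj, hx, smul_zero, add_zero]
  · have := hf' (a j)⁻¹ (a j)
    rw [inv_mul_cancel, f1, key j hj, smul_zero, add_zero] at this
    rw [hf', ← this, hx, smul_zero, add_zero]

theorem model {Q : (ι → ZMod 2) → ZMod 2} {T U : ℕ → ℕ → ℕ} (hix : (∀ k < d, ∃ i, ix i = k) ∧ Fintype.card ι = d)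
    (h1 : ∀ j < d, cm ix (T j) * cm ix (T j) = 1 ∧ ∀ c < 2 ^ d, T j c < 2 ^ d ∧ cm ix (T j) *ᵥ bv ix c = bv ix (T j c) ∧
      Q (bv ix (T j c)) = Q (bv ix c)) {t : List Lev} (hc : chainE T (2 ^ d) 16 t d = 0)
    (cd : Nat.card (isometryGroup (ZMod 2) Q) = chainN t) {B : List ℕ} (hB : t.map Lev.β = B) {K : ℕ → List ℕ} {θ : List ℕ}
    (hK : 0 < d ∧ (∀ j ∈ θ, j < d) ∧ ∀ j < d, eqE T B d (0 :: K j) (K j ++ [j]) = 0)
    (hL : lin (fun j => lettE d ((if j = 0 then θ else [j]).flatMap fun i => [0, i])) (nat_lit 0) d = 0)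
    (hU : ∀ c < 2 ^ d, tabE T U (fun j => (if j = 0 then θ else [j]).flatMap fun i => [0, i]) d c = 0) :
    ∃ a : ℕ → Omega (ZMod 2) Q, Md (bv ix) (2 ^ d) B a U d ∧ gen a d = ⊤ := by
  let r : ℕ → isometryGroup (ZMod 2) Q := fun j => if h : j < d then ⟨⟨cm ix (T j), cm ix (T j), (h1 j h).1, (h1 j h).1⟩, fun v _ => by
    obtain ⟨c, hc, rfl⟩ := bv_surj hix v
    exact (congrArg Q ((h1 j h).2 c hc).2.1).trans ((h1 j h).2 c hc).2.2⟩ else 1
  have rr : Reps (bv ix) (2 ^ d) r T d := fun j hj c hc => ⟨((h1 j hj).2 c hc).1, by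
    simp only [r, dif_pos hj]; exact ((h1 j hj).2 c hc).2.1⟩
  have r2 : ∀ j < d, r j * r j = 1 := fun j hj => by simp only [r, dif_pos hj]; exact Subtype.ext (Units.ext (h1 j hj).1)
  have C : Ch _ _ r T d 16 t := ⟨bv_inj hix.1, rr, hc, cardLE_of_card (by rw [Subgroup.card_top, cd])⟩
  have md := C.md rr hB
  clear_value r
  have i0 : (r 0)⁻¹ = r 0 := inv_eq_of_mul_eq_one_right (r2 0 hK.1)
  have m1 : ∀ j < d, r j * r 0 ∈ Omega (ZMod 2) Q := fun j hj => by
    have := md.eq (hK.2.2 j hj)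
    rw [ev_cons, ev_append, ev_cons, ev_nil, one_mul] at this
    rw [← mul_inv_eq_of_eq_mul this]
    have := Subgroup.commutator_mem_commutator (Subgroup.mem_top (ev r (K j))) (Subgroup.mem_top (r 0))
    rwa [commutatorElement_def, i0] at this
  have m2 : ∀ l : List ℕ, (∀ j ∈ l, j < d) → ev r (l.flatMap fun i => [0, i]) ∈ Omega (ZMod 2) Q := fun l hl => by
    induction l with
    | nil => exact one_mem _
    | cons j l ih =>
      show ev r _ * r j * r 0 ∈ _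
      rw [mul_assoc]
      exact mul_mem (ih fun i hi => hl i (.tail _ hi)) (m1 j (hl j (.head _)))
  have mu := md.words (Q := U) hL hU
  have e1 : gen (fun j => ev r ((if j = 0 then θ else [j]).flatMap fun i => [0, i])) d = Omega (ZMod 2) Q := by
    refine le_antisymm (gen_le fun j hj => m2 _ (by split_ifs; exacts [hK.2.1, by simpa using hj])) ?_
    have n0 : r 0 ∈ Subgroup.normalizer (gen (fun j => r j * r 0) d : Set _) := mem_normalizer_gen fun j hj => by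
      have := inv_mem (mem_gen (fun j => r j * r 0) hj)
      rwa [_root_.mul_inv_rev, inv_eq_of_mul_eq_one_right (r2 j hj), i0, ← mul_inv_cancel_right (r 0 * r j) (r 0), mul_assoc (r 0)] at this
    have : (gen (fun j => r j * r 0) d).Normal := Subgroup.normalizer_eq_top_iff.1 (top_unique (C.top ▸ gen_le fun j hj => by
      simpa [mul_assoc, r2 0 hK.1] using mul_mem (Subgroup.le_normalizer (mem_gen (fun j => r j * r 0) hj)) n0))
    refine ((Subgroup.Normal.quotient_commutative_iff_commutator_le (N := gen (fun j => r j * r 0) d)).1 ?_).trans (gen_le fun j hj => ?_)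
    · refine @IsCyclic.isMulCommutative _ _ ⟨⟨QuotientGroup.mk (r 0), fun x => ?_⟩⟩
      obtain ⟨g, rfl⟩ := QuotientGroup.mk_surjective x
      refine (gen_le fun j hj => ?_ : gen r d ≤ (Subgroup.zpowers (QuotientGroup.mk (r 0))).comap (QuotientGroup.mk' _)) (C.top.ge trivial)
      refine ⟨1, (zpow_one _).trans (QuotientGroup.eq.2 ?_).symm⟩
      rw [inv_eq_of_mul_eq_one_right (r2 j hj)]
      exact mem_gen (fun j => r j * r 0) hj
    · rcases Nat.eq_zero_or_pos j with rfl | h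
      · exact r2 0 hj ▸ one_mem _
      · simpa [h.ne'] using mem_gen (fun j => ev r ((if j = 0 then θ else [j]).flatMap fun i => [0, i])) hj
  exact ⟨_, mu.sub le_rfl e1.le, gen_sub_top e1⟩

end

def aTf (i : ℕ) : ℕ := Nat.land (Nat.shiftRight (nat_lit 0xba98fedc765432107654ba98fedc3210fe89bacd23546710fdecb9a875643120) (Nat.mul (nat_lit 4) i)) (nat_lit 15)
noncomputable def aT (j c : ℕ) : ℕ := aTf (Nat.add (Nat.mul j (nat_lit 16)) c)
def aUf (i : ℕ) : ℕ := Nat.land (Nat.shiftRight (nat_lit 0xb9a8fdec756431207564b9a8fdec3120f8e9bcad253461707c6df4e52938a1b0) (Nat.mul (nat_lit 4) i)) (nat_lit 15)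
noncomputable def aU (j c : ℕ) : ℕ := aUf (Nat.add (Nat.mul j (nat_lit 16)) c)
def aI (i : ℕ) : ℕ := Nat.land (Nat.shiftRight (nat_lit 0x6a84d13f957b2ec0) (Nat.mul (nat_lit 4) i)) (nat_lit 15)
def aCV0 (i : ℕ) : ℕ := Nat.land (Nat.shiftRight (nat_lit 0x26000000200000440000000c6000) (Nat.mul (nat_lit 7) i)) (nat_lit 127)
def aCV1 (i : ℕ) : ℕ := Nat.land (Nat.shiftRight (nat_lit 0x12030840000001000000) (Nat.mul (nat_lit 6) i)) (nat_lit 63)
def aCV2 (i : ℕ) : ℕ := Nat.land (Nat.shiftRight (nat_lit 0x11800040000) (Nat.mul (nat_lit 6) i)) (nat_lit 63)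
def aCV3 (i : ℕ) : ℕ := Nat.land (Nat.shiftRight (nat_lit 0x4020) (Nat.mul (nat_lit 5) i)) (nat_lit 31)
noncomputable def att : List Lev := [⟨nat_lit 11, nat_lit 5, nat_lit 3, aCV0⟩, ⟨nat_lit 4, nat_lit 4, nat_lit 2, aCV1⟩, ⟨nat_lit 3, nat_lit 3, nat_lit 1, aCV2⟩, ⟨nat_lit 1, nat_lit 2, nat_lit 0, aCV3⟩]
def aK (j : ℕ) : List ℕ := [[], [1, 0], [1, 0, 2, 1], [1, 0, 2, 1, 3, 2]].getD j []
def aR (j : ℕ) : List (List ℕ × ℕ) := [([] : List (List ℕ × ℕ)), [([1], 3), ([0, 0, 1], 2)], [([2], 2), ([0, 2], 3)], [([3], 2), ([1, 1, 0, 3, 2], 1)]].getD j []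
def bTf_t : TN := (TN.node (TN.node (TN.node (TN.leaf (nat_lit 0xffbf79fbaf38df3d71db2d30bebb69baab289e39619a29207db75979a7185d35515925103cb34938a3081c3141182100)) (TN.leaf (nat_lit 0x7de75c6da6585d65544d2450beeb6caeaa689e69648e2860ffef7cefae78df6d74cf2c703ce34c2ca2481c61440c2040))) (TN.node (TN.leaf (nat_lit 0xffef7cefae789649e68608e2beeb6caeaa68d74df6c70cf234c3ce2482ca5d65544d245075c7de6586da1c61440c2040)) (TN.leaf (nat_lit 0x0)))) (TN.node (TN.node (TN.leaf (nat_lit 0xd35f7cefacb3df6fbfe39c70925b6caea8a39e6bafa2986051575c6da4935d679f61945010534c2ca0831c638f209040)) (TN.leaf (nat_lit 0xbeeb6caeaa689e69648e2860ffef7cefae78df6d74cf2c707de75c6da6585d65544d24503ce34c2ca2481c61440c2040))) (TN.node (TN.leaf (nat_lit 0xffedf6efacf2f7cd74e78c70bee9e6aea8e2b6c964a688607de5d66da4d275c5546584503ce1c62ca0c234c144248040)) (TN.leaf (nat_lit 0x0)))))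
noncomputable def bTf (i : ℕ) : ℕ := get2 bTf_t (nat_lit 6) (nat_lit 0x3f) i
noncomputable def bT (j c : ℕ) : ℕ := bTf (Nat.add (Nat.mul j (nat_lit 64)) c)
def bUf_t : TN := (TN.node (TN.node (TN.node (TN.leaf (nat_lit 0xf1b5f0f5a5b1d527b9d137f873bdd077ad91572f99533fd89033e89423a9b4a1a1b0b1e0123bc8162b8936a98132b9c0)) (TN.leaf (nat_lit 0x7db75979a7185d3551592510bebb69baab289e39619a2920ffbf79fbaf38df3d71db2d303cb34938a3081c3141182100))) (TN.node (TN.leaf (nat_lit 0xffbf79fbaf389619e39209a2bebb69baab28d71df3d30db23493cb30838a5d35515925107597db71879a1c3141182100)) (TN.leaf (nat_lit 0x0)))) (TN.node (TN.node (TN.leaf (nat_lit 0xd3bf72d7af33df8fb1db9ff092bb6296ab239e8ba19a9be051b75255a7135d87915997d010b34214a3031c83811893c0)) (TN.leaf (nat_lit 0xbebb69baab289e39619a2920ffbf79fbaf38df3d71db2d307db75979a7185d35515925103cb34938a3081c3141182100))) (TN.node (TN.leaf (nat_lit 0xffbdf3fbadb2f79d71f38d30beb9e3baa9a2b69961b289207db5d379a5927595517185103cb1c338a182349141308100))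 (TN.leaf (nat_lit 0x0)))))
noncomputable def bUf (i : ℕ) : ℕ := get2 bUf_t (nat_lit 6) (nat_lit 0x3f) i
noncomputable def bU (j c : ℕ) : ℕ := bUf (Nat.add (Nat.mul j (nat_lit 64)) c)
def bI (i : ℕ) : ℕ := Nat.land (Nat.shiftRight (nat_lit 0x4db92c7d7a208eb51cbe7610e71386d7d08a241fb614dcbaa6179696d49a651ba655d8aa0cbd3c3c7e30cfb10cff7200) (Nat.mul (nat_lit 6) i)) (nat_lit 63)
def bCV0 (i : ℕ) : ℕ := Nat.land (Nat.shiftRight (nat_lit 0x2118a003a05400005a8012800000000000002556600428040000510014a00000000000001c9a80031090000062001020000000000071000006300000a6320014000f12090e0000) (Nat.mul (nat_lit 9) i)) (nat_lit 511)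
def bCV1 (i : ℕ) : ℕ := Nat.land (Nat.shiftRight (nat_lit 0x7100000000000000000000620000521400000040000031330053000043220000840000000000000000000074000064010000920000000000a300000000000000) (Nat.mul (nat_lit 8) i)) (nat_lit 255)
def bCV2 (i : ℕ) : ℕ := Nat.land (Nat.shiftRight (nat_lit 0x44000000000000000003100020000000980000000002000000000000) (Nat.mul (nat_lit 7) i)) (nat_lit 127)
def bCV3 (i : ℕ) : ℕ := Nat.land (Nat.shiftRight (nat_lit 0x12030000840000000000001000000000000000) (Nat.mul (nat_lit 6) i)) (nat_lit 63)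
def bCV4 (i : ℕ) : ℕ := Nat.land (Nat.shiftRight (nat_lit 0x11000800000000040000000) (Nat.mul (nat_lit 6) i)) (nat_lit 63)
def bCV5 (i : ℕ) : ℕ := Nat.land (Nat.shiftRight (nat_lit 0x1000020) (Nat.mul (nat_lit 5) i)) (nat_lit 31)
noncomputable def btt : List Lev := [⟨nat_lit 42, nat_lit 27, nat_lit 5, bCV0⟩, ⟨nat_lit 16, nat_lit 16, nat_lit 4, bCV1⟩, ⟨nat_lit 7, nat_lit 5, nat_lit 3, bCV2⟩, ⟨nat_lit 10, nat_lit 4, nat_lit 2, bCV3⟩, ⟨nat_lit 5, nat_lit 3, nat_lit 1, bCV4⟩, ⟨nat_lit 1, nat_lit 2, nat_lit 0, bCV5⟩]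
def bK (j : ℕ) : List ℕ := [[], [1, 0], [1, 0, 2, 1], [1, 0, 2, 1, 3, 2], [1, 0, 2, 1, 4, 2], [1, 0, 2, 1, 4, 2, 5, 4]].getD j []
def bR (j : ℕ) : List (List ℕ × ℕ) := [([] : List (List ℕ × ℕ)), [([1], 3), ([0, 1, 1], 5)], [([2], 2), ([1, 2], 3), ([0, 2], 5)], [([3], 2), ([2, 3], 3), ([0, 3], 5)], [([4], 2), ([2, 4], 3), ([0, 4], 6)], [([5], 2), ([4, 5], 3), ([1, 5, 0, 2], 2)]].getD j []
def cTf_t : TN := (TN.node (TN.node (TN.node (TN.node (TN.node (TN.leaf (nat_lit 0x3f2f3d2d3b2b392937273525332331213e2e3c2c3a2a382836263424322230201f0f1d0d1b0b190917071505130311011e0e1c0c1a0a18081606140412021000)) (TN.leaf (nat_lit 0x737271703b3a39387b7a797833323130636261602b2a29286b6a696823222120535251501b1a19185b5a595813121110434241400b0a09084b4a494803020100))) (TN.node (TN.leaf (nat_lit 0x3f2b3d293b2f392d37233521332731253a2e382c3e2a3c2832263024362234201f0b1d091b0f190d17031501130711051a0e180c1e0a1c081206100416021400)) (TN.leaf (nat_lit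 0x243e263c203a22382c362e3428322a302f352d372b312933273d253f2339213b1f051d071b011903170d150f1309110b140e160c100a12081c061e0418021a00)))) (TN.node (TN.node (TN.leaf (nat_lit 0x1c1d3d3c1819393814153534101131302f2e0e0f2b2a0a0b27260607232202031f1e3e3f1b1a3a3b17163637131232332c2d0d0c282909082425050420210100)) (TN.leaf (nat_lit 0xb7b6b5b4b3b2b1b03736353433323130a7a6a5a4a3a2a1a027262524232221209796959493929190171615141312111087868584838281800706050403020100))) (TN.node (TN.leaf (nat_lit 0x7b7a79783b3a393873727170333231306b6a69682b2a292863626160232221205b5a59581b1a191853525150131211104b4a49480b0a09084342414003020100)) (TN.leaf (nat_lit 0x3f3e1f1e3b3a1b1a37361716333213122f2e0f0e2b2a0b0a27260706232203023d3c1d1c3938191835341514313011102d2c0d0c292809082524050421200100))))) (TN.node (TN.node (TN.node (TN.leaf (nat_lit 0xbfafbdadbbabb9a9b7a7b5a5b3a3b1a1beaebcacbaaab8a8b6a6b4a4b2a2b0a09f8f9d8d9b8b998997879585938391819e8e9c8c9a8a98889686948492829080))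 (TN.leaf (nat_lit 0xbfbebdbcf7f6f5f4b7b6b5b4fffefdfcafaeadace7e6e5e4a7a6a5a4efeeedec9f9e9d9cd7d6d5d497969594dfdedddc8f8e8d8cc7c6c5c487868584cfcecdcc))) (TN.node (TN.leaf (nat_lit 0xbfabbda9bbafb9adb7a3b5a1b3a7b1a5baaeb8acbeaabca8b2a6b0a4b6a2b4a09f8b9d899b8f998d97839581938791859a8e988c9e8a9c889286908496829480)) (TN.leaf (nat_lit 0xbfa5bda7bba1b9a3b7adb5afb3a9b1abb4aeb6acb0aab2a8bca6bea4b8a2baa0849e869c809a82988c968e9488928a908f958d978b918993879d859f8399819b)))) (TN.node (TN.node (TN.leaf (nat_lit 0x9c9dbdbc9899b9b89495b5b49091b1b0afae8e8fabaa8a8ba7a68687a3a282839f9ebebf9b9ababb9796b6b79392b2b3acad8d8ca8a98988a4a58584a0a18180)) (TN.leaf (nat_lit 0xbfbebdbcbbbab9b83f3e3d3c3b3a3938afaeadacabaaa9a82f2e2d2c2b2a29289f9e9d9c9b9a99981f1e1d1c1b1a19188f8e8d8c8b8a89880f0e0d0c0b0a0908))) (TN.node (TN.leaf (nat_lit 0xfbfaf9f8bbbab9b8f3f2f1f0b3b2b1b0ebeae9e8abaaa9a8e3e2e1e0a3a2a1a0dbdad9d89b9a9998d3d2d1d093929190cbcac9c88b8a8988c3c2c1c083828180))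 (TN.leaf (nat_lit 0xbfbe9f9ebbba9b9ab7b69796b3b29392afae8f8eabaa8b8aa7a68786a3a28382bdbc9d9cb9b89998b5b49594b1b09190adac8d8ca9a88988a5a48584a1a08180)))))) (TN.node (TN.node (TN.node (TN.node (TN.leaf (nat_lit 0x7f6f7d6d7b6b796977677565736371617e6e7c6c7a6a786876667464726270605f4f5d4d5b4b594957475545534351415e4e5c4c5a4a58485646544452425040)) (TN.leaf (nat_lit 0x7f7e7d7c37363534777675743f3e3d3c6f6e6d6c27262524676665642f2e2d2c5f5e5d5c17161514575655541f1e1d1c4f4e4d4c07060504474645440f0e0d0c))) (TN.node (TN.leaf (nat_lit 0x6a7e687c6e7a6c7862766074667264706f7b6d796b7f697d67736571637761754a5e485c4e5a4c5842564054465244504f5b4d594b5f495d4753455143574155)) (TN.leaf (nat_lit 0x647e667c607a62786c766e7468726a706f756d776b716973677d657f6379617b5f455d475b415943574d554f5349514b544e564c504a52485c465e4458425a40)))) (TN.node (TN.node (TN.leaf (nat_lit 0x5c5d7d7c5859797854557574505171706f6e4e4f6b6a4a4b67664647636242435f5e7e7f5b5a7a7b57567677535272736c6d4d4c686949486465454460614140))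 (TN.leaf (nat_lit 0xf7f6f5f4f3f2f1f07776757473727170e7e6e5e4e3e2e1e06766656463626160d7d6d5d4d3d2d1d05756555453525150c7c6c5c4c3c2c1c04746454443424140))) (TN.node (TN.leaf (nat_lit 0x7f7e7d7c3f3e3d3c77767574373635346f6e6d6c2f2e2d2c67666564272625245f5e5d5c1f1e1d1c57565554171615144f4e4d4c0f0e0d0c4746454407060504)) (TN.leaf (nat_lit 0x7f7e5f5e7b7a5b5a77765756737253526f6e4f4e6b6a4b4a67664746636243427d7c5d5c7978595875745554717051506d6c4d4c696849486564454461604140))))) (TN.node (TN.node (TN.node (TN.leaf (nat_lit 0xffeffdedfbebf9e9f7e7f5e5f3e3f1e1feeefcecfaeaf8e8f6e6f4e4f2e2f0e0dfcfddcddbcbd9c9d7c7d5c5d3c3d1c1decedcccdacad8c8d6c6d4c4d2c2d0c0)) (TN.leaf (nat_lit 0xb3b2b1b0fbfaf9f8bbbab9b8f3f2f1f0a3a2a1a0ebeae9e8abaaa9a8e3e2e1e093929190dbdad9d89b9a9998d3d2d1d083828180cbcac9c88b8a8988c3c2c1c0))) (TN.node (TN.leaf (nat_lit 0xeafee8fceefaecf8e2f6e0f4e6f2e4f0effbedf9ebffe9fde7f3e5f1e3f7e1f5cadec8dccedaccd8c2d6c0d4c6d2c4d0cfdbcdd9cbdfc9ddc7d3c5d1c3d7c1d5))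 (TN.leaf (nat_lit 0xffe5fde7fbe1f9e3f7edf5eff3e9f1ebf4eef6ecf0eaf2e8fce6fee4f8e2fae0c4dec6dcc0dac2d8ccd6ced4c8d2cad0cfd5cdd7cbd1c9d3c7ddc5dfc3d9c1db)))) (TN.node (TN.node (TN.leaf (nat_lit 0xdcddfdfcd8d9f9f8d4d5f5f4d0d1f1f0efeececfebeacacbe7e6c6c7e3e2c2c3dfdefeffdbdafafbd7d6f6f7d3d2f2f3ecedcdcce8e9c9c8e4e5c5c4e0e1c1c0)) (TN.leaf (nat_lit 0xfffefdfcfbfaf9f87f7e7d7c7b7a7978efeeedecebeae9e86f6e6d6c6b6a6968dfdedddcdbdad9d85f5e5d5c5b5a5958cfcecdcccbcac9c84f4e4d4c4b4a4948))) (TN.node (TN.leaf (nat_lit 0xfffefdfcbfbebdbcf7f6f5f4b7b6b5b4efeeedecafaeadace7e6e5e4a7a6a5a4dfdedddc9f9e9d9cd7d6d5d497969594cfcecdcc8f8e8d8cc7c6c5c487868584)) (TN.leaf (nat_lit 0xfffedfdefbfadbdaf7f6d7d6f3f2d3d2efeecfceebeacbcae7e6c7c6e3e2c3c2fdfcdddcf9f8d9d8f5f4d5d4f1f0d1d0edeccdcce9e8c9c8e5e4c5c4e1e0c1c0)))))))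
noncomputable def cTf (i : ℕ) : ℕ := get2 cTf_t (nat_lit 8) (nat_lit 0xff) i
noncomputable def cT (j c : ℕ) : ℕ := cTf (Nat.add (Nat.mul j (nat_lit 256)) c)
def cUf_t : TN := (TN.node (TN.node (TN.node (TN.node (TN.node (TN.leaf (nat_lit 0x818b2e243c3693993832979d858f2a20151fbab0a8a2070daca60309111bbeb4353f9a908882272d8c862329313b9e94a1ab0e041c16b3b91812b7bda5af0a00)) (TN.leaf (nat_lit 0x736371613b2b39297b6b796933233121726270603a2a38287a6a786832223020534351411b0b19095b4b594913031101524250401a0a18085a4a584812021000))) (TN.node (TN.leaf (nat_lit 0x3f3a3d383b3e393c37323530333631342b2e292c2f2a2d2823262124272225201f1a1d181b1e191c17121510131611140b0e090c0f0a0d080306010407020500)) (TN.leaf (nat_lit 0x242f262d202b22292c272e2528232a213e353c373a313833363d343f3239303b1f141d161b101912171c151e1318111a050e070c010a03080d060f0409020b00)))) (TN.node (TN.node (TN.leaf (nat_lit 0x1c2f3d0e182b390a14273506102331021d2e3c0f192a380b15263407112230031f2c3e0d1b283a0917243605132032011e2d3f0c1a293b081625370412213300))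 (TN.leaf (nat_lit 0xb7a7b5a5b3a3b1a13727352533233121b6a6b4a4b2a2b0a036263424322230209787958593839181170715051303110196869484928290801606140412021000))) (TN.node (TN.leaf (nat_lit 0x7b6b79693b2b392973637161332331217a6a78683a2a382872627060322230205b4b59491b0b190953435141130311015a4a58481a0a18085242504012021000)) (TN.leaf (nat_lit 0x3f2f1f0f3b2b1b0b37271707332313033e2e1e0e3a2a1a0a36261606322212023d2d1d0d3929190935251505312111013c2c1c0c382818083424140430201000))))) (TN.node (TN.node (TN.node (TN.leaf (nat_lit 0x747edbd1c9c3666ccdc76268707adfd5e0ea4f455d57f2f85953f6fce4ee4b41c0ca6f657d77d2d87973d6dcc4ce6b61545efbf1e9e3464cede74248505afff5)) (TN.leaf (nat_lit 0xbfafbdadf7e7f5e5b7a7b5a5ffeffdedbeaebcacf6e6f4e4b6a6b4a4feeefcec9f8f9d8dd7c7d5c597879585dfcfddcd9e8e9c8cd6c6d4c496869484decedccc))) (TN.node (TN.leaf (nat_lit 0xbfbabdb8bbbeb9bcb7b2b5b0b3b6b1b4abaea9acafaaada8a3a6a1a4a7a2a5a09f9a9d989b9e999c97929590939691948b8e898c8f8a8d888386818487828580))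 (TN.leaf (nat_lit 0xbfb4bdb6bbb0b9b2b7bcb5beb3b8b1baa5aea7aca1aaa3a8ada6afa4a9a2aba0848f868d808b82898c878e8588838a819e959c979a919893969d949f9299909b)))) (TN.node (TN.node (TN.leaf (nat_lit 0x9cafbd8e98abb98a94a7b58690a3b1829daebc8f99aab88b95a6b48791a2b0839facbe8d9ba8ba8997a4b68593a0b2819eadbf8c9aa9bb8896a5b78492a1b380)) (TN.leaf (nat_lit 0xbfafbdadbbabb9a93f2f3d2d3b2b3929beaebcacbaaab8a83e2e3c2c3a2a38289f8f9d8d9b8b99891f0f1d0d1b0b19099e8e9c8c9a8a98881e0e1c0c1a0a1808))) (TN.node (TN.leaf (nat_lit 0xfbebf9e9bbabb9a9f3e3f1e1b3a3b1a1faeaf8e8baaab8a8f2e2f0e0b2a2b0a0dbcbd9c99b8b9989d3c3d1c193839181dacad8c89a8a9888d2c2d0c092829080)) (TN.leaf (nat_lit 0xbfaf9f8fbbab9b8bb7a79787b3a39383beae9e8ebaaa9a8ab6a69686b2a29282bdad9d8db9a99989b5a59585b1a19181bcac9c8cb8a89888b4a49484b0a09080)))))) (TN.node (TN.node (TN.node (TN.node (TN.leaf (nat_lit 0xd4de7b716963c6cc6d67c2c8d0da7f75404aefe5fdf75258f9f3565c444eebe1606acfc5ddd77278d9d3767c646ecbc1f4fe5b514943e6ec4d47e2e8f0fa5f55))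 (TN.leaf (nat_lit 0x7f6f7d6d37273525776775653f2f3d2d7e6e7c6c36263424766674643e2e3c2c5f4f5d4d17071505574755451f0f1d0d5e4e5c4c16061404564654441e0e1c0c))) (TN.node (TN.leaf (nat_lit 0x6a6f686d6e6b6c6962676065666364617e7b7c797a7f787d76737471727770754a4f484d4e4b4c4942474045464344415e5b5c595a5f585d5653545152575055)) (TN.leaf (nat_lit 0x646f666d606b62696c676e6568636a617e757c777a717873767d747f7279707b5f545d565b505952575c555e5358515a454e474c414a43484d464f4449424b40)))) (TN.node (TN.node (TN.leaf (nat_lit 0x5c6f7d4e586b794a54677546506371425d6e7c4f596a784b55667447516270435f6c7e4d5b687a4957647645536072415e6d7f4c5a697b485665774452617340)) (TN.leaf (nat_lit 0xf7e7f5e5f3e3f1e17767756573637161f6e6f4e4f2e2f0e07666746472627060d7c7d5c5d3c3d1c15747554553435141d6c6d4c4d2c2d0c05646544452425040))) (TN.node (TN.leaf (nat_lit 0x7f6f7d6d3f2f3d2d77677565372735257e6e7c6c3e2e3c2c76667464362634245f4f5d4d1f0f1d0d57475545170715055e4e5c4c1e0e1c0c5646544416061404))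 (TN.leaf (nat_lit 0x7f6f5f4f7b6b5b4b77675747736353437e6e5e4e7a6a5a4a76665646726252427d6d5d4d7969594975655545716151417c6c5c4c786858487464544470605040))))) (TN.node (TN.node (TN.node (TN.leaf (nat_lit 0x212b8e849c9633399892373d252f8a80b5bf1a100802a7ad0c06a3a9b1bb1e14959f3a302822878d2c268389919b3e34010baea4bcb61319b8b2171d050faaa0)) (TN.leaf (nat_lit 0xb3a3b1a1fbebf9e9bbabb9a9f3e3f1e1b2a2b0a0faeaf8e8baaab8a8f2e2f0e093839181dbcbd9c99b8b9989d3c3d1c192829080dacad8c89a8a9888d2c2d0c0))) (TN.node (TN.leaf (nat_lit 0xeaefe8edeeebece9e2e7e0e5e6e3e4e1fefbfcf9fafff8fdf6f3f4f1f2f7f0f5cacfc8cdcecbccc9c2c7c0c5c6c3c4c1dedbdcd9dadfd8ddd6d3d4d1d2d7d0d5)) (TN.leaf (nat_lit 0xfff4fdf6fbf0f9f2f7fcf5fef3f8f1fae5eee7ece1eae3e8ede6efe4e9e2ebe0c4cfc6cdc0cbc2c9ccc7cec5c8c3cac1ded5dcd7dad1d8d3d6ddd4dfd2d9d0db)))) (TN.node (TN.node (TN.leaf (nat_lit 0xdceffdced8ebf9cad4e7f5c6d0e3f1c2ddeefccfd9eaf8cbd5e6f4c7d1e2f0c3dfecfecddbe8fac9d7e4f6c5d3e0f2c1deedffccdae9fbc8d6e5f7c4d2e1f3c0))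 (TN.leaf (nat_lit 0xffeffdedfbebf9e97f6f7d6d7b6b7969feeefcecfaeaf8e87e6e7c6c7a6a7868dfcfddcddbcbd9c95f4f5d4d5b4b5949decedcccdacad8c85e4e5c4c5a4a5848))) (TN.node (TN.leaf (nat_lit 0xffeffdedbfafbdadf7e7f5e5b7a7b5a5feeefcecbeaebcacf6e6f4e4b6a6b4a4dfcfddcd9f8f9d8dd7c7d5c597879585decedccc9e8e9c8cd6c6d4c496869484)) (TN.leaf (nat_lit 0xffefdfcffbebdbcbf7e7d7c7f3e3d3c3feeedecefaeadacaf6e6d6c6f2e2d2c2fdedddcdf9e9d9c9f5e5d5c5f1e1d1c1fcecdcccf8e8d8c8f4e4d4c4f0e0d0c0)))))))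
noncomputable def cUf (i : ℕ) : ℕ := get2 cUf_t (nat_lit 8) (nat_lit 0xff) i
noncomputable def cU (j c : ℕ) : ℕ := cUf (Nat.add (Nat.mul j (nat_lit 256)) c)
def cI_t : TN := (TN.node (TN.node (TN.leaf (nat_lit 0x5f191452692f22645315185e65232e686f292462591f12546325286e55131e5807414c0a31777a3c0b4d40063d7b763037717c3a01474a0c3b7d70360d4b4600)) (TN.leaf (nat_lit 0x793f32744f09044275333e784305084e490f02447f39347245030e487335387e21676a2c17515c1a2d6b66201b5d501611575a1c27616c2a1d5b56102b6d6026))) (TN.node (TN.leaf (nat_lit 0xc7818ccaf1b7bafccb8d80c6fdbbb6f0f7b1bcfac1878accfbbdb0f6cd8b86c09fd9d492a9efe2a493d5d89ea5e3eea8afe9e4a299dfd294a3e5e8ae95d3de98)) (TN.leaf (nat_lit 0xe1a7aaecd7919cdaedaba6e0db9d90d6d1979adce7a1aceadd9b96d0ebada0e6b9fff2b48fc9c482b5f3feb883c5c88e89cfc284bff9f4b285c3ce88b3f5f8be))))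
noncomputable def cI (i : ℕ) : ℕ := get2 cI_t (nat_lit 8) (nat_lit 0xff) i
def cCV0_t : TN := (TN.node (TN.node (TN.leaf (nat_lit 0x655ec00005d76a00006d1ec00006c82e00c2b940000c28980000d23900000e17180000838034a00e3802ca00838038800008038200000000000000000000000000000000000000)) (TN.leaf (nat_lit 0x3180001675080001670061a0a000059b480000002ef7100002af34bb34c0000bb0d400000054800730055000928b8032c00db802ac00b161d0726a251d05c6000000000000000000))) (TN.node (TN.leaf (nat_lit 0x628000147006960c008100000c700691cc00000026f16cab54000000001aed6ca3d00000004d800b58b8036a00002d801117b80368009349d4bc50000000006339e41c2000000000)) (TN.leaf (nat_lit 0x55b24002900001775a00001570065a2a00b31100000000030f83000028f25c33080000d38028c000058c00610051400a4938034c00000000000b9e5ce1369acdd29b6000000000))))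
noncomputable def cCV0 (i : ℕ) : ℕ := get2 cCV0_t (nat_lit 9) (nat_lit 0x1ff) i
def cCV1_t : TN := (TN.node (TN.node (TN.leaf (nat_lit 0x1aa00000002c0000001a800000036c00003980000006940000003980000000040000000000000000000000000000000000000000000000000000000000000000000000000000)) (TN.leaf (nat_lit 0xb08000000920000000000018600000004a00000000053000000091003d40000006500000001cc0152001c80134000000000000000000318028400410028800000000000000000000))) (TN.node (TN.leaf (nat_lit 0x830000000000018a0063000000000001c8000000000b5003d800000000000f20035800000025401160000000000044000b6000000000528024c00000000000808014c00000000000)) (TN.leaf (nat_lit 0x6800b980000008a80000000000164000060800000000000420000000a400414000000000000000180016300210012500000000000000000028802a6004a0026a00000000000))))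
noncomputable def cCV1 (i : ℕ) : ℕ := get2 cCV1_t (nat_lit 9) (nat_lit 0x1ff) i
def cCV2_t : TN := (TN.node (TN.node (TN.leaf (nat_lit 0xc50000000010000000c4000000000)) (TN.leaf (nat_lit 0x14c0000001c800000000000000000000003180000003100000000000000000000000000000086000000102000000000000000000000000000000000000000000000b3000000015))) (TN.node (TN.leaf (nat_lit 0x2540000000000000003c40000000000000428000000000000000800000000000000000000014a0000000000000001c4000000000000000000000000000b50000000000000000d4)) (TN.leaf (nat_lit 0x10400000021000000000000000000000002800000003a00000000000000000000000000000064000000128000000000000000000240000000000000000000000000a2))))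
noncomputable def cCV2 (i : ℕ) : ℕ := get2 cCV2_t (nat_lit 9) (nat_lit 0x1ff) i
def cCV3_t : TN := (TN.node (TN.node (TN.leaf (nat_lit 0x0)) (TN.leaf (nat_lit 0x330000007100000000a300000001000000000000000000000000000000000000000000430000006200000000000000000000530000005200))) (TN.node (TN.leaf (nat_lit 0x0)) (TN.leaf (nat_lit 0x84000000000000000000000022000000000000000092000000140000000000000000007400000000000000000000003100006400000000000000000000004000))))
noncomputable def cCV3 (i : ℕ) : ℕ := get2 cCV3_t (nat_lit 8) (nat_lit 0xff) i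
def cCV4_t : TN := (TN.node (TN.node (TN.leaf (nat_lit 0x0)) (TN.leaf (nat_lit 0x400000000000000000000000000000000000000000000000000000000000000000000000000000000))) (TN.node (TN.leaf (nat_lit 0x0)) (TN.leaf (nat_lit 0x44000000000000000000000000000000000004c0000000000000000000000310000000000000000000000002000000000000000000000000))))
noncomputable def cCV4 (i : ℕ) : ℕ := get2 cCV4_t (nat_lit 7) (nat_lit 0x7f) i
def cCV5_t : TN := (TN.node (TN.node (TN.leaf (nat_lit 0x0)) (TN.leaf (nat_lit 0x0))) (TN.node (TN.leaf (nat_lit 0x21000000000000000000000c00000000000000000000000000480000000000000000001000000)) (TN.leaf (nat_lit 0x0))))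
noncomputable def cCV5 (i : ℕ) : ℕ := get2 cCV5_t (nat_lit 6) (nat_lit 0x3f) i
def cCV6_t : TN := (TN.node (TN.node (TN.leaf (nat_lit 0x11000000000000000000000800000000000000000000000000040000000000000000000000000)) (TN.leaf (nat_lit 0x0))) (TN.node (TN.leaf (nat_lit 0x0)) (TN.leaf (nat_lit 0x0))))
noncomputable def cCV6 (i : ℕ) : ℕ := get2 cCV6_t (nat_lit 6) (nat_lit 0x3f) i
def cCV7_t : TN := (TN.node (TN.node (TN.leaf (nat_lit 0x0)) (TN.leaf (nat_lit 0x0))) (TN.node (TN.leaf (nat_lit 0x400000000000000000008000000000000000000000000000000000000000000000000)) (TN.leaf (nat_lit 0x0))))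
noncomputable def cCV7 (i : ℕ) : ℕ := get2 cCV7_t (nat_lit 5) (nat_lit 0x1f) i
noncomputable def ctt : List Lev := [⟨nat_lit 19, nat_lit 120, nat_lit 7, cCV0⟩, ⟨nat_lit 34, nat_lit 56, nat_lit 6, cCV1⟩, ⟨nat_lit 8, nat_lit 27, nat_lit 5, cCV2⟩, ⟨nat_lit 170, nat_lit 16, nat_lit 4, cCV3⟩, ⟨nat_lit 174, nat_lit 5, nat_lit 3, cCV4⟩, ⟨nat_lit 68, nat_lit 4, nat_lit 2, cCV5⟩, ⟨nat_lit 17, nat_lit 3, nat_lit 1, cCV6⟩, ⟨nat_lit 103, nat_lit 2, nat_lit 0, cCV7⟩]
def cK (j : ℕ) : List ℕ := [[], [1, 0], [1, 0, 2, 1], [1, 0, 2, 1, 3, 2], [1, 0, 2, 1, 4, 2], [1, 0, 2, 1, 4, 2, 5, 4], [1, 0, 2, 1, 4, 2, 5, 4, 6, 5], [1, 0, 2, 1, 4, 2, 5, 4, 6, 5, 7, 6]].getD j []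
def cR (j : ℕ) : List (List ℕ × ℕ) := [([] : List (List ℕ × ℕ)), [([1], 3), ([0, 0, 1], 6)], [([2], 2), ([1, 2], 3), ([0, 2], 7)], [([3], 2), ([2, 3], 3), ([0, 3], 7)], [([4], 2), ([2, 4], 3), ([0, 1, 4], 6)], [([5], 2), ([4, 5], 3), ([1, 5, 0, 2], 4)], [([6], 2), ([5, 6], 3), ([0, 1, 6], 6)], [([7], 2), ([6, 7], 3), ([0, 1, 7], 6)]].getD j []

open Cfsg.Agent.Classical

def ixM (m : ℕ) : (Fin m ⊕ Fin m) ⊕ Fin 2 → ℕ := Sum.elim (Sum.elim Fin.val (m + ·.val)) (2 * m + ·.val)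
theorem cardM (m : ℕ) : (Nat.card (isometryGroup (ZMod 2) (quadFormMinus m (ZMod 2) 1 1)) : ℤ) =
    2 * 2 ^ ((m + 1) * m) * (2 ^ (m + 1) + 1) * ∏ i ∈ Finset.range m, (2 ^ (2 * (i + 1)) - 1) := by
  have hab : ∀ z₁ z₂ : ZMod 2, z₁ ^ 2 + 1 * z₁ * z₂ + 1 * z₂ ^ 2 = 0 → z₁ = 0 ∧ z₂ = 0 := by decide
  have := (congrArg Nat.cast (Nat.card_congr (orthEquiv (minusForm m (ZMod 2) 1 1)).toEquiv)).trans
    (card_orth_even (Or.inr rfl) m _ (minusForm_nondeg m hab) (minusForm_isType m hab))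
  rwa [Nat.card_zmod, sub_neg_eq_add] at this

theorem resA (f : Omega (ZMod 2) (quadFormMinus 1 (ZMod 2) 1 1) → _) (hf : ∀ g h, f (g * h) = f g + g.1.1.1 *ᵥ f h) :
    ∃ v, ∀ g, f g = g.1.1.1 *ᵥ v - v := by
  obtain ⟨a, ma, ta⟩ := model (ix := ixM 1) (d := 4) (Q := quadFormMinus 1 (ZMod 2) 1 1) (T := aT) (U := aU) (by decide +kernel)
    (by unfold quadFormMinus; decide +kernel) (t := att) (by decide +kernel) (Int.natCast_inj.1 ((cardM 1).trans (by decide +kernel)))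
    (B := [11, 4, 3, 1]) rfl (K := aK) (θ := [1, 2, 3]) (by decide +kernel) (by decide +kernel) (upTo_beq (by decide +kernel))
  exact coc (by decide +kernel) ma ta (by decide) (I := aI) (by decide +kernel) (R := aR) (by decide +kernel) (by decide +kernel) f hf

theorem resB (f : Omega (ZMod 2) (quadFormMinus 2 (ZMod 2) 1 1) → _) (hf : ∀ g h, f (g * h) = f g + g.1.1.1 *ᵥ f h) :
    ∃ v, ∀ g, f g = g.1.1.1 *ᵥ v - v := by
  obtain ⟨a, ma, ta⟩ := model (ix := ixM 2) (d := 6) (Q := quadFormMinus 2 (ZMod 2) 1 1) (T := bT) (U := bU) (by decide +kernel)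
    (by unfold quadFormMinus; decide +kernel) (t := btt) (by decide +kernel) (Int.natCast_inj.1 ((cardM 2).trans (by decide +kernel)))
    (B := [42, 16, 7, 10, 5, 1]) rfl (K := bK) (θ := [1, 2, 3, 4, 5]) (by decide +kernel) (by decide +kernel) (upTo_beq (by decide +kernel))
  exact coc (by decide +kernel) ma ta (by decide) (I := bI) (by decide +kernel) (R := bR) (by decide +kernel) (by decide +kernel) f hf

theorem resC (f : Omega (ZMod 2) (quadFormPlus 4 (ZMod 2)) → _) (hf : ∀ g h, f (g * h) = f g + g.1.1.1 *ᵥ f h) :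
    ∃ v, ∀ g, f g = g.1.1.1 *ᵥ v - v := by
  have cd := (congrArg Nat.cast (Nat.card_congr (orthEquiv (plusForm 4 (ZMod 2))).toEquiv)).trans
    (card_orth_even (Or.inl rfl) 3 _ (plusForm_nondeg 4) (plusForm_isType 4))
  rw [Nat.card_zmod] at cd
  obtain ⟨a, ma, ta⟩ := model (ix := Sum.elim Fin.val (4 + ·.val)) (d := 8) (Q := quadFormPlus 4 (ZMod 2)) (T := cT) (U := cU)
    (by decide +kernel) (by unfold quadFormPlus; decide +kernel) (t := ctt) (by decide +kernel)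
    (by exact_mod_cast cd.trans (by decide +kernel : _ = ((chainN ctt : ℕ) : ℤ)))
    (B := [19, 34, 8, 170, 174, 68, 17, 103]) rfl (K := cK) (θ := [1, 2, 3, 4, 5, 6, 7]) (by decide +kernel) (by decide +kernel) (upTo_beq (by decide +kernel))
  exact coc (by decide +kernel) ma ta (by decide) (I := cI) (by decide +kernel) (R := cR) (by decide +kernel) (by decide +kernel) f hf

end Cfsg.Agent.Ct.H1
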