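import Cfsg.Prelude.Def_Spor_J2
import Cfsg.Agent.Lib.PermCert.More

/-! Integer coordinates for the icosian ring. -/

set_option autoImplicit false

namespace Cfsg.Agent.J2

open Cfsg.Spor Quaternion

theorem tau_sq : tau * tau = tau + 1 := by
  have := Real.mul_self_sqrt (show (0 : ℝ) ≤ 5 by norm_num)
  unfold tau; linear_combination this / 4

theorem sig_eq : sig = 1 - tau := by unfold sig tau; ring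

theorem sqrt5_eq : Real.sqrt 5 = 2 * tau - 1 := by unfold tau; ring

theorem tau_indep {a b : ℤ} (h : (a : ℝ) + b * tau = 0) : a = 0 ∧ b = 0 := by
  have hb : b = 0 := by
    by_contra hb
    have hb' : (b : ℝ) ≠ 0 := by exact_mod_cast hb
    refine Nat.prime_five.irrational_sqrt ⟨(-2 * a - b) / b, ?_⟩
    push_cast
    rw [sqrt5_eq, div_eq_iff hb']
    linear_combination -2 * h
  subst hb
  exact ⟨by simpa using h, rfl⟩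

theorem tau_inj {a b a' b' : ℤ} (h : (a : ℝ) + b * tau = a' + b' * tau) : a = a' ∧ b = b' := by
  have := tau_indep (a := a - a') (b := b - b') (by push_cast; linear_combination h)
  omega

@[ext] structure Z8 where
  a0 : ℤ
  b0 : ℤ
  a1 : ℤ
  b1 : ℤ
  a2 : ℤ
  b2 : ℤ
  a3 : ℤ
  b3 : ℤ
  deriving DecidableEq

namespace Z8
def add (c d : Z8) : Z8 := ⟨c.a0 + d.a0, c.b0 + d.b0, c.a1 + d.a1, c.b1 + d.b1, c.a2 + d.a2, c.b2 + d.b2, c.a3 + d.a3, c.b3 + d.b3⟩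
def sub (c d : Z8) : Z8 := ⟨c.a0 - d.a0, c.b0 - d.b0, c.a1 - d.a1, c.b1 - d.b1, c.a2 - d.a2, c.b2 - d.b2, c.a3 - d.a3, c.b3 - d.b3⟩
def sm (k : ℤ) (c : Z8) : Z8 := ⟨k * c.a0, k * c.b0, k * c.a1, k * c.b1, k * c.a2, k * c.b2, k * c.a3, k * c.b3⟩
def dv (c : Z8) (k : ℤ) : Z8 := ⟨c.a0 / k, c.b0 / k, c.a1 / k, c.b1 / k, c.a2 / k, c.b2 / k, c.a3 / k, c.b3 / k⟩
def st (c : Z8) : Z8 := ⟨c.a0, c.b0, -c.a1, -c.b1, -c.a2, -c.b2, -c.a3, -c.b3⟩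
def mul (c d : Z8) : Z8 :=
  ⟨(c.a0*d.a0 + c.b0*d.b0) - (c.a1*d.a1 + c.b1*d.b1) - (c.a2*d.a2 + c.b2*d.b2) - (c.a3*d.a3 + c.b3*d.b3),
   (c.a0*d.b0 + c.b0*(d.a0 + d.b0)) - (c.a1*d.b1 + c.b1*(d.a1 + d.b1)) - (c.a2*d.b2 + c.b2*(d.a2 + d.b2)) - (c.a3*d.b3 + c.b3*(d.a3 + d.b3)),
   (c.a0*d.a1 + c.b0*d.b1) + (c.a1*d.a0 + c.b1*d.b0) + (c.a2*d.a3 + c.b2*d.b3) - (c.a3*d.a2 + c.b3*d.b2),
   (c.a0*d.b1 + c.b0*(d.a1 + d.b1)) + (c.a1*d.b0 + c.b1*(d.a0 + d.b0)) + (c.a2*d.b3 + c.b2*(d.a3 + d.b3)) - (c.a3*d.b2 + c.b3*(d.a2 + d.b2)),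
   (c.a0*d.a2 + c.b0*d.b2) - (c.a1*d.a3 + c.b1*d.b3) + (c.a2*d.a0 + c.b2*d.b0) + (c.a3*d.a1 + c.b3*d.b1),
   (c.a0*d.b2 + c.b0*(d.a2 + d.b2)) - (c.a1*d.b3 + c.b1*(d.a3 + d.b3)) + (c.a2*d.b0 + c.b2*(d.a0 + d.b0)) + (c.a3*d.b1 + c.b3*(d.a1 + d.b1)),
   (c.a0*d.a3 + c.b0*d.b3) + (c.a1*d.a2 + c.b1*d.b2) - (c.a2*d.a1 + c.b2*d.b1) + (c.a3*d.a0 + c.b3*d.b0),
   (c.a0*d.b3 + c.b0*(d.a3 + d.b3)) + (c.a1*d.b2 + c.b1*(d.a2 + d.b2)) - (c.a2*d.b1 + c.b2*(d.a1 + d.b1)) + (c.a3*d.b0 + c.b3*(d.a0 + d.b0))⟩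
def n0 (c : Z8) : ℤ := c.a0 * c.a0 + c.b0 * c.b0 + c.a1 * c.a1 + c.b1 * c.b1 + c.a2 * c.a2 + c.b2 * c.b2 + c.a3 * c.a3 + c.b3 * c.b3
def n1 (c : Z8) : ℤ := c.b0 * (2 * c.a0 + c.b0) + c.b1 * (2 * c.a1 + c.b1) + c.b2 * (2 * c.a2 + c.b2) + c.b3 * (2 * c.a3 + c.b3)
def emb (p : Z8) : Z8 := ⟨2 * p.a0 + p.a2 + p.a3, 2 * p.b0 + p.b2 + p.b3, 2 * p.a1 + p.a2 + p.a3 - p.b3, 2 * p.b1 + p.b2 - p.a3,
  p.a2, p.b2, p.a2 + p.b3, p.b2 + p.a3 + p.b3⟩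
def mulI (p q : Z8) : Z8 :=
  ⟨p.a0*q.a0 + p.b0*q.b0 - p.a1*q.a1 + p.a1*q.a2 - p.a1*q.b2 - p.a1*q.a3 + p.a1*q.b3 - p.b1*q.b1 - p.b1*q.a2 + p.b1*q.a3 - 2*p.a2*q.a1 + p.a2*q.b1 - p.a2*q.a2 - 2*p.a2*q.a3 + p.a2*q.b3 + p.b2*q.a1 - p.b2*q.b1 - p.b2*q.b2 + p.b2*q.a3 - p.b2*q.b3 + p.a3*q.a2 - p.a3*q.b2 - p.a3*q.a3 - p.b3*q.a2 - p.b3*q.b3,
   p.a0*q.b0 + p.b0*q.a0 + p.b0*q.b0 - p.a1*q.b1 - p.a1*q.a2 + p.a1*q.a3 - p.b1*q.a1 - p.b1*q.b1 - p.b1*q.b2 + p.b1*q.b3 + p.a2*q.a1 - p.a2*q.b1 - p.a2*q.b2 + p.a2*q.a3 - p.a2*q.b3 - p.b2*q.a1 - p.b2*q.a2 - p.b2*q.b2 - p.b2*q.a3 - p.a3*q.a2 - p.a3*q.b3 - p.b3*q.b2 - p.b3*q.a3 - p.b3*q.b3,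
   p.a0*q.a1 + p.b0*q.b1 + p.a1*q.a0 + 3*p.a1*q.a2 - p.a1*q.b2 + p.a1*q.b3 + p.b1*q.b0 - p.b1*q.a2 + 2*p.b1*q.b2 + p.b1*q.a3 + p.b1*q.b3 - 2*p.a2*q.a1 + p.a2*q.b1 - 2*p.a2*q.a3 + 2*p.a2*q.b3 + p.b2*q.a1 - p.b2*q.b1 + 2*p.b2*q.a3 + p.a3*q.a1 - p.a3*q.b1 + 2*p.a3*q.a2 - 2*p.a3*q.b2 - p.b3*q.a1 - 2*p.b3*q.a2,
   p.a0*q.b1 + p.b0*q.a1 + p.b0*q.b1 + p.a1*q.b0 - p.a1*q.a2 + 2*p.a1*q.b2 + p.a1*q.a3 + p.a1*q.b3 + p.b1*q.a0 + p.b1*q.b0 + 2*p.b1*q.a2 + p.b1*q.b2 + p.b1*q.a3 + 2*p.b1*q.b3 + p.a2*q.a1 - p.a2*q.b1 + 2*p.a2*q.a3 - p.b2*q.a1 + 2*p.b2*q.b3 - p.a3*q.a1 - 2*p.a3*q.a2 - p.b3*q.b1 - 2*p.b3*q.b2,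
   p.a0*q.a2 + p.b0*q.b2 - p.a1*q.a2 - p.a1*q.b3 - p.b1*q.b2 - p.b1*q.a3 - p.b1*q.b3 + p.a2*q.a0 + p.a2*q.a1 + p.a2*q.a2 + p.a2*q.a3 - p.a2*q.b3 + p.b2*q.b0 + p.b2*q.b1 + p.b2*q.b2 - p.b2*q.a3 + p.a3*q.b1 + p.a3*q.b2 + p.b3*q.a1 + p.b3*q.b1 + p.b3*q.a2 + p.b3*q.b2,
   p.a0*q.b2 + p.b0*q.a2 + p.b0*q.b2 - p.a1*q.b2 - p.a1*q.a3 - p.a1*q.b3 - p.b1*q.a2 - p.b1*q.b2 - p.b1*q.a3 - 2*p.b1*q.b3 + p.a2*q.b0 + p.a2*q.b1 + p.a2*q.b2 - p.a2*q.a3 + p.b2*q.a0 + p.b2*q.b0 + p.b2*q.a1 + p.b2*q.b1 + p.b2*q.a2 + p.b2*q.b2 - p.b2*q.b3 + p.a3*q.a1 + p.a3*q.b1 + p.a3*q.a2 + p.a3*q.b2 + p.b3*q.a1 + 2*p.b3*q.b1 + p.b3*q.a2 + 2*p.b3*q.b2,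
   p.a0*q.a3 + p.b0*q.b3 - 2*p.a1*q.a2 + 2*p.a1*q.b2 + p.a1*q.a3 + 2*p.b1*q.a2 + p.b1*q.b3 + 2*p.a2*q.a1 - 2*p.a2*q.b1 + 3*p.a2*q.a3 - p.a2*q.b3 - 2*p.b2*q.a1 - p.b2*q.a3 + 2*p.b2*q.b3 + p.a3*q.a0 - p.a3*q.a1 - 2*p.a3*q.a2 + p.a3*q.b2 + p.a3*q.a3 + p.b3*q.b0 - p.b3*q.b1 + p.b3*q.a2 - p.b3*q.b2 + p.b3*q.b3,
   p.a0*q.b3 + p.b0*q.a3 + p.b0*q.b3 + 2*p.a1*q.a2 + p.a1*q.b3 + 2*p.b1*q.b2 + p.b1*q.a3 + p.b1*q.b3 - 2*p.a2*q.a1 - p.a2*q.a3 + 2*p.a2*q.b3 - 2*p.b2*q.b1 + 2*p.b2*q.a3 + p.b2*q.b3 + p.a3*q.b0 - p.a3*q.b1 + p.a3*q.a2 - p.a3*q.b2 + p.a3*q.b3 + p.b3*q.a0 + p.b3*q.b0 - p.b3*q.a1 - p.b3*q.b1 - p.b3*q.a2 + p.b3*q.a3 + p.b3*q.b3⟩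
def InI (c : Z8) : Prop := (c.a0 + c.a3 + c.b3 + c.b2) % 2 = 0 ∧ (c.b0 + c.b2 + c.a3 + c.a2) % 2 = 0 ∧
  (c.a1 + c.a2 + c.b3 + c.b2) % 2 = 0 ∧ (c.b1 + c.b3 + c.a3 + c.a2) % 2 = 0
instance (c : Z8) : Decidable c.InI := by unfold InI; infer_instance
def zero : Z8 := ⟨0, 0, 0, 0, 0, 0, 0, 0⟩
def one : Z8 := ⟨2, 0, 0, 0, 0, 0, 0, 0⟩
def hh : Z8 := ⟨1, -2, 1, 0, 1, 0, 1, 0⟩

theorem inI_iff {c : Z8} : c.InI ↔ ∃ p : Z8, c = p.emb := by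
  constructor
  · rintro ⟨h1, h2, h3, h4⟩
    refine ⟨⟨(c.a0 - c.b3 + c.b2 + c.a3 - 2 * c.a2) / 2, (c.b0 - c.b2 - c.a3 + c.a2) / 2, (c.a1 - c.b3 + c.b2 + 2 * c.a3 - 3 * c.a2) / 2,
      (c.b1 + c.b3 - 2 * c.b2 - c.a3 + c.a2) / 2, c.a2, c.b2, c.b3 - c.b2 - c.a3 + c.a2, c.a3 - c.a2⟩, ?_⟩
    ext <;> simp only [emb] <;> omega
  · rintro ⟨p, rfl⟩
    simp only [InI, emb]
    omega

theorem mul_emb (p q : Z8) : p.emb.mul q.emb = sm 2 (p.mulI q).emb := by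
  ext <;> simp only [mul, emb, mulI, sm] <;> ring

theorem n0_emb (p : Z8) : p.emb.n0 = 4 * (1*p.a0*p.a0 + (1)*p.a0*p.a2 + (1)*p.a0*p.a3 + 1*p.b0*p.b0 + (1)*p.b0*p.b2 + (1)*p.b0*p.b3 + 1*p.a1*p.a1 + (1)*p.a1*p.a2 + (1)*p.a1*p.a3 + (-1)*p.a1*p.b3 + 1*p.b1*p.b1 + (1)*p.b1*p.b2 + (-1)*p.b1*p.a3 + 1*p.a2*p.a2 + (1)*p.a2*p.a3 + 1*p.b2*p.b2 + (1)*p.b2*p.b3 + 1*p.a3*p.a3 + 1*p.b3*p.b3) := by
  simp only [n0, emb]; ring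

theorem InI.n0 {c : Z8} (h : c.InI) : 4 ∣ c.n0 := by
  obtain ⟨p, rfl⟩ := inI_iff.1 h
  exact ⟨_, n0_emb p⟩

theorem n0_nonneg (c : Z8) : 0 ≤ c.n0 := by unfold n0; nlinarith [mul_self_nonneg c.a0, mul_self_nonneg c.b0, mul_self_nonneg c.a1, mul_self_nonneg c.b1, mul_self_nonneg c.a2, mul_self_nonneg c.b2, mul_self_nonneg c.a3, mul_self_nonneg c.b3]

theorem eq_zero {c : Z8} (h : c.n0 = 0) : c = zero := by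
  unfold n0 at h
  ext <;> simp only [zero] <;> nlinarith [mul_self_nonneg c.a0, mul_self_nonneg c.b0, mul_self_nonneg c.a1, mul_self_nonneg c.b1, mul_self_nonneg c.a2, mul_self_nonneg c.b2, mul_self_nonneg c.a3, mul_self_nonneg c.b3]

end Z8

open Z8

/-- the quaternion with doubled coordinates `c` -/
noncomputable def ph (c : Z8) : ℍ[ℝ] :=
  ⟨(c.a0 + c.b0 * tau) / 2, (c.a1 + c.b1 * tau) / 2, (c.a2 + c.b2 * tau) / 2, (c.a3 + c.b3 * tau) / 2⟩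

@[simp] theorem ph_re (c : Z8) : (ph c).re = (c.a0 + c.b0 * tau) / 2 := rfl
@[simp] theorem ph_imI (c : Z8) : (ph c).imI = (c.a1 + c.b1 * tau) / 2 := rfl
@[simp] theorem ph_imJ (c : Z8) : (ph c).imJ = (c.a2 + c.b2 * tau) / 2 := rfl
@[simp] theorem ph_imK (c : Z8) : (ph c).imK = (c.a3 + c.b3 * tau) / 2 := rfl

theorem ph_inj {c d : Z8} (h : ph c = ph d) : c = d := by
  simp only [Quaternion.ext_iff, ph_re, ph_imI, ph_imJ, ph_imK] at h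
  obtain ⟨h0, h1, h2, h3⟩ := h
  have e0 := tau_inj (a := c.a0) (b := c.b0) (a' := d.a0) (b' := d.b0) (by linarith)
  have e1 := tau_inj (a := c.a1) (b := c.b1) (a' := d.a1) (b' := d.b1) (by linarith)
  have e2 := tau_inj (a := c.a2) (b := c.b2) (a' := d.a2) (b' := d.b2) (by linarith)
  have e3 := tau_inj (a := c.a3) (b := c.b3) (a' := d.a3) (b' := d.b3) (by linarith)
  ext <;> simp [*]

theorem ph_add (c d : Z8) : ph (c.add d) = ph c + ph d := by ext <;> simp [add] <;> ring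
theorem ph_sub (c d : Z8) : ph (c.sub d) = ph c - ph d := by ext <;> simp [sub] <;> ring
theorem ph_sm (k : ℤ) (c : Z8) : ph (sm k c) = (k : ℝ) • ph c := by ext <;> simp [sm] <;> ring
theorem ph_st (c : Z8) : ph c.st = star (ph c) := by ext <;> simp [st] <;> ring
theorem ph_zero : ph zero = 0 := by ext <;> simp [zero]
theorem ph_one : ph one = 1 := by ext <;> simp [one]
theorem ph_hh : ph hh = icoH := by ext <;> simp [hh, icoH, sqrt5_eq] <;> ring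

theorem ph_mul (c d : Z8) : ph (c.mul d) = (2 : ℝ) • (ph c * ph d) := by
  ext <;> simp [mul]
  · linear_combination -((c.b0 : ℝ)*d.b0 - (c.b1 : ℝ)*d.b1 - (c.b2 : ℝ)*d.b2 - (c.b3 : ℝ)*d.b3) / 2 * tau_sq
  · linear_combination -((c.b0 : ℝ)*d.b1 + (c.b1 : ℝ)*d.b0 + (c.b2 : ℝ)*d.b3 - (c.b3 : ℝ)*d.b2) / 2 * tau_sq
  · linear_combination -((c.b0 : ℝ)*d.b2 - (c.b1 : ℝ)*d.b3 + (c.b2 : ℝ)*d.b0 + (c.b3 : ℝ)*d.b1) / 2 * tau_sq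
  · linear_combination -((c.b0 : ℝ)*d.b3 + (c.b1 : ℝ)*d.b2 - (c.b2 : ℝ)*d.b1 + (c.b3 : ℝ)*d.b0) / 2 * tau_sq

theorem ph_mul' {c d e : Z8} (h : c.mul d = sm 2 e) : ph c * ph d = ph e := by
  have := ph_mul c d
  rw [h, ph_sm] at this
  exact (smul_right_injective _ (two_ne_zero (α := ℝ)) (by simpa using this)).symm

theorem normSq_ph (c : Z8) : normSq (ph c) = (c.n0 + c.n1 * tau) / 4 := by
  simp [normSq_def', n0, n1]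
  linear_combination ((c.b0 : ℝ) * c.b0 + c.b1 * c.b1 + c.b2 * c.b2 + c.b3 * c.b3) / 4 * tau_sq

theorem In.mul {c d : Z8} (e : Z8) (hc : ph c ∈ icosians) (hd : ph d ∈ icosians) (h : c.mul d = sm 2 e := by decide) :
    ph e ∈ icosians := ph_mul' h ▸ mul_mem hc hd

theorem In.add {c d : Z8} (e : Z8) (hc : ph c ∈ icosians) (hd : ph d ∈ icosians) (h : c.add d = e := by decide) :
    ph e ∈ icosians := h ▸ ph_add c d ▸ add_mem hc hd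

theorem In.sub {c d : Z8} (e : Z8) (hc : ph c ∈ icosians) (hd : ph d ∈ icosians) (h : c.sub d = e := by decide) :
    ph e ∈ icosians := h ▸ ph_sub c d ▸ sub_mem hc hd

theorem ph_i : ph ⟨0, 0, 2, 0, 0, 0, 0, 0⟩ = qI := by ext <;> simp [qI]
theorem ph_w : ph ⟨1, 0, 1, -1, 0, 0, 0, 1⟩ = ⟨1 / 2, sig / 2, 0, tau / 2⟩ := by ext <;> simp [sig_eq]; ring

theorem ph_emb (p : Z8) : ph p.emb ∈ icosians := by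
  have h1 : ph one ∈ icosians := ph_one ▸ one_mem _
  have hi : ph ⟨0, 0, 2, 0, 0, 0, 0, 0⟩ ∈ icosians := ph_i ▸ Subring.subset_closure (by simp)
  have hw : ph ⟨1, 0, 1, -1, 0, 0, 0, 1⟩ ∈ icosians := ph_w ▸ Subring.subset_closure (Or.inr rfl)
  have hA := In.mul ⟨-1, 1, 1, 0, 0, -1, 0, 0⟩ hi hw
  have hB := In.mul ⟨-1, 1, 1, 0, 0, 1, 0, 0⟩ hw hi
  have hs := In.sub ⟨-2, 2, 0, 0, 0, 0, 0, 0⟩ (In.add ⟨-2, 2, 2, 0, 0, 0, 0, 0⟩ hA hB) hi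
  have ht := In.add ⟨0, 2, 0, 0, 0, 0, 0, 0⟩ hs h1
  have hti := In.mul ⟨0, 0, 0, 2, 0, 0, 0, 0⟩ ht hi
  have htw := In.mul ⟨0, 1, -1, 0, 0, 0, 1, 1⟩ ht hw
  have h3 := In.mul ⟨1, 0, -3, 2, 1, 0, 1, 0⟩ hs (In.add ⟨0, 1, 2, -1, 0, 1, 0, 1⟩ hB hw)
  have he := In.sub ⟨1, 0, 1, 0, 1, 0, 1, 0⟩ (In.add ⟨1, 0, 1, 2, 1, 0, 1, 0⟩ h3 (In.add ⟨0, 0, 4, 0, 0, 0, 0, 0⟩ hi hi)) hti
  have hte := In.mul ⟨0, 1, 0, 1, 0, 1, 0, 1⟩ ht he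
  have : ph p.emb = p.a0 • ph one + p.b0 • ph ⟨0, 2, 0, 0, 0, 0, 0, 0⟩ + p.a1 • ph ⟨0, 0, 2, 0, 0, 0, 0, 0⟩ +
      p.b1 • ph ⟨0, 0, 0, 2, 0, 0, 0, 0⟩ + p.a2 • ph ⟨1, 0, 1, 0, 1, 0, 1, 0⟩ + p.b2 • ph ⟨0, 1, 0, 1, 0, 1, 0, 1⟩ +
      p.a3 • ph ⟨1, 0, 1, -1, 0, 0, 0, 1⟩ + p.b3 • ph ⟨0, 1, -1, 0, 0, 0, 1, 1⟩ := by
    simp only [← Int.cast_smul_eq_zsmul ℝ]
    ext <;> simp [emb, one] <;> ring
  rw [this]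
  repeat' apply add_mem
  all_goals exact zsmul_mem ‹_› _

theorem mem_ico {x : ℍ[ℝ]} : x ∈ icosians ↔ ∃ c : Z8, c.InI ∧ ph c = x := by
  constructor
  · intro h
    induction h using Subring.closure_induction with
    | mem x hx =>
      rcases hx with rfl | rfl
      · exact ⟨_, by decide, ph_i⟩
      · exact ⟨_, by decide, ph_w⟩
    | zero => exact ⟨_, by decide, ph_zero⟩
    | one => exact ⟨_, by decide, ph_one⟩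
    | add x y _ _ hx hy =>
      obtain ⟨c, hc, rfl⟩ := hx
      obtain ⟨d, hd, rfl⟩ := hy
      exact ⟨c.add d, by simp only [InI, add] at *; omega, ph_add c d⟩
    | neg x _ hx =>
      obtain ⟨c, hc, rfl⟩ := hx
      exact ⟨zero.sub c, by simp only [InI, sub, zero] at *; omega, by rw [ph_sub, ph_zero, zero_sub]⟩
    | mul x y _ _ hx hy =>
      obtain ⟨c, hc, rfl⟩ := hx
      obtain ⟨d, hd, rfl⟩ := hy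
      obtain ⟨p, rfl⟩ := inI_iff.1 hc
      obtain ⟨q, rfl⟩ := inI_iff.1 hd
      exact ⟨_, inI_iff.2 ⟨_, rfl⟩, (ph_mul' (mul_emb p q)).symm⟩
  · rintro ⟨c, hc, rfl⟩
    obtain ⟨p, rfl⟩ := inI_iff.1 hc
    exact ph_emb p

theorem ph_mem {c : Z8} : ph c ∈ icosians ↔ c.InI :=
  ⟨fun h => by obtain ⟨d, hd, e⟩ := mem_ico.1 h; rwa [← ph_inj e], fun h => mem_ico.2 ⟨c, h, rfl⟩⟩

theorem star_mem_ico {x : ℍ[ℝ]} (h : x ∈ icosians) : star x ∈ icosians := by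
  obtain ⟨c, hc, rfl⟩ := mem_ico.1 h
  rw [← ph_st, ph_mem]
  simp only [InI, st] at *; omega

theorem hh_mem : icoH ∈ icosians := ph_hh ▸ ph_mem.2 (by decide)

theorem normSq_hh : normSq icoH = 2 := by rw [← ph_hh, normSq_ph]; simp [n0, n1, hh]; norm_num

theorem star_hh_mul : star icoH * icoH = 2 := by rw [Quaternion.star_mul_self, normSq_hh]; rfl
theorem hh_mul_star : icoH * star icoH = 2 := by rw [Quaternion.self_mul_star, normSq_hh]; rfl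

/-- membership of the left ideal generated by `q` (of norm two) -/
def InJ (q c : Z8) : Prop := c.mul q.st = sm 4 ((c.mul q.st).dv 4) ∧ ((c.mul q.st).dv 4).InI
instance (q c : Z8) : Decidable (InJ q c) := by unfold InJ; infer_instance

theorem mem_ideal {q x : ℍ[ℝ]} (hq : normSq q = 2) : x ∈ leftIdeal q ↔ ∃ a ∈ icosians, x * star q = (2 : ℝ) • a := by
  have h1 : q * star q = (2 : ℝ) • 1 := by rw [Quaternion.self_mul_star, hq]; ext <;> simp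
  have h2 : star q * q = (2 : ℝ) • 1 := by rw [Quaternion.star_mul_self, hq]; ext <;> simp
  constructor
  · rintro ⟨a, ha, rfl⟩
    exact ⟨a, ha, by rw [mul_assoc, h1, mul_smul_comm, mul_one]⟩
  · rintro ⟨a, ha, e⟩
    refine ⟨a, ha, smul_right_injective _ (two_ne_zero (α := ℝ)) ?_⟩
    show (2 : ℝ) • x = (2 : ℝ) • (a * q)
    rw [← smul_mul_assoc, ← e, mul_assoc, h2, mul_smul_comm, mul_one]

theorem ph_ideal {q c : Z8} (hq : normSq (ph q) = 2) : ph c ∈ leftIdeal (ph q) ↔ InJ q c := by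
  rw [mem_ideal hq]
  have e : ph (c.mul q.st) = (2 : ℝ) • (ph c * star (ph q)) := by rw [ph_mul, ph_st]
  constructor
  · rintro ⟨a, ha, h⟩
    obtain ⟨d, hd, rfl⟩ := mem_ico.1 ha
    have : c.mul q.st = sm 4 d := ph_inj (by rw [e, h, ph_sm, smul_smul]; norm_num)
    have e2 : (sm 4 d).dv 4 = d := by ext <;> simp [sm, dv]
    rw [InJ, this, e2]
    exact ⟨rfl, hd⟩
  · rintro ⟨h1, h2⟩
    refine ⟨_, ph_mem.2 h2, smul_right_injective _ (two_ne_zero (α := ℝ)) ?_⟩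
    show (2 : ℝ) • _ = (2 : ℝ) • _
    rw [← e, h1, ph_sm, smul_smul, ← h1]; norm_num

end Cfsg.Agent.J2
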