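import Cfsg.Agent.Lib.J2.Enum

/-! Subgroups of small index contain the root elements of a Borel subgroup of order 1000. -/

set_option autoImplicit false

namespace Cfsg.Agent.J2

open Cfsg.Agent.PC Cfsg.Agent.Fi Subgroup

variable {G : Type*} [Group G] [Finite G]

theorem rel_le {P K : Subgroup G} (S : Finset G) (h : ∀ x ∈ K, ∃ s ∈ S, s⁻¹ * x ∈ P) : P.relIndex K ≤ S.card := by
  choose f hf hy using h
  rw [← Nat.card_eq_finsetCard]
  refine Nat.card_le_card_of_injective (fun q : K ⧸ P.subgroupOf K => (⟨f _ q.out.2, hf _ _⟩ : S)) fun q q' e => ?_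
  rw [← q.out_eq, ← q'.out_eq, QuotientGroup.eq, mem_subgroupOf]
  have := mul_mem (inv_mem (hy _ q.out.2)) (hy _ q'.out.2)
  rw [show f _ q.out.2 = f _ q'.out.2 from congrArg Subtype.val e] at this
  simpa [mul_assoc] using this

theorem idx_mem {P H : Subgroup G} {t z : G} (hz : orderOf z = 5) (hP : Nat.card P = 125) (zP : z ∈ P) (ht : t ∈ normalizer (P : Set G))
    (h8 : orderOf t = 8) (hd : ∀ u ∈ P, Commute z u) (hc : ∀ u ∈ P, ∀ o < 8, o % 2 = 1 →
      u * (t ^ (8 - o) * (u * t ^ o)) = t ^ (8 - o) * (u * (t ^ o * u)) → u ∈ zpowers z) (h : H.index < 50) : z ∈ H := by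
  classical
  by_contra hz'
  have := Fact.mk Nat.prime_five
  have ZP : zpowers z ≤ P := zpowers_le.2 zP
  have cZ : ∀ w ∈ zpowers z, ∀ u ∈ P, Commute w u := fun w ⟨i, hi⟩ u hu => hi ▸ (hd u hu).zpow_left i
  have hZ : ∀ w ∈ zpowers z, w ∈ H → w = 1 := fun w hw hH => by
    obtain ⟨i, hi, rfl⟩ := Finset.mem_image.1 (mem_zpowers_iff_mem_range_orderOf.1 hw)
    by_contra h1
    refine hz' (zpowers_le.2 hH (mem_zpowers_pow_iff.2 ?_))
    rw [hz, Finset.mem_range] at *
    interval_cases i <;> simp_all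
  have c5 : ∀ C : Subgroup G, zpowers z ≤ C → Nat.card ((zpowers z).subgroupOf C) = 5 := fun C hC => by
    rw [Nat.card_congr (subgroupOfEquivOfLe hC).toEquiv, Nat.card_zpowers, hz]
  have ha : ∀ u ∈ P, ∀ v ∈ P, u⁻¹ * v⁻¹ * u * v ∈ zpowers z := fun u hu v hv => by
    have : ((zpowers z).subgroupOf P).Normal := ⟨fun n hn g => by
      rwa [show g * n * g⁻¹ = n from mul_inv_eq_of_eq_mul (Subtype.ext (cZ _ hn _ g.2).symm.eq)]⟩
    have e := card_eq_card_quotient_mul_card_subgroup ((zpowers z).subgroupOf P)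
    rw [hP, c5 P ZP] at e
    have := IsPGroup.commutative_of_card_eq_prime_sq (p := 5) (G := P ⧸ (zpowers z).subgroupOf P) (by omega)
      (⟨v, hv⟩ : P) (⟨u, hu⟩ : P)
    rw [← QuotientGroup.mk_mul, ← QuotientGroup.mk_mul, QuotientGroup.eq, mem_subgroupOf] at this
    simpa [mul_assoc] using this
  have t8 : t ^ 8 = 1 := h8 ▸ pow_orderOf_eq_one t
  have ti : ∀ o < 8, t ^ (8 - o) = (t ^ o)⁻¹ := fun o ho => eq_inv_of_mul_eq_one_left (by rw [← pow_add, show 8 - o + o = 8 by omega, t8])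
  have cj : ∀ o, ∀ u ∈ P, (t ^ o)⁻¹ * u * t ^ o ∈ P := fun o u hu => by
    simpa using (mem_normalizer_iff.1 (inv_mem (pow_mem ht o)) u).1 hu
  set K := H ⊓ (P ⊔ zpowers t)
  have nf : ∀ x ∈ K, ∃ k < 8, ∃ y ∈ P, x = t ^ k * y := fun x hx => mem_sup_zpowers ht (t8 ▸ one_mem _) (by decide) hx.2
  have h20 : 20 < Nat.card K := by
    have e1 := (H.subgroupOf (P ⊔ zpowers t)).card_mul_index
    have e2 : H.relIndex (P ⊔ zpowers t) ≤ H.index := relIndex_top_right H ▸ relIndex_le_of_le_right le_top index_ne_zero_of_finite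
    have e3 : 125 * 8 ∣ Nat.card ↥(P ⊔ zpowers t) := Nat.Coprime.mul_dvd_of_dvd_of_dvd (by decide) (hP ▸ card_dvd_of_le le_sup_left)
      (h8 ▸ Nat.card_zpowers t ▸ card_dvd_of_le le_sup_right)
    rw [← inf_subgroupOf_right, Nat.card_congr (subgroupOfEquivOfLe inf_le_right).toEquiv, inf_subgroupOf_right] at e1
    have := Nat.le_of_dvd Nat.card_pos e3
    unfold relIndex at e2
    by_contra h'
    nlinarith [Nat.mul_le_mul (not_lt.1 h') (e2.trans (Nat.le_of_lt_succ h))]
  have e0 := (P.subgroupOf K).card_mul_index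
  by_cases h1 : ∀ u ∈ K, u ∈ P → u = 1
  · have e1 := rel_le (P := P) (K := K) ((Finset.range 8).image (t ^ ·)) fun x hx => by
      obtain ⟨k, hk, y, hy, rfl⟩ := nf x hx
      exact ⟨_, Finset.mem_image_of_mem _ (Finset.mem_range.2 hk), by simpa using hy⟩
    have := e1.trans Finset.card_image_le
    rw [(eq_bot_iff_forall (P.subgroupOf K)).2 fun x hx => Subtype.ext (h1 _ x.2 hx), card_bot] at e0
    rw [relIndex, (eq_bot_iff_forall (P.subgroupOf K)).2 fun x hx => Subtype.ext (h1 _ x.2 hx), Finset.card_range] at this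
    omega
  push Not at h1
  obtain ⟨u, hu, uP, u1⟩ := h1
  have uZ : u ∉ zpowers z := fun e => u1 (hZ u e hu.1)
  have ab : ∀ v ∈ K, v ∈ P → Commute u v := fun v hv vP => by
    have := hZ _ (ha u uP v vP) (mul_mem (mul_mem (mul_mem (inv_mem hu.1) (inv_mem hv.1)) hu.1) hv.1)
    rw [mul_assoc, ← mul_inv_rev, inv_mul_eq_one] at this
    exact this.symm
  have hc' : ∀ o < 8, o % 2 = 1 → ¬ Commute u ((t ^ o)⁻¹ * u * t ^ o) := fun o ho h2 e =>
    uZ (hc u uP o ho h2 (by simpa only [ti o ho, mul_assoc] using e.eq))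
  have e1 := rel_le (P := P) (K := K) (({0, 2, 4, 6} : Finset ℕ).image (t ^ ·)) fun x hx => by
    obtain ⟨k, hk, y, hy, rfl⟩ := nf x hx
    refine ⟨_, Finset.mem_image_of_mem _ (?_ : k ∈ _), by simpa using hy⟩
    by_contra h2
    refine hc' k hk (by simp at h2; omega) ?_
    have w := cj k u uP
    have e2 := ab _ (mul_mem (mul_mem (inv_mem hx) hu) hx) (by
      simpa [mul_assoc] using mul_mem (mul_mem (inv_mem hy) w) hy)
    have e3 := (e2.mul_right (cZ _ (ha y hy _ w) u uP).symm)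
    simpa [mul_assoc] using e3
  replace e1 : (P.subgroupOf K).index ≤ 4 := e1.trans Finset.card_image_le
  set C := P ⊓ centralizer {u}
  have ZC : zpowers z ≤ C := fun w hw => ⟨ZP hw, mem_centralizer_singleton_iff.2 (cZ w hw u uP).eq⟩
  have cC : Nat.card C ≤ 25 := by
    obtain ⟨i, hi, e⟩ := (Nat.dvd_prime_pow Nat.prime_five (m := 3) (i := Nat.card C)).1
      ((card_dvd_of_le (inf_le_left : C ≤ P)).trans (by rw [hP]; rfl))
    by_contra h2
    have : C = P := eq_of_le_of_card_ge inf_le_left (by rw [e] at h2 ⊢; interval_cases i <;> omega)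
    exact hc' 1 (by decide) rfl (Commute.symm (mem_centralizer_singleton_iff.1 (this.ge (cj 1 u uP)).2))
  have e2 := ((zpowers z).subgroupOf C).card_mul_index
  have e3 := ((zpowers z).subgroupOf (P ⊓ K)).card_mul_index
  have e4 : (zpowers z).relIndex (P ⊓ K) ≤ (zpowers z).relIndex C := relIndex_le_of_le_right
    (fun v hv => ⟨hv.1, mem_centralizer_singleton_iff.2 (ab v hv.2 hv.1).symm.eq⟩) index_ne_zero_of_finite
  rw [c5 C ZC] at e2
  rw [card_eq_one.2 ((eq_bot_iff_forall _).2 fun x hx => Subtype.ext (hZ _ hx x.2.2.1))] at e3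
  rw [← inf_subgroupOf_right, Nat.card_congr (subgroupOfEquivOfLe inf_le_right).toEquiv, inf_subgroupOf_right] at e0
  unfold relIndex at e4
  nlinarith [Nat.mul_le_mul (show Nat.card ↥(P ⊓ K) ≤ 5 by omega) e1]

theorem idx_key [IsSimpleGroup G] {P H : Subgroup G} {t z : G} (hz : orderOf z = 5) (hP : Nat.card P = 125) (zP : z ∈ P)
    (ht : t ∈ normalizer (P : Set G)) (h8 : orderOf t = 8) (hd : ∀ u ∈ P, Commute z u) (hc : ∀ u ∈ P, ∀ o < 8, o % 2 = 1 →
      u * (t ^ (8 - o) * (u * t ^ o)) = t ^ (8 - o) * (u * (t ^ o * u)) → u ∈ zpowers z) (h : H ≠ ⊤) : 50 ≤ H.index := by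
  by_contra h'
  have : z ∈ H.normalCore := fun g => idx_mem (H := H.comap (MulAut.conj g).toMonoidHom) hz hP zP ht h8 hd hc
    (by rw [index_comap_of_surjective _ (MulAut.conj g).surjective]; omega)
  rcases H.normalCore_normal.eq_bot_or_eq_top with e | e
  · rw [e, mem_bot] at this
    simp [this] at hz
  · exact h (top_unique (e ▸ H.normalCore_le))

end Cfsg.Agent.J2
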