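import Mathlib

/-! Dimensions of invariant subspaces of a map with irreducible blocks of one size. -/

set_option autoImplicit false
set_option linter.unusedSectionVars false
set_option linter.unusedVariables false

namespace Cfsg.Agent.InvDim

open Module Submodule

variable {F V : Type*} [Field F] [AddCommGroup V] [Module F V] [FiniteDimensional F V]

theorem step (f : V →ₗ[F] V) {a : ℕ} {U Y W : Submodule F V} (hU : U.map f ≤ U) (hd : finrank F U = a)
    (hi : ∀ X : Submodule F V, X ≤ U → X.map f ≤ X → X = ⊥ ∨ X = U) (hY : Y.map f ≤ Y) (hW : W.map f ≤ W) :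
    finrank F ↥(W ⊓ (U ⊔ Y)) = finrank F ↥(W ⊓ Y) ∨ finrank F ↥(W ⊓ (U ⊔ Y)) = finrank F ↥(W ⊓ Y) + a := by
  have inf : ∀ A B : Submodule F V, A.map f ≤ A → B.map f ≤ B → (A ⊓ B).map f ≤ A ⊓ B := fun A B hA hB =>
    le_inf ((map_mono inf_le_left).trans hA) ((map_mono inf_le_right).trans hB)
  have sup : ∀ A B : Submodule F V, A.map f ≤ A → B.map f ≤ B → (A ⊔ B).map f ≤ A ⊔ B := fun A B hA hB => by
    rw [Submodule.map_sup]
    exact sup_le_sup hA hB
  set Z := W ⊓ (U ⊔ Y) with hZ
  have hZi : Z.map f ≤ Z := inf _ _ hW (sup _ _ hU hY)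
  have e1 : Z ⊓ Y = W ⊓ Y := by rw [hZ, inf_assoc, inf_eq_right.2 (le_sup_right : Y ≤ U ⊔ Y)]
  have d1 := finrank_sup_add_finrank_inf_eq Z Y
  have e2 : Z ⊔ Y = Y ⊔ (U ⊓ (Z ⊔ Y)) := by
    rw [← sup_inf_assoc_of_le U (le_sup_right : Y ≤ Z ⊔ Y), eq_comm, inf_eq_right]
    exact sup_le (inf_le_right.trans (sup_comm U Y).le) le_sup_left
  have d2 := finrank_sup_add_finrank_inf_eq U Y
  rw [e1] at d1
  rcases hi _ inf_le_left (inf _ _ hU (sup _ _ hZi hY)) with h | h
  · rw [h, sup_bot_eq] at e2
    rw [e2] at d1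
    omega
  · rw [h, sup_comm Y U] at e2
    rw [e2] at d1
    rcases hi _ inf_le_left (inf _ _ hU hY) with h' | h'
    · rw [h', finrank_bot] at d2
      omega
    · rw [h'] at d2
      omega

theorem main (f : V →ₗ[F] V) {s a : ℕ} (ha : 1 ≤ a) (U : Fin s → Submodule F V)
    (hUinv : ∀ j, (U j).map f ≤ U j) (hUdim : ∀ j, Module.finrank F ↥(U j) = a)
    (hUirr : ∀ j, ∀ W : Submodule F V, W ≤ U j → W.map f ≤ W → W = ⊥ ∨ W = U j)
    (hdec : DirectSum.IsInternal (fun o : Option (Fin s) => o.elim (Module.End.eigenspace f 1) U))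
    (m : ℕ) (hm : 0 < m) (hmV : m < Module.finrank F V) :
    (∃ W : Submodule F V, Module.finrank F ↥W = m ∧ W.map f ≤ W) ↔
    (m ≤ Module.finrank F ↥(Module.End.eigenspace f 1) ∨
      (a ≤ m ∧ m % a ≤ Module.finrank F ↥(Module.End.eigenspace f 1))) := by
  classical
  set C := Module.End.eigenspace f 1 with hC
  have sub : ∀ B ≤ C, B.map f ≤ B := fun B hB => by
    rintro _ ⟨x, hx, rfl⟩
    have : f x = x := by simpa using Module.End.mem_eigenspace_iff.1 (hB hx)
    rwa [this]
  have inv : ∀ B ≤ C, ∀ T : Finset (Fin s), (T.sup U ⊔ B).map f ≤ T.sup U ⊔ B := fun B hB T => by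
    induction T using Finset.induction_on with
    | empty => simpa using sub B hB
    | insert j T hj ih =>
      rw [Finset.sup_insert, sup_assoc, Submodule.map_sup]
      exact sup_le_sup (hUinv j) ih
  have top : Finset.univ.sup U ⊔ C = ⊤ := by
    rw [eq_top_iff, ← hdec.submodule_iSup_eq_top, iSup_le_iff]
    rintro (_ | j)
    · exact le_sup_right
    · exact (Finset.le_sup (f := U) (Finset.mem_univ j)).trans le_sup_left
  have dim : ∀ B ≤ C, ∀ T : Finset (Fin s), finrank F ↥(T.sup U ⊔ B) = T.card * a + finrank F B := fun B hB T => by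
    induction T using Finset.induction_on with
    | empty => rw [Finset.sup_empty, bot_sup_eq, Finset.card_empty, zero_mul, zero_add]
    | insert j T hj ih =>
      have dj : Disjoint (U j) (T.sup U ⊔ B) := (hdec.submodule_iSupIndep (some j)).mono_right (sup_le
        (Finset.sup_le fun i hi => le_iSup₂_of_le (some i) (fun e : some i = some j => hj (Option.some.inj e ▸ hi)) le_rfl)
        (le_iSup₂_of_le none (by simp) hB))
      have := finrank_sup_add_finrank_inf_eq (U j) (T.sup U ⊔ B)
      rw [dj.eq_bot, finrank_bot, ih, hUdim] at this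
      rw [Finset.sup_insert, sup_assoc, Finset.card_insert_of_notMem hj, add_mul]
      omega
  have mk : ∀ i ≤ s, ∀ b ≤ finrank F C, i * a + b = m → ∃ W : Submodule F V, finrank F W = m ∧ W.map f ≤ W :=
    fun i hi b hb e => by
      obtain ⟨T, -, hT⟩ := Finset.exists_subset_card_eq (s := (Finset.univ : Finset (Fin s))) (n := i) (by simpa using hi)
      obtain ⟨B, hB, hB'⟩ : ∃ B ≤ C, finrank F B = b := by
        obtain ⟨v, hv⟩ := exists_linearIndependent_of_le_finrank hb
        exact ⟨(span F (Set.range v)).map C.subtype, map_subtype_le _ _, by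
          rw [finrank_map_subtype_eq, finrank_span_eq_card hv, Fintype.card_fin]⟩
      exact ⟨_, by rw [dim B hB T, hT, hB', e], inv B hB T⟩
  constructor
  · rintro ⟨W, rfl, hW⟩
    have key : ∀ T : Finset (Fin s), ∃ i, finrank F ↥(W ⊓ (T.sup U ⊔ C)) = finrank F ↥(W ⊓ C) + a * i := fun T => by
      induction T using Finset.induction_on with
      | empty => exact ⟨0, by rw [Finset.sup_empty, bot_sup_eq, mul_zero, add_zero]⟩
      | insert j T hj ih =>
        obtain ⟨i, hi⟩ := ih
        rw [Finset.sup_insert, sup_assoc]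
        rcases step f (hUinv j) (hUdim j) (hUirr j) (inv C le_rfl T) hW with h | h
        · exact ⟨i, h.trans hi⟩
        · exact ⟨i + 1, by rw [h, hi]; ring⟩
    obtain ⟨i, hi⟩ := key Finset.univ
    rw [top, inf_top_eq] at hi
    have le : finrank F ↥(W ⊓ C) ≤ finrank F C := finrank_mono inf_le_right
    rcases i with _ | i
    · left
      omega
    · right
      refine ⟨by rw [hi]; nlinarith, ?_⟩
      rw [hi, Nat.add_mul_mod_self_left]
      exact (Nat.mod_le _ _).trans le
  · rintro (h | ⟨-, h⟩)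
    · exact mk 0 (Nat.zero_le _) m h (by simp)
    · by_cases hs : m / a ≤ s
      · exact mk _ hs _ h (by rw [mul_comm]; exact Nat.div_add_mod m a)
      · have h1 : s * a ≤ m := (Nat.mul_le_mul_right a (not_le.1 hs).le).trans (Nat.div_mul_le_self m a)
        have h2 := dim C le_rfl Finset.univ
        rw [top, finrank_top, Finset.card_univ, Fintype.card_fin] at h2
        exact mk s le_rfl (m - s * a) (by omega) (by omega)

end Cfsg.Agent.InvDim
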