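import Mathlib

/-! Permutations of prime order and their invariant subsets. -/

set_option autoImplicit false
set_option linter.unusedSectionVars false
set_option linter.unusedVariables false

namespace Cfsg.Agent.KSub

open Equiv Equiv.Perm Finset

variable {α : Type*} [Fintype α] [DecidableEq α]

theorem inv_card {r : ℕ} (hr : r.Prime) {σ : Perm α} (h : σ ^ r = 1) {s : Finset α} (hs : s.image σ = s) :
    ∃ b ≤ #σ.supportᶜ, b ≡ #s [MOD r] := by
  haveI := Fact.mk hr
  have hi : ∀ x, σ x ∈ s ↔ x ∈ s := fun x => by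
    constructor
    · intro hx
      rw [← hs, mem_image] at hx
      obtain ⟨y, hy, e⟩ := hx
      rwa [← σ.injective e]
    · intro hx
      rw [← hs]
      exact mem_image_of_mem _ hx
  let τ : Perm {x // x ∈ s} := σ.subtypePerm hi
  have ht : τ ^ r ^ 1 = 1 := by
    rw [pow_one, subtypePerm_pow]
    ext x
    simp [h]
  refine ⟨#τ.supportᶜ, ?_, by simpa using card_compl_support_modEq ht⟩
  refine card_le_card_of_injOn Subtype.val (fun x hx => ?_) Subtype.val_injective.injOn
  simp only [coe_compl, Set.mem_compl_iff, mem_coe, mem_support, not_not] at hx ⊢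
  exact congrArg Subtype.val hx

theorem card_supp {r : ℕ} (hr : r.Prime) {σ : Perm α} (h : σ ^ r = 1) : #σ.support = #σ.cycleFactorsFinset * r := by
  haveI := Fact.mk hr
  rw [← sum_cycleType, cycleType_of_pow_prime_eq_one h, Multiset.sum_replicate, smul_eq_mul, cycleType_def,
    Multiset.card_map]
  rfl

theorem exists_inv {r : ℕ} (hr : r.Prime) {σ : Perm α} (h : σ ^ r = 1) {a b : ℕ} (ha : a ≤ #σ.cycleFactorsFinset)
    (hb : b ≤ #σ.supportᶜ) : ∃ s : Finset α, #s = a * r + b ∧ s.image σ = s := by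
  haveI := Fact.mk hr
  obtain ⟨T, hT, rfl⟩ := exists_subset_card_eq ha
  obtain ⟨u, hu, rfl⟩ := exists_subset_card_eq hb
  have hc : ∀ c ∈ T, #c.support = r := fun c hc => pow_prime_eq_one_iff.1 h _ (by
    rw [cycleType_def]
    exact Multiset.mem_map.2 ⟨c, hT hc, rfl⟩)
  refine ⟨T.biUnion support ∪ u, ?_, eq_of_subset_of_card_le (fun y hy => ?_) (card_image_of_injective _ σ.injective).ge⟩
  · rw [card_union_of_disjoint, card_biUnion, sum_congr rfl hc, sum_const, smul_eq_mul]
    · intro c hc d hd hcd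
      exact (cycleFactorsFinset_pairwise_disjoint σ (hT hc) (hT hd) hcd).disjoint_support
    · refine disjoint_left.2 fun x hx hx' => ?_
      obtain ⟨c, hc, hx⟩ := mem_biUnion.1 hx
      exact mem_compl.1 (hu hx') (mem_cycleFactorsFinset_support_le (hT hc) hx)
  · obtain ⟨x, hx, rfl⟩ := mem_image.1 hy
    rcases mem_union.1 hx with hx | hx
    · obtain ⟨c, hc, hx⟩ := mem_biUnion.1 hx
      refine mem_union_left _ (mem_biUnion.2 ⟨c, hc, ?_⟩)
      rw [← (mem_cycleFactorsFinset_iff.1 (hT hc)).2 x hx]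
      exact apply_mem_support.2 hx
    · have : σ x = x := by simpa using hu hx
      rw [this]
      exact mem_union_right _ hx

theorem iff_mod (n k : ℕ) (hkn : k ≤ n) (r : ℕ) (hr : r.Prime) (hrn : r ≤ n) :
    (∀ σ : Perm (Fin n), orderOf σ = r → ∃ s : Finset (Fin n), s.card = k ∧ s.image σ = s) ↔ k % r ≤ n % r := by
  haveI := Fact.mk hr
  have hdm := Nat.div_add_mod n r
  constructor
  · intro H
    obtain ⟨σ, hσ⟩ := (exists_with_cycleType_iff (Fin n) (m := Multiset.replicate (n / r) r)).2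
      ⟨by simpa using Nat.div_mul_le_self n r, fun a ha => by rw [Multiset.eq_of_mem_replicate ha]; exact hr.two_le⟩
    have h1 : σ ^ r = 1 := pow_prime_eq_one_iff.2 fun c hc => Multiset.eq_of_mem_replicate (hσ ▸ hc)
    have h2 : σ ≠ 1 := fun e => by
      have := congrArg Multiset.card hσ
      rw [e, cycleType_one, Multiset.card_replicate, Multiset.card_zero] at this
      exact (Nat.div_pos hrn hr.pos).ne this
    obtain ⟨s, rfl, hs⟩ := H σ (orderOf_eq_prime h1 h2)
    obtain ⟨b, hb, e⟩ := inv_card hr h1 hs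
    rw [card_compl, ← sum_cycleType, hσ, Multiset.sum_replicate, smul_eq_mul, Fintype.card_fin, mul_comm] at hb
    have := Nat.mod_le b r
    unfold Nat.ModEq at e
    omega
  · intro H σ hσ
    have h1 : σ ^ r = 1 := hσ ▸ pow_orderOf_eq_one σ
    have h2 := card_supp hr h1
    have h3 : #σ.supportᶜ + #σ.cycleFactorsFinset * r = n := by
      rw [← h2, card_compl_add_card, Fintype.card_fin]
    have hk := Nat.div_add_mod k r
    by_cases hc : k / r ≤ #σ.cycleFactorsFinset
    · have h4 : n % r ≤ #σ.supportᶜ := by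
        have := congrArg (· % r) h3
        simp only [Nat.add_mul_mod_self_right] at this
        exact this ▸ Nat.mod_le _ _
      obtain ⟨s, e, hs⟩ := exists_inv hr h1 hc (H.trans h4)
      exact ⟨s, by rw [e, mul_comm, hk], hs⟩
    · have h5 : #σ.cycleFactorsFinset * r ≤ k :=
        (Nat.mul_le_mul_right r (not_le.1 hc).le).trans (Nat.div_mul_le_self k r)
      obtain ⟨s, e, hs⟩ := exists_inv hr h1 le_rfl (show k - #σ.cycleFactorsFinset * r ≤ #σ.supportᶜ by omega)
      exact ⟨s, by omega, hs⟩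

theorem main (n k : ℕ) (hk : 1 ≤ k) (hkn : 2 * k < n) (r : ℕ) (hr : r.Prime) (hrd : r ∣ Nat.choose n k) :
    (r ≠ 2 → ((∀ σ : Equiv.Perm (Fin n), orderOf σ = r → ∃ s : Finset (Fin n), s.card = k ∧ s.image σ = s) ↔
      (r ≤ k ∧ k % r ≤ n % r))) ∧
    (r = 2 → ((∀ σ : Equiv.Perm (Fin n), orderOf σ = 2 → ∃ s : Finset (Fin n), s.card = k ∧ s.image σ = s) ↔
      (Even k ∨ Odd n))) := by
  haveI := Fact.mk hr
  have hkn' : k ≤ n := by omega
  have hrn : r ≤ n := by
    by_contra hlt
    exact hr.one_lt.ne' (Nat.Coprime.eq_one_of_dvd (hr.coprime_choose_of_lt (not_le.1 hlt) hkn') hrd)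
  refine ⟨fun _ => ?_, fun e => ?_⟩
  · rw [iff_mod n k hkn' r hr hrn]
    refine ⟨fun h => ⟨?_, h⟩, fun h => h.2⟩
    by_contra hlt
    have hlt := not_le.1 hlt
    have := (Choose.choose_modEq_choose_mod_mul_choose_div_nat (n := n) (k := k) (p := r))
    rw [Nat.div_eq_of_lt hlt, Nat.choose_zero_right, mul_one] at this
    have d : r ∣ (n % r).choose (k % r) := (this.dvd_iff dvd_rfl).1 hrd
    exact hr.one_lt.ne' (Nat.Coprime.eq_one_of_dvd (hr.coprime_choose_of_lt (Nat.mod_lt _ hr.pos) h) d)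
  · subst e
    rw [iff_mod n k hkn' 2 hr hrn, Nat.even_iff, Nat.odd_iff]
    omega

end Cfsg.Agent.KSub
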