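import Cfsg.Agent.Lib.J2.Ico

/-! The icosian lattice: reflections and isometries. -/

set_option autoImplicit false

namespace Cfsg.Agent.J2

open Cfsg.Spor Quaternion

abbrev V := Fin 3 → ℍ[ℝ]

theorem ideal_add {q x y : ℍ[ℝ]} (hx : x ∈ leftIdeal q) (hy : y ∈ leftIdeal q) : x + y ∈ leftIdeal q := by
  obtain ⟨a, ha, rfl⟩ := hx
  obtain ⟨b, hb, rfl⟩ := hy
  exact ⟨a + b, add_mem ha hb, (add_mul _ _ _).symm⟩

theorem ideal_mul {q x c : ℍ[ℝ]} (hc : c ∈ icosians) (hx : x ∈ leftIdeal q) : c * x ∈ leftIdeal q := by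
  obtain ⟨a, ha, rfl⟩ := hx
  exact ⟨c * a, mul_mem hc ha, (mul_assoc _ _ _).symm⟩

theorem L_smul {c : ℍ[ℝ]} {x : V} (hc : c ∈ icosians) (hx : x ∈ icoLeech) : c • x ∈ icoLeech := by
  obtain ⟨h0, h1, h2, h3⟩ := hx
  refine ⟨fun t => mul_mem hc (h0 t), ?_, ?_, ?_⟩ <;> simp only [Pi.smul_apply, smul_eq_mul, ← mul_sub, ← mul_add] <;>
    exact ideal_mul hc ‹_›

theorem L_add {x y : V} (hx : x ∈ icoLeech) (hy : y ∈ icoLeech) : x + y ∈ icoLeech := by
  obtain ⟨h0, h1, h2, h3⟩ := hx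
  obtain ⟨k0, k1, k2, k3⟩ := hy
  refine ⟨fun t => add_mem (h0 t) (k0 t), ?_, ?_, ?_⟩ <;> simp only [Pi.add_apply]
  · convert ideal_add h1 k1 using 1; abel
  · convert ideal_add h2 k2 using 1; abel
  · convert ideal_add h3 k3 using 1; abel

theorem L_neg {x : V} (hx : x ∈ icoLeech) : -x ∈ icoLeech := by
  simpa using L_smul (neg_mem (one_mem icosians)) hx

theorem L_sub {x y : V} (hx : x ∈ icoLeech) (hy : y ∈ icoLeech) : x - y ∈ icoLeech :=
  sub_eq_add_neg x y ▸ L_add hx (L_neg hy)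

theorem L_param {x : V} (hx : x ∈ icoLeech) : ∃ a ∈ icosians, ∃ b ∈ icosians, ∃ c ∈ icosians,
    x 0 = c * star icoH + b * icoH ∧ x 1 = c * star icoH + (b - a) * icoH ∧ x 2 = c * star icoH - a * icoH := by
  obtain ⟨h0, ⟨a, ha, h1⟩, ⟨b, hb, h2⟩, ⟨d, hd, h3⟩⟩ := hx
  have e1 : x 1 = x 2 + b * icoH := by rw [← h2]; abel
  have e0 : x 0 = x 2 + b * icoH + a * icoH := by rw [← e1, ← h1]; abel
  have e2 : x 2 = (d - (x 2 + b * icoH) * icoH) * star icoH - a * icoH := by
    rw [sub_mul, ← h3, mul_assoc, hh_mul_star, e0, e1]; noncomm_ring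
  refine ⟨a, ha, b, hb, d - (x 2 + b * icoH) * icoH, sub_mem hd (mul_mem (add_mem (h0 2) (mul_mem hb hh_mem)) hh_mem),
    ?_, ?_, e2⟩
  · rw [e0]; nth_rw 1 [e2]; abel
  · rw [e1]; nth_rw 1 [e2]; noncomm_ring

theorem qip_eq (x r : V) : qip x r = x 0 * star (r 0) + x 1 * star (r 1) + x 2 * star (r 2) := by
  rw [qip, Fin.sum_univ_three]

theorem qip_mem {x r : V} (hx : x ∈ icoLeech) (hr : r ∈ icoLeech) : (1 / 2 : ℝ) • qip x r ∈ icosians := by
  obtain ⟨a, ha, b, hb, c, hc, x0, x1, x2⟩ := L_param hx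
  obtain ⟨a', ha', b', hb', c', hc', r0, r1, r2⟩ := L_param hr
  have e : qip x r = 3 * (c * (star icoH * icoH) * star c') + 2 * (c * star icoH * star icoH * (star b' - star a')) +
      2 * ((b - a) * icoH * icoH * star c') + (b * (icoH * star icoH) * star b' +
        (b - a) * (icoH * star icoH) * (star b' - star a') + a * (icoH * star icoH) * star a') := by
    rw [qip_eq, x0, x1, x2, r0, r1, r2]
    simp only [star_add, star_sub, star_mul, star_star]
    noncomm_ring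
  have e2 : qip x r = (2 : ℝ) • (3 * (c * star c') + c * star icoH * star icoH * (star b' - star a') +
      (b - a) * icoH * icoH * star c' + (b * star b' + (b - a) * (star b' - star a') + a * star a')) := by
    rw [e, star_hh_mul, hh_mul_star, two_smul]; noncomm_ring
  rw [e2, smul_smul]
  norm_num
  have := star_mem_ico ha'
  have := star_mem_ico hb'
  have := star_mem_ico hc'
  have := star_mem_ico hh_mem
  have := hh_mem
  have : (3 : ℍ[ℝ]) ∈ icosians := ofNat_mem _ 3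
  repeat' first | assumption | apply add_mem | apply sub_mem | apply mul_mem

theorem qrefl_eq (r x : V) : qrefl r x = x - ((1 / 2 : ℝ) • qip x r) • r := rfl

theorem qrefl_mem {x r : V} (hx : x ∈ icoLeech) (hr : r ∈ icoLeech) : qrefl r x ∈ icoLeech :=
  L_sub hx (L_smul (qip_mem hx hr) hr)

theorem qip_sub (x y r : V) : qip (x - y) r = qip x r - qip y r := by simp only [qip_eq, Pi.sub_apply]; noncomm_ring
theorem qip_add (x y r : V) : qip (x + y) r = qip x r + qip y r := by simp only [qip_eq, Pi.add_apply]; noncomm_ring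
theorem qip_smul (c : ℍ[ℝ]) (x r : V) : qip (c • x) r = c * qip x r := by
  simp only [qip_eq, Pi.smul_apply, smul_eq_mul]; noncomm_ring
theorem star_qip (x r : V) : star (qip x r) = qip r x := by simp only [qip_eq, star_add, star_mul, star_star]
theorem qip_sub' (x y r : V) : qip r (x - y) = qip r x - qip r y := by
  rw [← star_qip, qip_sub, star_sub, star_qip, star_qip]
theorem qip_add' (x y r : V) : qip r (x + y) = qip r x + qip r y := by
  rw [← star_qip, qip_add, star_add, star_qip, star_qip]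
theorem qip_smul' (c : ℍ[ℝ]) (x r : V) : qip r (c • x) = qip r x * star c := by
  rw [← star_qip, qip_smul, star_mul, star_qip]

theorem qip_self (x : V) : qip x x = ((normSq (x 0) + normSq (x 1) + normSq (x 2) : ℝ) : ℍ[ℝ]) := by
  simp only [qip_eq, Quaternion.self_mul_star, Quaternion.coe_add]

theorem qip_self_zero {x : V} (h : qip x x = 0) : x = 0 := by
  rw [qip_self, ← Quaternion.coe_zero, Quaternion.coe_inj] at h
  have h0 := normSq_nonneg (a := x 0)
  have h1 := normSq_nonneg (a := x 1)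
  have h2 := normSq_nonneg (a := x 2)
  funext t
  fin_cases t <;> exact normSq_eq_zero.1 (by simp only [Fin.zero_eta, Fin.mk_one, Fin.reduceFinMk]; linarith)

theorem qip_refl {r : V} (hr : qip r r = 4) (x y : V) : qip (qrefl r x) (qrefl r y) = qip x y := by
  rw [qrefl_eq, qrefl_eq, qip_sub, qip_sub', qip_sub', qip_smul, qip_smul', qip_smul', qip_smul, hr, ← star_qip y r]
  generalize qip x r = a
  generalize qip y r = b
  rw [show (4 : ℍ[ℝ]) = (4 : ℝ) • 1 by ext <;> simp <;> rfl, show star ((1 / 2 : ℝ) • b) = (1 / 2 : ℝ) • star b by ext <;> simp]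
  simp only [mul_smul_comm, smul_mul_assoc, mul_one, star_star]
  module

theorem qrefl_refl {r : V} (hr : qip r r = 4) (x : V) : qrefl r (qrefl r x) = x := by
  rw [qrefl_eq, qrefl_eq, qip_sub, qip_smul, hr]
  generalize qip x r = a
  rw [show (4 : ℍ[ℝ]) = (4 : ℝ) • 1 by ext <;> simp <;> rfl]
  simp only [mul_smul_comm, smul_smul, mul_one, sub_sub, ← add_smul]
  rw [show (1 / 2 : ℝ) • a + (1 / 2 : ℝ) • (a - (4 * (1 / 2) : ℝ) • a) = 0 by module, zero_smul, sub_zero]

theorem qrefl_smul (r x : V) (c : ℍ[ℝ]) : qrefl r (c • x) = c • qrefl r x := by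
  rw [qrefl_eq, qrefl_eq, qip_smul, smul_sub, smul_smul, mul_smul_comm]

theorem qrefl_unit {u : ℍ[ℝ]} (hu : normSq u = 1) (r x : V) : qrefl (u • r) x = qrefl r x := by
  rw [qrefl_eq, qrefl_eq, qip_smul', smul_smul, smul_mul_assoc, mul_assoc, Quaternion.star_mul_self, hu]
  simp

/-- the minimal vectors -/
def Min : Set V := {r | r ∈ icoLeech ∧ qip r r = 4}

theorem Min.smul {u : ℍ[ℝ]} (h : u ∈ icosians) (hu : normSq u = 1) {r : V} (hr : r ∈ Min) : u • r ∈ Min :=
  ⟨L_smul h hr.1, by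
    rw [qip_smul, qip_smul', hr.2, show (4 : ℍ[ℝ]) = (4 : ℝ) • 1 by ext <;> simp <;> rfl, smul_mul_assoc, mul_smul_comm, one_mul,
      Quaternion.self_mul_star, hu]; rfl⟩

theorem Min.refl {r s : V} (hr : r ∈ Min) (hs : s ∈ Min) : qrefl r s ∈ Min :=
  ⟨qrefl_mem hs.1 hr.1, by rw [qip_refl hr.2, hs.2]⟩

open Classical in
/-- the reflection in a minimal vector -/
noncomputable def rf (r : V) : Equiv.Perm icoLeech :=
  if h : r ∈ Min then Function.Involutive.toPerm (fun x => ⟨qrefl r x, qrefl_mem x.2 h.1⟩)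
    fun x => Subtype.ext (qrefl_refl h.2 x) else 1

theorem rf_apply {r : V} (h : r ∈ Min) (x : icoLeech) : (rf r x : V) = qrefl r x := by
  rw [rf, dif_pos h]; rfl

theorem rf_sq (r : V) : rf r * rf r = 1 := by
  by_cases h : r ∈ Min
  · ext1 x
    exact Subtype.ext (by rw [Equiv.Perm.mul_apply, rf_apply h, rf_apply h, qrefl_refl h.2]; rfl)
  · rw [rf, dif_neg h, one_mul]

theorem isRefl_iff {f : Equiv.Perm icoLeech} : IsIcoReflection f ↔ ∃ r ∈ Min, f = rf r :=
  ⟨fun ⟨r, h1, h2⟩ => ⟨r, ⟨r.2, h1⟩, Equiv.ext fun x => Subtype.ext (by rw [h2, rf_apply ⟨r.2, h1⟩])⟩,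
    fun ⟨r, h, e⟩ => ⟨⟨r, h.1⟩, h.2, fun x => by rw [e, rf_apply h]⟩⟩

theorem rf_mem (r : V) : rf r ∈ twoJ2 := by
  by_cases h : r ∈ Min
  · exact Subgroup.subset_closure (isRefl_iff.2 ⟨r, h, rfl⟩)
  · rw [rf, dif_neg h]; exact one_mem _

theorem rf_unit {u : ℍ[ℝ]} (h : u ∈ icosians) (hu : normSq u = 1) {r : V} (hr : r ∈ Min) : rf (u • r) = rf r :=
  Equiv.ext fun x => Subtype.ext (by rw [rf_apply hr, rf_apply (Min.smul h hu hr), qrefl_unit hu])

theorem iso {g : Equiv.Perm icoLeech} (hg : g ∈ twoJ2) : ∀ x y : icoLeech, qip (g x : V) (g y : V) = qip (x : V) (y : V) := by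
  induction hg using Subgroup.closure_induction with
  | mem f hf =>
    obtain ⟨r, hr, rfl⟩ := isRefl_iff.1 hf
    exact fun x y => by rw [rf_apply hr, rf_apply hr, qip_refl hr.2]
  | one => exact fun _ _ => rfl
  | mul a b _ _ ha hb => exact fun x y => by rw [Equiv.Perm.mul_apply, Equiv.Perm.mul_apply, ha, hb]
  | inv a _ ha => exact fun x y => by rw [← ha]; simp

theorem iso_lin {g : Equiv.Perm icoLeech} (hg : g ∈ twoJ2) {x y z : icoLeech} {c : ℍ[ℝ]} (h : (z : V) = x - c • (y : V)) :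
    (g z : V) = g x - c • (g y : V) := by
  have k : ∀ v, qip ((g z : V) - (g x - c • (g y : V))) (g v : V) = 0 := fun v => by
    rw [qip_sub, qip_sub, qip_smul, iso hg, iso hg, iso hg, h, qip_sub, qip_smul, sub_self]
  exact sub_eq_zero.1 (qip_self_zero (by rw [qip_sub', qip_sub', qip_smul', k, k, k]; simp))

theorem iso_min {g : Equiv.Perm icoLeech} (hg : g ∈ twoJ2) {r : icoLeech} (hr : r.1 ∈ Min) : (g r).1 ∈ Min :=
  ⟨(g r).2, by rw [iso hg, hr.2]⟩

theorem conj_rf {g : Equiv.Perm icoLeech} (hg : g ∈ twoJ2) {r : icoLeech} (hr : r.1 ∈ Min) : g * rf r * g⁻¹ = rf (g r) := by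
  rw [mul_inv_eq_iff_eq_mul]
  refine Equiv.ext fun x => Subtype.ext ?_
  rw [Equiv.Perm.mul_apply, Equiv.Perm.mul_apply, rf_apply (iso_min hg hr), iso_lin hg ((rf_apply hr x).trans (qrefl_eq _ _)),
    qrefl_eq, iso hg]

theorem rf_conj {r s : V} (hr : r ∈ Min) (hs : s ∈ Min) : rf r * rf s * (rf r)⁻¹ = rf (qrefl r s) := by
  rw [← rf_apply hr ⟨s, hs.1⟩]; exact conj_rf (rf_mem r) (r := ⟨s, hs.1⟩) hs

/-- negation -/
def ng : Equiv.Perm icoLeech := Function.Involutive.toPerm (fun x => ⟨-x.1, L_neg x.2⟩) fun x => Subtype.ext (neg_neg x.1)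

theorem ng_apply (x : icoLeech) : (ng x : V) = -x.1 := rfl

theorem ng_comm {g : Equiv.Perm icoLeech} (hg : g ∈ twoJ2) : g * ng = ng * g := by
  refine Equiv.ext fun x => Subtype.ext ?_
  rw [Equiv.Perm.mul_apply, Equiv.Perm.mul_apply, iso_lin hg (x := x) (y := x) (c := 2) (by rw [ng_apply, two_smul]; abel),
    ng_apply, two_smul]
  abel

end Cfsg.Agent.J2
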