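import Mathlib

/-! The faithful irreducible module over two elements of the extension of a group of order 9 by a dihedral group. -/

set_option autoImplicit false
set_option linter.unusedSectionVars false
set_option linter.unusedVariables false

namespace Cfsg.Agent.M16

open Subgroup

variable {S : Type*} [Group S] [Finite S]

theorem enum {A : Subgroup S} (hc : ∀ a ∈ A, ∀ b ∈ A, a * b = b * a) (h3 : ∀ a ∈ A, a ^ 3 = 1) (h9 : Nat.card A = 9)
    {a c : S} (ha : a ∈ A) (hc' : c ∈ A) (a1 : a ≠ 1) (h : c ∉ zpowers a) : A ≤ closure {a, c} := by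
  haveI := Fact.mk Nat.prime_three
  have le : closure {a, c} ≤ A := (closure_le _).2 (by rintro _ (rfl | rfl); exacts [ha, hc'])
  have z : zpowers a < closure {a, c} := lt_of_le_of_ne (zpowers_le.2 (subset_closure (by simp)))
    fun e => h (e ▸ subset_closure (by simp))
  have c3 : Nat.card (zpowers a) = 3 := (Nat.card_zpowers a).trans (orderOf_eq_prime (h3 a ha) a1)
  have d := card_dvd_of_le le
  have d2 : 3 < Nat.card (closure ({a, c} : Set S)) := by
    refine lt_of_le_of_ne (c3 ▸ card_le_of_le z.le) fun e => z.ne (eq_of_le_of_card_ge z.le (by omega))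
  refine (eq_of_le_of_card_ge le ?_).ge
  rw [h9] at d ⊢
  have := Nat.le_of_dvd (by norm_num) d
  interval_cases Nat.card (closure ({a, c} : Set S)) <;> omega

theorem z3 {a c : S} (h : a ^ 3 = 1) (hc : c ∈ zpowers a) : c = 1 ∨ c = a ∨ c = a⁻¹ := by
  obtain ⟨i, rfl⟩ := hc
  have e : a ^ i = a ^ (i % 3) := zpow_eq_zpow_emod' i h
  have : i % 3 = 0 ∨ i % 3 = 1 ∨ i % 3 = 2 := by omega
  rcases this with q | q | q <;> rw [q] at e
  · exact .inl (by simpa using e)
  · exact .inr (.inl (by simpa using e))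
  · exact .inr (.inr (e.trans (eq_inv_of_mul_eq_one_left (by rw [← h]; group))))

variable {M : Type*} [AddCommGroup M] [Module (ZMod 2) M] [Finite M] (ρ : Representation (ZMod 2) S M)

theorem two (m : M) : m + m = 0 := by rw [← two_smul (ZMod 2), show (2 : ZMod 2) = 0 from rfl, zero_smul]

theorem mu (g h : S) (m : M) : ρ g (ρ h m) = ρ (g * h) m := by rw [map_mul]; rfl

theorem core (hirr : ∀ N : Submodule (ZMod 2) M, (∀ s : S, ∀ m ∈ N, ρ s m ∈ N) → N = ⊥ ∨ N = ⊤)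
    {a b s t : S} (gen : closure {a, s, t} = ⊤) (tt : t * t = 1) (ss : s * s = 1) (tb : t * a = b * t) (ab : a * b = b * a)
    (sa : s * a = a * s) (sb : s * b = b * b * s) (a3 : a * a * a = 1) (b3 : b * b * b = 1) (st : s * t * s * t = t * s * t * s)
    (h0 : ∀ m, ρ a m = m → ρ b m = m → m = 0) {v : M} (v0 : v ≠ 0) (hv : ρ a v = v) :
    Nat.card M = 16 ∧ Nat.card {m : M // ρ s m = m ∧ ρ (t * s * t) m = m} = 4 ∧
      Nat.card {m : M // ρ t m = m ∧ ρ (s * t * s) m = m} = 2 := by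
  set u := t * s * t with hu
  have ta : t * b = a * t := by rw [← mul_one (t * b), ← tt, ← mul_assoc, mul_assoc t b, ← tb, ← mul_assoc, tt, one_mul]
  have ub : u * b = b * u := by rw [hu, mul_assoc, ta, ← mul_assoc, mul_assoc t, sa, ← mul_assoc, tb]; group
  have ua : u * a = a * a * u := by
    rw [hu, mul_assoc, tb, ← mul_assoc, mul_assoc t, sb, ← mul_assoc, ← mul_assoc, ta, mul_assoc a, ta]; group
  have uu : u * u = 1 := by rw [hu, show t * s * t * (t * s * t) = t * s * (t * t) * s * t by group, tt, mul_one,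
    mul_assoc t, ss, mul_one, tt]
  have su : s * u = u * s := by rw [hu, ← mul_assoc, ← mul_assoc, st]
  obtain ⟨w, w0, wa, ws⟩ : ∃ w, w ≠ 0 ∧ ρ a w = w ∧ ρ s w = w := by
    by_cases h : v + ρ s v = 0
    · exact ⟨v, v0, hv, by rw [← add_right_inj v, h, two]⟩
    · exact ⟨_, h, by rw [map_add, mu, ← sa, ← mu, hv], by rw [map_add, mu, ss, map_one, add_comm]; rfl⟩
  obtain ⟨m, m0, ma, ms, mt⟩ : ∃ m, m ≠ 0 ∧ ρ a m = m ∧ ρ s m = m ∧ ρ u m = m := by
    by_cases h : w + ρ u w = 0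
    · exact ⟨w, w0, wa, ws, by rw [← add_right_inj w, h, two]⟩
    · refine ⟨_, h, ?_, by rw [map_add, mu, su, ← mu, ws], by rw [map_add, mu, uu, map_one, add_comm]; rfl⟩
      have au : a * u = u * a * a := by
        rw [ua, mul_assoc (a * a) u a, ua, show a * a * (a * a * u) = a * (a * a * a) * u by group, a3, mul_one]
      rw [map_add, wa, mu, au, ← mu, ← mu, wa, wa]
  set n := ρ b m with hn
  have an : ρ a n = n := by rw [hn, mu, ab, ← mu, ma]
  have bn : ρ b n = m + n := by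
    have := h0 (m + n + ρ b n) (by rw [map_add, map_add, ma, an, mu, ab, ← mu, an])
      (by rw [map_add, map_add, ← hn, hn, mu, mu, ← mul_assoc, b3, map_one, Module.End.one_apply]; abel)
    rw [← add_right_inj (m + n), this, two]
  have sn : ρ s n = m + n := by rw [← bn, hn, mu, sb, mu, ← mu _ _ s, ms]
  have un : ρ u n = n := by rw [hn, mu, ub, ← mu, mt]
  have T : ∀ x, ρ t (ρ t x) = x := fun x => by rw [mu, tt, map_one]; rfl
  have at' : ∀ x, ρ a (ρ t x) = ρ t (ρ b x) := fun x => by rw [mu, mu, ta]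
  have bt' : ∀ x, ρ b (ρ t x) = ρ t (ρ a x) := fun x => by rw [mu, mu, tb]
  have st' : ∀ x, ρ s (ρ t x) = ρ t (ρ u x) := fun x => by rw [mu, mu, hu, ← mul_assoc, ← mul_assoc, tt, one_mul]
  have ut' : ∀ x, ρ u (ρ t x) = ρ t (ρ s x) := fun x => by rw [mu, mu, hu, mul_assoc, tt, mul_one]
  let f : (Fin 4 → ZMod 2) →ₗ[ZMod 2] M := Fintype.linearCombination _ ![m, n, ρ t m, ρ t n]
  have hf : ∀ c, f c = c 0 • m + c 1 • n + c 2 • ρ t m + c 3 • ρ t n := fun c => by
    simp [f, Fintype.linearCombination_apply, Fin.sum_univ_four]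
  have fa : ∀ c, ρ a (f c) = f ![c 0, c 1, c 3, c 2 + c 3] := fun c => by
    simp only [hf, map_add, map_smul, ma, an, at', ← hn, bn]; simp [add_smul]; abel
  have fb : ∀ c, ρ b (f c) = f ![c 1, c 0 + c 1, c 2, c 3] := fun c => by
    simp only [hf, map_add, map_smul, ma, an, bt', ← hn, bn]; simp [add_smul]; abel
  have fs : ∀ c, ρ s (f c) = f ![c 0 + c 1, c 1, c 2, c 3] := fun c => by
    simp only [hf, map_add, map_smul, ms, sn, st', mt, un]; simp [add_smul]; abel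
  have fu : ∀ c, ρ u (f c) = f ![c 0, c 1, c 2 + c 3, c 3] := fun c => by
    simp only [hf, map_add, map_smul, ms, sn, ut', mt, un]; simp [add_smul]; abel
  have ft : ∀ c, ρ t (f c) = f ![c 2, c 3, c 0, c 1] := fun c => by
    simp only [hf, map_add, map_smul, T]; simp; abel
  have inj : Function.Injective f := (injective_iff_map_eq_zero f).2 fun c hc => by
    by_contra c0
    have k : ∀ c : Fin 4 → ZMod 2, c ≠ 0 → ∀ P : (Fin 4 → ZMod 2) → Prop, P c → (∀ c d, P c → P d → P (c + d)) →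
        (∀ c, P c → P ![c 0, c 1, c 3, c 2 + c 3]) → (∀ c, P c → P ![c 1, c 0 + c 1, c 2, c 3]) →
        (∀ c, P c → P ![c 2, c 3, c 0, c 1]) → P ![1, 0, 0, 0] := fun c c0 P p0 pa p1 p2 p3 => by
      have r : ∀ c : Fin 4 → ZMod 2, ¬ (c 0 = 0 ∧ c 1 = 0) → P c → P ![1, 0, 0, 0] := fun c q p => by
        have x1 := pa _ _ p (p2 _ p)
        have x2 := p2 _ x1
        have x3 := p2 _ x2
        have : ∀ c : Fin 4 → ZMod 2, ¬ (c 0 = 0 ∧ c 1 = 0) → let d := c + ![c 1, c 0 + c 1, c 2, c 3]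
            let e := ![d 1, d 0 + d 1, d 2, d 3]
            d = ![1, 0, 0, 0] ∨ e = ![1, 0, 0, 0] ∨ ![e 1, e 0 + e 1, e 2, e 3] = ![1, 0, 0, 0] := by decide
        rcases this c q with e | e | e
        exacts [e ▸ x1, e ▸ x2, e ▸ x3]
      by_cases q : c 0 = 0 ∧ c 1 = 0
      · exact r _ ((by decide : ∀ c : Fin 4 → ZMod 2, c ≠ 0 → (c 0 = 0 ∧ c 1 = 0) → ¬ (c 2 = 0 ∧ c 3 = 0)) c c0 q) (p3 _ p0)
      · exact r _ q p0
    have := k c c0 (fun c => f c = 0) hc (fun c d p q => by rw [map_add, p, q, add_zero])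
      (fun c p => by rw [← fa, p, map_zero]) (fun c p => by rw [← fb, p, map_zero]) (fun c p => by rw [← ft, p, map_zero])
    exact m0 (by simpa [hf] using this)
  have sur : Function.Surjective f := LinearMap.range_eq_top.1 ((hirr _ fun g => by
    refine closure_induction (p := fun g _ => ∀ m ∈ LinearMap.range f, ρ g m ∈ LinearMap.range f) ?_ (by simp)
      (fun x y _ _ p q m hm => by rw [← mu]; exact p _ (q _ hm)) (fun x _ p m hm => ?_) (gen.ge (mem_top g))
    · rintro _ (rfl | rfl | rfl) _ ⟨c, rfl⟩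
      exacts [⟨_, (fa c).symm⟩, ⟨_, (fs c).symm⟩, ⟨_, (ft c).symm⟩]
    · have : ∀ k : ℕ, ρ (x ^ k) m ∈ LinearMap.range f := fun k => by
        induction k with
        | zero => simpa using hm
        | succ k ih => rw [pow_succ', ← mu]; exact p _ ih
      rw [inv_eq_of_mul_eq_one_right (show x * x ^ (orderOf x - 1) = 1 by
        rw [← pow_succ', Nat.sub_add_cancel (orderOf_pos x), pow_orderOf_eq_one])]
      exact this _).resolve_left fun e => m0 (by simpa [hf, e] using LinearMap.mem_range_self f ![1, 0, 0, 0]))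
  let e := Equiv.ofBijective f ⟨inj, sur⟩
  refine ⟨by rw [← Nat.card_congr e]; simp, ?_, ?_⟩
  · rw [← Nat.card_congr (e.subtypeEquiv (p := fun c => ![c 0 + c 1, c 1, c 2, c 3] = c ∧ ![c 0, c 1, c 2 + c 3, c 3] = c)
      fun c => by rw [show e c = f c from rfl, fs, fu, inj.eq_iff, inj.eq_iff]), Nat.card_eq_fintype_card]
    decide
  · rw [← Nat.card_congr (e.subtypeEquiv (p := fun c => ![c 2, c 3, c 0, c 1] = c ∧ ![c 2 + c 3, c 3, c 0 + c 1, c 1] = c)
      fun c => by rw [show e c = f c from rfl, ← mu, ← mu, fs, ft, ft, fs, inj.eq_iff, inj.eq_iff]; rfl),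
      Nat.card_eq_fintype_card]
    decide

theorem invl {A : Subgroup S} [hn : A.Normal] (hc : ∀ a ∈ A, ∀ b ∈ A, a * b = b * a) {x b : S} (xx : x * x = 1) (hb : b ∈ A)
    (h : x * b ≠ b * x) : ∃ c ∈ A, c ≠ 1 ∧ x * c * x⁻¹ = c⁻¹ := by
  refine ⟨b⁻¹ * (x * b * x⁻¹), mul_mem (inv_mem hb) (hn.conj_mem b hb x), fun e => h ?_, ?_⟩
  · rw [← mul_inv_eq_iff_eq_mul, ← inv_mul_eq_one.1 e]
  · rw [show x * (b⁻¹ * (x * b * x⁻¹)) * x⁻¹ = x * b⁻¹ * x⁻¹ * (x * x) * b * (x * x)⁻¹ by group, xx]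
    group

theorem c1 {c : S} (h3 : c ^ 3 = 1) (h : c = c⁻¹) : c = 1 := by
  rw [← h3, pow_succ, sq, mul_eq_one_iff_eq_inv.2 h, one_mul]

open DihedralGroup

def K (i : ZMod 4) : Subgroup (DihedralGroup 4) where
  carrier := {d | d = 1 ∨ d = sr i ∨ d = sr (i + 2) ∨ d = r 2}
  one_mem' := .inl rfl
  mul_mem' := by simp only [Set.mem_setOf_eq]; revert i; decide
  inv_mem' := by simp only [Set.mem_setOf_eq]; revert i; decide

theorem mK {i : ZMod 4} {d : DihedralGroup 4} : d ∈ K i ↔ d = 1 ∨ d = sr i ∨ d = sr (i + 2) ∨ d = r 2 := Iff.rfl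

theorem cK (i : ZMod 4) : Nat.card (K i) = 4 := by
  rw [Nat.card_congr (Equiv.subtypeEquivRight fun _ => mK), Nat.card_eq_fintype_card]
  revert i
  decide

theorem main (A : Subgroup S) [hn : A.Normal] (hA : IsMulCommutative A ∧ ∀ a ∈ A, a ^ 3 = 1) (hA9 : Nat.card ↥A = 9)
    (hAC : Subgroup.centralizer (A : Set S) = A) (X : Subgroup S) (hX : Nonempty (↥X ≃* DihedralGroup 4)) (hAX : A ⊔ X = ⊤)
    (hfaith : Function.Injective ρ)
    (hirr : ∀ N : Submodule (ZMod 2) M, (∀ s : S, ∀ m ∈ N, ρ s m ∈ N) → N = ⊥ ∨ N = ⊤) (hM : Nontrivial M) :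
    Nat.card M = 16 ∧
      ∃! B : Subgroup S, B ≤ X ∧ Nat.card ↥B = 4 ∧ (∀ b ∈ B, b ^ 2 = 1) ∧
        Nat.card {m : M // ∀ b ∈ B, ρ b m = m} = 2 := by
  obtain ⟨e⟩ := hX
  have hc : ∀ a ∈ A, ∀ b ∈ A, a * b = b * a := fun a ha b hb =>
    congrArg Subtype.val (hA.1.is_comm.comm (⟨a, ha⟩ : A) ⟨b, hb⟩)
  have h3 := hA.2
  let j : DihedralGroup 4 →* S := X.subtype.comp e.symm.toMonoidHom
  have ji : Function.Injective j := Subtype.val_injective.comp e.symm.injective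
  have jr : j.range = X := le_antisymm (by rintro _ ⟨d, rfl⟩; exact (e.symm d).2) fun x hx => ⟨e ⟨x, hx⟩, by simp [j]⟩
  have iv : ∀ d, d ≠ 1 → d * d = 1 → ∃ c ∈ A, c ≠ 1 ∧ j d * c * (j d)⁻¹ = c⁻¹ := fun d d1 dd => by
    obtain ⟨b, hb, h⟩ : ∃ b ∈ A, j d * b ≠ b * j d := by
      by_contra! q
      have := h3 _ (hAC.le fun b hb => (q b hb).symm)
      rw [← map_pow, map_eq_one_iff j ji] at this
      exact d1 ((by decide : ∀ d : DihedralGroup 4, d ^ 3 = 1 → d * d = 1 → d = 1) d this dd)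
    exact invl hc (by rw [← map_mul, dd, map_one]) hb h
  have zi : ∀ a ∈ A, j (r 2) * a * (j (r 2))⁻¹ = a⁻¹ := by
    obtain ⟨c, hc', c1', q⟩ := iv (r 2) (by decide) (by decide)
    have rr : j (r 2) = j (r 1) * j (r 1) := by rw [← map_mul]; rfl
    have hd : j (r 1) * c * (j (r 1))⁻¹ ∉ zpowers c := fun m => c1' (by
      rcases z3 (h3 c hc') m with p | p | p
      · exact conj_eq_one_iff.1 p
      · refine c1 (h3 c hc') ?_
        rw [← q, rr, show ∀ x : S, x * x * c * (x * x)⁻¹ = x * (x * c * x⁻¹) * x⁻¹ from fun x => by group, p, p]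
      · refine c1 (h3 c hc') ?_
        rw [← q, rr, show ∀ x : S, x * x * c * (x * x)⁻¹ = x * (x * c * x⁻¹) * x⁻¹ from fun x => by group, p, ← conj_inv,
          p, inv_inv])
    intro a ha
    refine (closure_induction (p := fun x _ => x ∈ A ∧ j (r 2) * x * (j (r 2))⁻¹ = x⁻¹) ?_ ⟨one_mem _, by simp⟩
      (fun x y _ _ p q => ⟨mul_mem p.1 q.1, by rw [← conj_mul, p.2, q.2, hc x p.1 y q.1, mul_inv_rev]⟩)
      (fun x _ p => ⟨inv_mem p.1, by rw [← conj_inv, p.2]⟩) (enum hc h3 hA9 hc' (hn.conj_mem c hc' _) c1' hd ha)).2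
    rintro _ (rfl | rfl)
    · exact ⟨hc', q⟩
    · refine ⟨hn.conj_mem c hc' _, ?_⟩
      rw [conj_inv, ← q, rr]
      group
  have cu : ∀ a ∈ A, a * a * a = 1 := fun a ha => by simpa [pow_succ] using h3 a ha
  have pre : ∀ σ τ : DihedralGroup 4, σ * σ = 1 → τ * τ = 1 → τ * σ * τ = σ * r 2 → σ * τ * σ * τ = τ * σ * τ * σ →
      (∀ d, d = 1 ∨ d = σ ∨ d = τ ∨ d = σ * τ ∨ d = τ * σ ∨ d = σ * τ * σ ∨ d = τ * σ * τ ∨ d = σ * τ * σ * τ) →
      ∀ a ∈ A, a ≠ 1 → j σ * a = a * j σ → j τ * a * (j τ)⁻¹ ∉ zpowers a ∧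
      (∀ m, ρ a m = m → ρ (j τ * a * (j τ)⁻¹) m = m → m = 0) ∧ j σ * (j τ * a * (j τ)⁻¹) * (j σ)⁻¹ = (j τ * a * (j τ)⁻¹)⁻¹ ∧
      ∀ v ≠ 0, ρ a v = v → Nat.card M = 16 ∧ Nat.card {m : M // ρ (j σ) m = m ∧ ρ (j (τ * σ * τ)) m = m} = 4 ∧
        Nat.card {m : M // ρ (j τ) m = m ∧ ρ (j (σ * τ * σ)) m = m} = 2 := fun σ τ ss tt tz st all a ha a1 sa => by
    have hb := hn.conj_mem a ha (j τ)
    have tt' : j τ * j τ = 1 := by rw [← map_mul, tt, map_one]
    have sb : j σ * (j τ * a * (j τ)⁻¹) * (j σ)⁻¹ = (j τ * a * (j τ)⁻¹)⁻¹ := by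
      have : j σ = j τ * (j σ * j (r 2)) * (j τ)⁻¹ := by
        rw [← map_mul, ← tz, map_mul, map_mul, ← mul_assoc, ← mul_assoc, tt']; group
      rw [this, conj_mul, conj_inv, conj_mul, conj_inv, show j σ * j (r 2) * a * (j σ * j (r 2))⁻¹ =
        j σ * (j (r 2) * a * (j (r 2))⁻¹) * (j σ)⁻¹ by group, zi a ha, ← conj_inv, sa, mul_inv_cancel_right]
    set b := j τ * a * (j τ)⁻¹ with hbd
    have nb : b ∉ zpowers a := fun ⟨i, hi⟩ => a1 (conj_eq_one_iff.1 (c1 (h3 b hb) (by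
      rw [← sb, ← hi, (Commute.zpow_right sa i).eq, mul_inv_cancel_right]
      exact hi.symm)))
    have Ale := enum hc h3 hA9 ha hb a1 nb
    have h0 : ∀ m, ρ a m = m → ρ b m = m → m = 0 := fun m p q => by
      let N : Submodule (ZMod 2) M :=
        { carrier := {m | ∀ x ∈ A, ρ x m = m}
          add_mem' := fun p q x hx => by rw [map_add, p x hx, q x hx]
          zero_mem' := fun x _ => map_zero _
          smul_mem' := fun c m p x hx => by rw [map_smul, p x hx] }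
      rcases hirr N (fun s m p x hx => by
        rw [mu, show x * s = s * (s⁻¹ * x * s⁻¹⁻¹) by group, ← mu, p _ (hn.conj_mem x hx _)]) with w | w
      · refine w.le fun x hx => closure_induction (p := fun x _ => ρ x m = m) ?_ (by simp)
          (fun x y _ _ p q => by rw [← mu, q, p]) (fun x _ p => ?_) (Ale hx)
        · rintro _ (rfl | rfl)
          exacts [p, q]
        · nth_rewrite 1 [← p]
          rw [mu, inv_mul_cancel, map_one, Module.End.one_apply]
      · exact (a1 (hfaith (LinearMap.ext fun m => (w.ge Submodule.mem_top a ha).trans (by rw [map_one]; rfl)))).elim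
    refine ⟨nb, h0, sb, fun v v0 hv => ?_⟩
    simp only [map_mul j]
    refine core ρ hirr (b := b) (top_le_iff.1 (hAX.ge.trans (sup_le (Ale.trans ((closure_le _).2 ?_)) (jr.ge.trans ?_)))) tt'
      (by rw [← map_mul, ss, map_one]) (by rw [hbd, inv_mul_cancel_right]) (hc a ha b hb) sa
      (by rw [mul_inv_eq_iff_eq_mul.1 sb, inv_eq_of_mul_eq_one_left (cu b hb)]) (cu a ha) (cu b hb)
      (by simp only [← map_mul, st]) h0 v0 hv
    · have m1 : a ∈ closure {a, j σ, j τ} := subset_closure (by simp)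
      have m3 : j τ ∈ closure {a, j σ, j τ} := subset_closure (by simp)
      rintro _ (rfl | rfl)
      exacts [m1, mul_mem (mul_mem m3 m1) (inv_mem m3)]
    · have m2 : j σ ∈ closure {a, j σ, j τ} := subset_closure (by simp)
      have m3 : j τ ∈ closure {a, j σ, j τ} := subset_closure (by simp)
      rintro _ ⟨d, rfl⟩
      rcases all d with q | q | q | q | q | q | q | q <;> rw [q] <;> (try simp only [map_mul, map_one]) <;>
        repeat' (first | exact m2 | exact m3 | exact one_mem _ | refine mul_mem ?_ ?_)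
  have fx : ∀ i, Nat.card {m : M // ∀ b ∈ (K i).map j, ρ b m = m} =
      Nat.card {m : M // ρ (j (sr i)) m = m ∧ ρ (j (sr (i + 2))) m = m} := fun i =>
    Nat.card_congr (Equiv.subtypeEquivRight fun m => ⟨fun h => ⟨h _ ⟨_, .inr (.inl rfl), rfl⟩,
      h _ ⟨_, .inr (.inr (.inl rfl)), rfl⟩⟩, fun h => by
        rintro _ ⟨d, rfl | rfl | rfl | rfl, rfl⟩
        · rw [map_one, map_one, Module.End.one_apply]
        · exact h.1
        · exact h.2
        · rw [(by decide : ∀ i : ZMod 4, (r 2 : DihedralGroup 4) = sr i * sr (i + 2)) i, map_mul, ← mu, h.2, h.1]⟩)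
  have cB : ∀ i, Nat.card ((K i).map j) = 4 := fun i => (card_map_of_injective ji).trans (cK i)
  have okB : ∀ i, (K i).map j ≤ X ∧ Nat.card ((K i).map j) = 4 ∧ ∀ b ∈ (K i).map j, b ^ 2 = 1 := fun i =>
    ⟨(map_le_range j _).trans jr.le, cB i, by
      rintro _ ⟨d, hd, rfl⟩
      rw [← map_pow, (by decide : ∀ (i : ZMod 4) (d : DihedralGroup 4), (d = 1 ∨ d = sr i ∨ d = sr (i + 2) ∨ d = r 2) →
        d ^ 2 = 1) i d hd, map_one]⟩
  have uB : ∀ B ≤ X, Nat.card B = 4 → (∀ b ∈ B, b ^ 2 = 1) → B = (K 0).map j ∨ B = (K 1).map j := fun B hB c4 h2 => by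
    have e1 : (B.comap j).map j = B := map_comap_eq_self (hB.trans jr.ge)
    have q : ∀ d ∈ B.comap j, d ^ 2 = 1 := fun d hd => ji (by rw [map_pow, h2 _ hd, map_one])
    have : B.comap j ≤ K 0 ∨ B.comap j ≤ K 1 := by
      by_contra! w
      obtain ⟨x, hx, x'⟩ := SetLike.not_le_iff_exists.1 w.1
      obtain ⟨y, hy, y'⟩ := SetLike.not_le_iff_exists.1 w.2
      exact (by decide : ∀ x y : DihedralGroup 4, x ^ 2 = 1 → y ^ 2 = 1 → (x * y) ^ 2 = 1 →
        ¬ (x = 1 ∨ x = sr 0 ∨ x = sr (0 + 2) ∨ x = r 2) → ¬ (y = 1 ∨ y = sr 1 ∨ y = sr (1 + 2) ∨ y = r 2) → False)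
        x y (q x hx) (q y hy) (q _ (mul_mem hx hy)) x' y'
    exact this.imp (fun w => eq_of_le_of_card_ge (e1 ▸ map_mono w) (by rw [cB, c4]))
      fun w => eq_of_le_of_card_ge (e1 ▸ map_mono w) (by rw [cB, c4])
  obtain ⟨a, ha, a1, q⟩ := iv (sr 0 * r 2) (by decide) (by decide)
  have sa : j (sr 0) * a = a * j (sr 0) := by
    rw [map_mul, show j (sr 0) * j (r 2) * a * (j (sr 0) * j (r 2))⁻¹ =
      j (sr 0) * (j (r 2) * a * (j (r 2))⁻¹) * (j (sr 0))⁻¹ by group, zi a ha, ← conj_inv, inv_inj] at q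
    exact mul_inv_eq_iff_eq_mul.1 q
  obtain ⟨nb, h0, sb, P0⟩ := pre (sr 0) (sr 1) (by decide) (by decide) (by decide) (by decide) (by decide) a ha a1 sa
  have hb := hn.conj_mem a ha (j (sr 1))
  have tt : j (sr 1) * j (sr 1) = 1 := by rw [← map_mul]; exact (congrArg j (by decide)).trans (map_one j)
  have tb : j (sr 1) * (j (sr 1) * a * (j (sr 1))⁻¹) = a * j (sr 1) := by
    rw [← mul_assoc, ← mul_assoc, tt, one_mul, inv_eq_of_mul_eq_one_right tt]
  have ta : j (sr 1) * a = (j (sr 1) * a * (j (sr 1))⁻¹) * j (sr 1) := by group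
  generalize j (sr 1) * a * (j (sr 1))⁻¹ = b at *
  obtain ⟨-, -, -, P1⟩ := pre (sr 1) (sr 0) (by decide) (by decide) (by decide) (by decide) (by decide) (a * b)
    (mul_mem ha hb) (fun e => nb (by rw [eq_inv_of_mul_eq_one_right e]; simp)) (by
      rw [← mul_assoc, ta, mul_assoc, tb, ← mul_assoc, hc b hb a ha])
  have nz : ∀ (x : S) {v : M}, v ≠ 0 → ρ x v ≠ 0 := fun x v v0 e => v0 (by
    rw [← Module.End.one_apply (R := ZMod 2) v, ← map_one ρ, ← inv_mul_cancel x, ← mu, e, map_zero])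
  have : (∃ v ≠ 0, ρ a v = v) ∨ ∃ v ≠ 0, ρ (a * b) v = v := by
    by_contra! w
    have fp : ∀ x ∈ A, (∀ v ≠ 0, ρ x v ≠ v) → ∀ v, ρ x (ρ x v) = v + ρ x v := fun x hx p v => by
      have : v + ρ x v + ρ x (ρ x v) = 0 := by
        by_contra n
        refine p _ n ?_
        rw [map_add, map_add, mu ρ x x, mu, ← mul_assoc, cu x hx, map_one, Module.End.one_apply]
        abel
      rw [← add_right_inj (v + ρ x v), this, two]
    have wb : ∀ v ≠ 0, ρ b v ≠ v := fun v v0 p => w.1 _ (nz (j (sr 1)) v0) (by rw [mu, ← tb, ← mu, p])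
    have wc : ∀ v ≠ 0, ρ (a * b⁻¹) v ≠ v := fun v v0 p => w.2 _ (nz (j (sr 0)) v0) (by
      nth_rewrite 2 [← p]
      rw [mu, mu, ← mul_assoc, sa, mul_assoc, mul_assoc,
        show j (sr 0) * b⁻¹ = b * j (sr 0) by rw [← mul_inv_eq_iff_eq_mul, ← conj_inv, sb, inv_inv]])
    obtain ⟨v, v0⟩ := exists_ne (0 : M)
    have k1 : ρ a v + ρ b v ≠ 0 := fun p => wc _ (nz b v0) (by
      rw [mu, inv_mul_cancel_right, ← add_left_inj (ρ b v), p, two])
    refine w.2 _ k1 ?_
    rw [map_add, mu, mu, mul_assoc, ← hc a ha b hb, mul_assoc, ← mu, ← mu, ← mu ρ a, ← mu ρ b, fp a ha w.1, fp b hb wb, map_add,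
      show ∀ x y z : M, x + z + (y + z) = y + x + (z + z) from fun _ _ _ => by abel, two, add_zero]
  rcases this with ⟨v, v0, hv⟩ | ⟨v, v0, hv⟩
  · obtain ⟨p1, p2, p3⟩ := P0 v v0 hv
    refine ⟨p1, _, ⟨(okB 1).1, (okB 1).2.1, (okB 1).2.2, (fx 1).trans p3⟩, fun B hB =>
      (uB B hB.1 hB.2.1 hB.2.2.1).resolve_left fun e => ?_⟩
    exact absurd ((e ▸ hB.2.2.2).symm.trans ((fx 0).trans p2)) (by norm_num)
  · obtain ⟨p1, p2, p3⟩ := P1 v v0 hv
    refine ⟨p1, _, ⟨(okB 0).1, (okB 0).2.1, (okB 0).2.2, (fx 0).trans p3⟩, fun B hB =>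
      (uB B hB.1 hB.2.1 hB.2.2.1).resolve_right fun e => ?_⟩
    exact absurd ((e ▸ hB.2.2.2).symm.trans ((fx 1).trans p2)) (by norm_num)

end Cfsg.Agent.M16
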