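import Cfsg.Agent.Lib.J2.Tab

/-! Classification of the minimal vectors of the icosian lattice. -/

set_option autoImplicit false
set_option maxRecDepth 100000

namespace Cfsg.Agent.J2

open Cfsg.Spor Quaternion Cfsg.Agent.PC Z8

noncomputable def Ph (v : V3) : V := ![ph v.x, ph v.y, ph v.z]

@[simp] theorem Ph0 (v : V3) : Ph v 0 = ph v.x := rfl
@[simp] theorem Ph1 (v : V3) : Ph v 1 = ph v.y := rfl
@[simp] theorem Ph2 (v : V3) : Ph v 2 = ph v.z := rfl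

theorem V_ext {x y : V} (h0 : x 0 = y 0) (h1 : x 1 = y 1) (h2 : x 2 = y 2) : x = y := by
  funext t; fin_cases t <;> assumption

theorem Ph_inj {v w : V3} (h : Ph v = Ph w) : v = w :=
  V3.ext (ph_inj (congrFun h 0)) (ph_inj (congrFun h 1)) (ph_inj (congrFun h 2))

theorem nq1 : normSq (ph hh) = 2 := ph_hh ▸ normSq_hh
theorem nq2 : normSq (ph hh.st) = 2 := by rw [ph_st, normSq_star, nq1]

theorem Ph_mem {v : V3} : Ph v ∈ icoLeech ↔ v.InL := by
  simp only [icoLeech, Set.mem_setOf_eq, Fin.forall_fin_succ, IsEmpty.forall_iff, and_true, V3.InL, ← ph_ideal nq1, ← ph_ideal nq2,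
    ph_sub, ph_add, ph_st, ph_hh, ← ph_mem]
  rfl

theorem exists_Ph {x : V} (h : x ∈ icoLeech) : ∃ v, Ph v = x := by
  obtain ⟨a, -, ha⟩ := mem_ico.1 (h.1 0)
  obtain ⟨b, -, hb⟩ := mem_ico.1 (h.1 1)
  obtain ⟨c, -, hc⟩ := mem_ico.1 (h.1 2)
  exact ⟨⟨a, b, c⟩, V_ext ha hb hc⟩

theorem Ph_min {v : V3} : Ph v ∈ Min ↔ v.IsM := by
  rw [Min, Set.mem_setOf_eq, Ph_mem, V3.IsM, qip_self, show (4 : ℍ[ℝ]) = ((4 : ℝ) : ℍ[ℝ]) from rfl, Quaternion.coe_inj]
  simp only [Ph0, Ph1, Ph2, normSq_ph]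
  refine and_congr_right fun _ => ⟨fun h => tau_inj (by push_cast; linarith), fun ⟨h1, h2⟩ => ?_⟩
  have h1' : (v.x.n0 : ℝ) + v.y.n0 + v.z.n0 = 16 := by exact_mod_cast h1
  have h2' : (v.x.n1 : ℝ) + v.y.n1 + v.z.n1 = 0 := by exact_mod_cast h2
  linear_combination h1' / 4 + h2' * tau / 4

theorem ph_ip (v w : V3) : ph (v.ip w) = (2 : ℝ) • qip (Ph v) (Ph w) := by
  simp only [V3.ip, ph_add, ph_mul, ph_st, qip_eq, Ph0, Ph1, Ph2, smul_add]

theorem Ph_lm (u : Z8) (v : V3) : Ph (V3.lm u v) = (2 : ℝ) • ph u • Ph v := V_ext (ph_mul _ _) (ph_mul _ _) (ph_mul _ _)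
theorem Ph_sm (k : ℤ) (v : V3) : Ph (v.sm k) = (k : ℝ) • Ph v := V_ext (ph_sm _ _) (ph_sm _ _) (ph_sm _ _)
theorem Ph_sub (v w : V3) : Ph (v.sub w) = Ph v - Ph w := V_ext (ph_sub _ _) (ph_sub _ _) (ph_sub _ _)

theorem Ph_refl (r x : V3) : Ph (V3.lm (x.ip r) r) = (8 : ℝ) • (Ph x - qrefl (Ph r) (Ph x)) := by
  rw [Ph_lm, ph_ip, qrefl_eq, sub_sub_cancel, smul_assoc, smul_assoc, smul_smul, smul_smul]; norm_num

theorem IsU.ok {u : Z8} (h : IsU u) : ph u ∈ icosians ∧ normSq (ph u) = 1 :=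
  ⟨ph_mem.2 h.1, by rw [normSq_ph, h.2.1, h.2.2]; norm_num⟩

theorem norm_eq {c d : Z8} (h : normSq (ph c) = normSq (ph d)) : c.n0 = d.n0 ∧ c.n1 = d.n1 := by
  rw [normSq_ph, normSq_ph] at h
  exact tau_inj (by linarith)

noncomputable def rv (i : ℕ) : V := Ph (R i)

theorem rv_min {i : ℕ} (h : i < 315) : rv i ∈ Min := Ph_min.2 (R_ok i h)

theorem gi_lt {j : ℕ} (h : j < 4) : gi j < 315 := (by decide : ∀ j < 4, gi j < 315) j h

theorem rv_refl {j c : ℕ} (hj : j < 4) (hc : c < 315) :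
    T j c < 315 ∧ ∃ u ∈ icosians, normSq u = 1 ∧ qrefl (rv (gi j)) (rv c) = u • rv (T j c) := by
  obtain ⟨h1, h2, h3⟩ := T_ok j hj c hc
  refine ⟨h1, _, h2.ok.1, h2.ok.2, smul_right_injective _ (show (8 : ℝ) ≠ 0 by norm_num) ?_⟩
  have := congrArg Ph h3
  rw [Ph_sub, Ph_sm, Ph_sm, Ph_refl, Ph_lm, smul_smul, smul_sub] at this
  simp only [rv]
  rw [show (8 : ℝ) = (4 : ℤ) * 2 by norm_num, ← this]
  push_cast
  module

theorem rf_inj : Inj (fun i => rf (rv i)) 315 := Inj.of_key key (fun i hi j hj h => by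
  have hX : Ph X0 ∈ icoLeech := Ph_mem.2 (by decide +kernel)
  have e := congrArg (fun f : Equiv.Perm icoLeech => (f ⟨_, hX⟩ : V)) h
  simp only [rf_apply (rv_min hi), rf_apply (rv_min hj)] at e
  simp only [rv] at e
  rw [key, key, Ph_inj (show Ph (V3.lm (X0.ip (R i)) (R i)) = Ph (V3.lm (X0.ip (R j)) (R j)) by rw [Ph_refl, Ph_refl, e])])
  fun i hi => key_ok i (by omega)

def M0 (s : V) : Prop := ∃ i < 315, ∃ u ∈ icosians, normSq u = 1 ∧ s = u • rv i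

theorem M0.smul {s : V} {u : ℍ[ℝ]} (h : u ∈ icosians) (hu : normSq u = 1) (hs : M0 s) : M0 (u • s) := by
  obtain ⟨i, hi, v, hv, hv', rfl⟩ := hs
  exact ⟨i, hi, u * v, mul_mem h hv, by rw [map_mul, hu, hv', one_mul], smul_smul _ _ _⟩

theorem M0.of_smul {s : V} {u : ℍ[ℝ]} (h : u ∈ icosians) (hu : normSq u = 1) (hs : M0 (star u • s)) : M0 s := by
  have := hs.smul h hu
  rwa [smul_smul, Quaternion.self_mul_star, hu, Quaternion.coe_one, one_smul] at this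

theorem M0.refl {s : V} {j : ℕ} (hj : j < 4) (hs : M0 s) : M0 (qrefl (rv (gi j)) s) := by
  obtain ⟨i, hi, v, hv, hv', rfl⟩ := hs
  obtain ⟨h1, u, h2, h3, e⟩ := rv_refl hj hi
  rw [qrefl_smul, e]
  exact M0.smul hv hv' ⟨_, h1, u, h2, h3, rfl⟩

theorem M0.of_R {v : V3} (h : memR v = true) : M0 (Ph v) := by
  obtain ⟨i, hi, rfl⟩ := memR_ok h
  exact ⟨i, hi, 1, one_mem _, map_one _, (one_smul _ _).symm⟩

theorem ph_nh : ph (zero.sub hh) = -icoH := by rw [ph_sub, ph_zero, ph_hh, zero_sub]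

theorem rv_g0 : rv (gi 0) = ![icoH, -icoH, 0] := by
  rw [rv, show R (gi 0) = ⟨hh, zero.sub hh, zero⟩ by decide +kernel, Ph, ph_hh, ph_nh, ph_zero]
theorem rv_g1 : rv (gi 1) = ![0, icoH, -icoH] := by
  rw [rv, show R (gi 1) = ⟨zero, hh, zero.sub hh⟩ by decide +kernel, Ph, ph_hh, ph_nh, ph_zero]
theorem ph_two : ph (sm 2 one) = 2 := by rw [ph_sm, ph_one]; ext <;> simp <;> rfl
theorem rv_g2 : rv (gi 2) = ![2, 0, 0] := by
  rw [rv, show R (gi 2) = ⟨sm 2 one, zero, zero⟩ by decide +kernel, Ph, ph_two, ph_zero]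

theorem half_hh (a : ℍ[ℝ]) : (1 / 2 : ℝ) • (a * star icoH * icoH) = a := by
  rw [mul_assoc, star_hh_mul, show (2 : ℍ[ℝ]) = (2 : ℝ) • 1 by ext <;> simp <;> rfl, mul_smul_comm, smul_smul]
  norm_num

theorem sw0 (x : V) : qrefl (rv (gi 0)) x = ![x 1, x 0, x 2] := by
  have : qip x ![icoH, -icoH, 0] = (x 0 - x 1) * star icoH := by simp [qip_eq, sub_mul, sub_eq_add_neg, add_mul]
  rw [rv_g0]
  apply V_ext <;> simp only [qrefl, this] <;> simp [-one_div, half_hh]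

theorem sw1 (x : V) : qrefl (rv (gi 1)) x = ![x 0, x 2, x 1] := by
  have : qip x ![0, icoH, -icoH] = (x 1 - x 2) * star icoH := by simp [qip_eq, sub_mul, sub_eq_add_neg, add_mul]
  rw [rv_g1]
  apply V_ext <;> simp only [qrefl, this] <;> simp [-one_div, half_hh]

def Cl (v : V3) : Prop := Ph v ∈ Min → M0 (Ph v)

theorem Cl.s0 {x y z : Z8} (h : Cl ⟨y, x, z⟩) : Cl ⟨x, y, z⟩ := fun hm => by
  have := (h (by simpa [sw0, Ph] using Min.refl (rv_min (gi_lt (j := 0) (by norm_num))) hm)).refl (j := 0) (by norm_num)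
  rwa [sw0] at this

theorem Cl.s1 {x y z : Z8} (h : Cl ⟨x, z, y⟩) : Cl ⟨x, y, z⟩ := fun hm => by
  have := (h (by simpa [sw1, Ph] using Min.refl (rv_min (gi_lt (j := 1) (by norm_num))) hm)).refl (j := 1) (by norm_num)
  rwa [sw1] at this

theorem clA (x : Z8) : Cl ⟨x, zero, zero⟩ := fun hm => by
  obtain ⟨a, ha, b, hb, c, hc, e0, e1, e2⟩ := L_param hm.1
  simp only [Ph0, Ph1, Ph2, ph_zero] at e0 e1 e2
  have hb0 : b = 0 := by
    have : b * icoH = 0 := by rw [sub_mul, add_sub_left_comm, ← e2, add_zero] at e1; exact e1.symm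
    exact (mul_eq_zero.1 this).resolve_right fun h => by simpa [h] using normSq_hh
  have e3 : c * star icoH = a * icoH := sub_eq_zero.1 e2.symm
  have ht : ph ⟨0, 2, 0, 0, 0, 0, 0, 0⟩ ∈ icosians := ph_mem.2 (by decide)
  have e4 : star icoH = 1 - icoH - ph ⟨0, 2, 0, 0, 0, 0, 0, 0⟩ * (star icoH * icoH) := by
    rw [star_hh_mul, ← ph_hh, mul_two]; ext <;> simp [hh] <;> ring
  generalize ph ⟨0, 2, 0, 0, 0, 0, 0, 0⟩ = t at ht e4
  have e5 : c = (a + c + c * t * star icoH) * icoH := by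
    rw [add_mul, add_mul, ← e3]; nth_rw 1 [e4]; noncomm_ring
  have hd : a + c + c * t * star icoH ∈ icosians := add_mem (add_mem ha hc) (mul_mem (mul_mem hc ht) (star_mem_ico hh_mem))
  generalize a + c + c * t * star icoH = d at e5 hd
  have e6 : Ph ⟨x, zero, zero⟩ = d • rv (gi 2) := by
    rw [rv_g2]
    apply V_ext <;> simp [ph_zero, e0, hb0, e5, mul_assoc, hh_mul_star]
  refine ⟨_, gi_lt (by norm_num), d, hd, ?_, e6⟩
  have := hm.2
  rw [e6, qip_smul, qip_smul', (rv_min (gi_lt (by norm_num))).2, show (4 : ℍ[ℝ]) = (4 : ℝ) • 1 by ext <;> simp <;> rfl,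
    smul_mul_assoc, mul_smul_comm, one_mul, Quaternion.self_mul_star] at this
  exact Quaternion.coe_injective (smul_right_injective _ (show (4 : ℝ) ≠ 0 by norm_num) this)

theorem sub_zero' (c : Z8) : c.sub zero = c := by ext <;> simp [sub, zero]

theorem clD {x y : Z8} (h : y.n0 = 4) : Cl ⟨x, y, zero⟩ := fun hm => by
  obtain ⟨⟨h1, -, h2, -⟩, -⟩ := Ph_min.1 hm
  exact absurd (sub_zero' y ▸ h2) (E1 y h h1.2.1).2.1

theorem exists_norm {s : V} (hs : s ∈ Min) {u : ℍ[ℝ]} (h : u ∈ icosians) (hu : normSq u = 1) :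
    ∃ v : V3, Ph v = star u • s ∧ v.IsM := by
  have := Min.smul (star_mem_ico h) (by rw [normSq_star, hu]) hs
  obtain ⟨v, e⟩ := exists_Ph this.1
  exact ⟨v, e, Ph_min.1 (e ▸ this)⟩

theorem clB {x y : Z8} (h : x.n0 = 8) : Cl ⟨x, y, zero⟩ := fun hm => by
  obtain ⟨⟨h1, -, h2, -⟩, h3, h4⟩ := Ph_min.1 hm
  have z0 : zero.n0 = 0 := rfl
  have z1 : zero.n1 = 0 := rfl
  have hy := ((E2 y (by simp only at h3; push_cast; omega) h1.2.1).2.1 (sub_zero' y ▸ h2)).1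
  have hx : ph x ∈ leftIdeal icoH := by simpa [ph_zero] using ideal_add hm.1.2.1 hm.1.2.2.1
  have hx' := ((E2 x h h1.1).2.1 ((ph_ideal nq1).1 (ph_hh ▸ hx))).1
  obtain ⟨a, ha, e⟩ := hx
  have hn : normSq a = 1 := by
    have := normSq_ph x
    rw [e, map_mul, normSq_hh, h, show x.n1 = 0 by simp only at h4; omega] at this
    push_cast at this; linarith
  obtain ⟨⟨x', y', z'⟩, e', ⟨k1, -, k2, k3⟩, k4, k5⟩ := exists_norm hm ha hn
  obtain rfl : x' = hh := ph_inj (by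
    simpa [e, ← mul_assoc, Quaternion.star_mul_self, hn, ph_hh] using congrFun e' 0)
  obtain rfl : z' = zero := ph_inj (by simpa [ph_zero] using congrFun e' 2)
  have h0 : hh.n0 = 8 := rfl
  have h1 : hh.n1 = 0 := rfl
  refine M0.of_smul ha hn (e' ▸ M0.of_R ?_)
  exact ((E2 y' (by simp only at k4; push_cast; omega) k1.2.1).2.1 (sub_zero' y' ▸ k2)).2 (by simp only at k5; omega) k3

theorem clC0 {x z : Z8} (h : x.n0 = 8) : Cl ⟨x, one, z⟩ := fun hm => by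
  obtain ⟨⟨h1, h2, h3, h4⟩, h5, h6⟩ := Ph_min.1 hm
  have h0 : one.n0 = 4 := rfl
  have h0' : one.n1 = 0 := rfl
  have hz := (E1 z (by simp only at h5; push_cast; omega) h1.2.2).2.2 h3
  exact M0.of_R (of_decide_eq_true (List.all_eq_true.1 ((E2 x h h1.1).2.2 h2) z hz) (by simp only at h6; omega) h4)

theorem clC1 {x y z : Z8} (h : x.n0 = 8) (h0 : y.n0 = 4) (h1 : y.n1 = 0) : Cl ⟨x, y, z⟩ := fun hm => by
  obtain ⟨ha, hn⟩ := IsU.ok ⟨(Ph_min.1 hm).1.1.2.1, h0, h1⟩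
  obtain ⟨⟨x', y', z'⟩, e', k⟩ := exists_norm hm ha hn
  obtain rfl : y' = one := ph_inj (by simpa [Quaternion.star_mul_self, hn, ph_one] using congrFun e' 1)
  refine M0.of_smul ha hn (e' ▸ clC0 ?_ (Ph_min.2 k))
  rw [← h]
  refine (norm_eq ?_).1
  have := congrFun e' 0
  simp only [Ph0, Pi.smul_apply, smul_eq_mul] at this
  rw [this, map_mul, normSq_star, hn, one_mul]

theorem clC {x y z : Z8} (h : x.n0 = 8) (h0 : y.n0 = 4) : Cl ⟨x, y, z⟩ := fun hm => by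
  obtain ⟨⟨h1, -⟩, h5, h6⟩ := Ph_min.1 hm
  simp only at h5 h6
  have hz : z.n0 = 4 := by omega
  have a1 := (E2 x h h1.1).1
  have a2 := (E1 y h0 h1.2.1).1
  have a3 := (E1 z hz h1.2.2).1
  by_cases h2 : y.n1 = 0
  · exact clC1 h h0 h2 hm
  · exact (clC1 h hz (by omega)).s1 hm

theorem clZ (x y : Z8) : Cl ⟨x, y, zero⟩ := fun hm => by
  obtain ⟨⟨h1, -⟩, h5, -⟩ := Ph_min.1 hm
  have z0 : zero.n0 = 0 := rfl
  have a1 := h1.1.n0
  have a2 := n0_nonneg x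
  have a3 := n0_nonneg y
  simp only at h5 a1
  rcases (by omega : y.n0 = 0 ∨ y.n0 = 4 ∨ x.n0 = 8 ∨ x.n0 = 4 ∨ x.n0 = 0) with h | h | h | h | h
  · obtain rfl := eq_zero h; exact clA x hm
  · exact clD h hm
  · exact clB h hm
  · exact (clD h).s0 hm
  · obtain rfl := eq_zero h; exact (clA y).s0 hm

theorem min_cls {s : V} (hs : s ∈ Min) : M0 s := by
  obtain ⟨⟨x, y, z⟩, rfl⟩ := exists_Ph hs.1
  obtain ⟨⟨h1, -⟩, h5, -⟩ := Ph_min.1 hs
  have a1 := h1.1.n0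
  have a1' := h1.2.1.n0
  have a2 := n0_nonneg x
  have a3 := n0_nonneg y
  have a4 := n0_nonneg z
  simp only at h5 a1 a1'
  rcases (by omega : z.n0 = 0 ∨ y.n0 = 0 ∨ x.n0 = 0 ∨ (x.n0 = 8 ∧ y.n0 = 4) ∨ (y.n0 = 8 ∧ x.n0 = 4) ∨ (z.n0 = 8 ∧ x.n0 = 4))
    with h | h | h | h | h | h
  · obtain rfl := eq_zero h; exact clZ x y hs
  · obtain rfl := eq_zero h; exact (clZ x z).s1 hs
  · obtain rfl := eq_zero h; exact (clZ y z).s1.s0 hs
  · exact clC h.1 h.2 hs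
  · exact (clC h.1 h.2).s0 hs
  · exact (clC h.1 h.2).s0.s1 hs

theorem refl_eq : {f : Equiv.Perm icoLeech | IsIcoReflection f} = (fun i => rf (rv i)) '' Set.Iio 315 := by
  ext f
  rw [Set.mem_setOf_eq, isRefl_iff]
  constructor
  · rintro ⟨r, hr, rfl⟩
    obtain ⟨i, hi, u, h1, h2, rfl⟩ := min_cls hr
    exact ⟨i, hi, (rf_unit h1 h2 (rv_min hi)).symm⟩
  · rintro ⟨i, hi, rfl⟩
    exact ⟨_, rv_min hi, rfl⟩

theorem ncard_refl : {f : Equiv.Perm icoLeech | IsIcoReflection f}.ncard = 315 := by rw [refl_eq, rf_inj.ncard_Iio]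

theorem un_inj : Inj (fun i => ph (un i)) 120 := Inj.of_key (fun i => (kz (un i) + 18446744073709551616).toNat)
  (fun i _ j _ h => by rw [ph_inj h]) fun i hi => by simpa using (un_ok i (by omega)).2.resolve_left (by omega)

theorem rv_ne {i : ℕ} (h : i < 315) : rv i ≠ 0 := fun e => by
  have := (rv_min h).2
  rw [e, qip_self, show (4 : ℍ[ℝ]) = ((4 : ℝ) : ℍ[ℝ]) from rfl, Quaternion.coe_inj] at this
  simp at this

theorem line_inj {i j : ℕ} (hi : i < 315) (hj : j < 315) {u v : ℍ[ℝ]} (h1 : u ∈ icosians) (h2 : normSq u = 1)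
    (h3 : v ∈ icosians) (h4 : normSq v = 1) (e : u • rv i = v • rv j) : i = j ∧ u = v := by
  obtain rfl : i = j := rf_inj i hi j hj (by
    show rf _ = rf _
    rw [← rf_unit h1 h2 (rv_min hi), e, rf_unit h3 h4 (rv_min hj)])
  exact ⟨rfl, smul_left_injective _ (rv_ne hi) e⟩

theorem ncard_min : Min.ncard = 37800 := by
  have : Min = (fun p : ℕ × ℕ => ph (un p.1) • rv p.2) '' (Finset.range 120 ×ˢ Finset.range 315 : Finset (ℕ × ℕ)) := by
    ext s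
    simp only [Set.mem_image, Finset.mem_coe, Finset.mem_product, Finset.mem_range, Prod.exists]
    constructor
    · intro hs
      obtain ⟨i, hi, u, h1, h2, rfl⟩ := min_cls hs
      obtain ⟨c, hc, rfl⟩ := mem_ico.1 h1
      have := norm_eq (c := c) (d := one) (by rw [h2, ph_one, map_one])
      obtain ⟨k, hk, rfl⟩ := memU_ok ((E1 c this.1 hc).1.resolve_right (by rw [this.2]; decide)).2
      exact ⟨k, i, ⟨hk, hi⟩, rfl⟩
    · rintro ⟨k, i, ⟨hk, hi⟩, rfl⟩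
      exact Min.smul (un_ok k hk).1.ok.1 (un_ok k hk).1.ok.2 (rv_min hi)
  rw [this, Set.InjOn.ncard_image, Set.ncard_coe_finset]
  · simp
  · rintro ⟨k, i⟩ h ⟨l, j⟩ h' e
    simp only [Finset.mem_coe, Finset.mem_product, Finset.mem_range] at h h'
    obtain ⟨h1, h2⟩ := line_inj h.2 h'.2 (un_ok k h.1).1.ok.1 (un_ok k h.1).1.ok.2 (un_ok l h'.1).1.ok.1 (un_ok l h'.1).1.ok.2 e
    rw [un_inj k h.1 l h'.1 h2, h1]

end Cfsg.Agent.J2
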