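import Cfsg.Agent.Lib.J2.KSub

/-! Permutations of prime order and invariant uniform partitions. -/

set_option autoImplicit false
set_option linter.unusedSectionVars false
set_option linter.unusedVariables false

namespace Cfsg.Agent.Part

open Equiv Equiv.Perm Finset

theorem arith {a b r a' l b' k : ℕ} (ha : a = r * a' + l) (hb : b = r * b' + k) (hl : l < r) (hk : k < r) :
    (∀ c, 1 ≤ c → c * r ≤ a * b → ∃ t ≤ b', t * a ≤ c ∧ c ≤ b * a' + t * l) ↔
      k * l < r ∧ (l = 0 ∨ b' = 0 ∨ l ≤ k * a' + 1) := by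
  have e : a * b = (b * a' + b' * l) * r + k * l := by subst ha hb; ring
  constructor
  · intro H
    constructor
    · by_contra h
      obtain ⟨t, ht, -, h2⟩ := H (b * a' + b' * l + 1) (by omega) (by rw [e, add_mul _ 1]; omega)
      have := Nat.mul_le_mul_right l ht
      omega
    · by_contra! h
      obtain ⟨h1, h2, h3⟩ := h
      obtain ⟨s, rfl⟩ : ∃ s, b' = s + 1 := ⟨b' - 1, by omega⟩
      obtain ⟨t, ht, h4, h5⟩ := H (b * a' + s * l + 1) (by omega) (by
        rw [e]
        exact (Nat.mul_le_mul_right r (by rw [add_mul s]; omega)).trans (Nat.le_add_right _ _))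
      have : s < t := lt_of_mul_lt_mul_right (show s * l < t * l by omega) (Nat.zero_le _)
      obtain rfl : t = s + 1 := by omega
      have e2 : (s + 1) * a + k * a' = b * a' + s * l + l := by subst ha hb; ring
      omega
  · rintro ⟨h1, h2⟩ c c1 hc
    have hc' : c ≤ b * a' + b' * l := by
      have : c * r < (b * a' + b' * l + 1) * r := by rw [add_mul _ 1]; omega
      exact Nat.lt_succ_iff.1 (lt_of_mul_lt_mul_right this (Nat.zero_le _))
    classical
    have ex : ∃ t, c ≤ b * a' + t * l := ⟨b', hc'⟩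
    refine ⟨Nat.find ex, Nat.find_min' ex hc', ?_, Nat.find_spec ex⟩
    have m1 := Nat.find_min' ex hc'
    have m2 := Nat.find_spec ex
    rcases h : Nat.find ex with _ | s
    · simp
    · have m3 := Nat.find_min ex (m := s) (by omega)
      rw [h] at m1 m2
      have e2 : (s + 1) * a = (s + 1) * (r * a') + s * l + l := by subst ha; ring
      have e3 : b * a' = b' * (r * a') + k * a' := by subst hb; ring
      have e4 := Nat.mul_le_mul_right (r * a') m1
      rcases h2 with rfl | rfl | h2 <;> omega

theorem id1 {a b r t u : ℕ} (h : u + t * r = b) : t * a + u * (a / r) = b * (a / r) + t * (a % r) := by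
  nth_rewrite 1 [← Nat.div_add_mod a r]
  rw [← h]
  ring

theorem id2 {a b r t u : ℕ} (h : u + t * r = b) : a * b = u * a + t * a * r := by rw [← h]; ring

theorem id3 {a b r t u : ℕ} (h : u + t * r = b) : a * b = (b * (a / r) + t * (a % r)) * r + u * (a % r) := by
  nth_rewrite 1 [← Nat.div_add_mod a r]
  rw [← h]
  ring

theorem distr {ι : Type*} [DecidableEq ι] (M : ℕ) (s : Finset ι) : ∀ X ≤ #s * M,
    ∃ x : ι → ℕ, (∀ j, x j ≤ M) ∧ (∀ j ∉ s, x j = 0) ∧ ∑ j ∈ s, x j = X := by
  induction s using Finset.induction_on with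
  | empty => exact fun X h => ⟨0, fun _ => Nat.zero_le _, fun _ _ => rfl, by simpa [eq_comm] using h⟩
  | insert i s hi ih =>
    intro X h
    rw [card_insert_of_notMem hi, add_mul, one_mul] at h
    obtain ⟨x, h1, h2, h3⟩ := ih (X - M) (by omega)
    refine ⟨Function.update x i (min X M), fun j => ?_, fun j hj => ?_, ?_⟩
    · rcases eq_or_ne j i with rfl | e
      · simp
      · rw [Function.update_of_ne e]
        exact h1 j
    · rw [mem_insert, not_or] at hj
      rw [Function.update_of_ne hj.1, h2 j hj.2]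
    · rw [sum_insert hi, Function.update_self, sum_congr rfl fun j hj =>
        Function.update_of_ne (fun e : j = i => hi (e ▸ hj)) _ _, h3]
      omega

theorem model {r : ℕ} (hr : r.Prime) (n c : ℕ) (h : c * r ≤ n) : ∃ σ : Perm (Fin n), σ ^ r = 1 ∧ #σ.support = c * r := by
  haveI := Fact.mk hr
  obtain ⟨σ, hσ⟩ := (exists_with_cycleType_iff (Fin n) (m := Multiset.replicate c r)).2
    ⟨by simpa using h, fun a ha => by rw [Multiset.eq_of_mem_replicate ha]; exact hr.two_le⟩
  exact ⟨σ, pow_prime_eq_one_iff.2 fun c hc => Multiset.eq_of_mem_replicate (hσ ▸ hc), by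
    rw [← sum_cycleType, hσ, Multiset.sum_replicate, smul_eq_mul]⟩

theorem conj {α β : Type*} [Fintype α] [DecidableEq α] [Fintype β] [DecidableEq β] (e : β ≃ α) {r : ℕ} (hr : r.Prime)
    {σ : Perm α} {τ : Perm β} (h1 : σ ^ r = 1) (h2 : τ ^ r = 1) (h : #σ.support = #τ.support) :
    ∃ g : α ≃ β, ∀ x, g (σ x) = τ (g x) := by
  haveI := Fact.mk hr
  have p : e.permCongr τ ^ r = 1 := by
    have := map_pow e.permCongrHom τ r
    rw [h2, map_one] at this
    exact this.symm
  have s : #τ.support = #(e.permCongr τ).support := card_equiv e fun x => by simp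
  have : IsConj σ (e.permCongr τ) := isConj_iff_cycleType_eq.2 (by
    have a := KSub.card_supp hr h1
    have b := KSub.card_supp hr p
    rw [cycleType_of_pow_prime_eq_one h1, cycleType_of_pow_prime_eq_one p, cycleType_def, cycleType_def, Multiset.card_map,
      Multiset.card_map]
    exact congrArg (Multiset.replicate · r) (Nat.eq_of_mul_eq_mul_right hr.pos (a.symm.trans ((h.trans s).trans b))))
  obtain ⟨u, hu⟩ := isConj_iff.1 this
  refine ⟨u.trans e.symm, fun x => ?_⟩
  have := congrArg (fun t : Perm α => e.symm (t (u x))) hu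
  simpa using this

theorem build {a b r : ℕ} (hr : r.Prime) {σ : Perm (Fin (a * b))} (h : σ ^ r = 1) {c t : ℕ} (hc : #σ.support = c * r)
    (ht : t * r ≤ b) (h1 : t * a ≤ c) (h2 : c ≤ b * (a / r) + t * (a % r)) :
    ∃ f : Fin (a * b) → Fin b, (∀ j : Fin b, Nat.card {x : Fin (a * b) // f x = j} = a) ∧
      ∃ π : Equiv.Perm (Fin b), ∀ x : Fin (a * b), f (σ x) = π (f x) := by
  obtain ⟨π, p1, p2⟩ := model hr b t ht
  have cu : #π.supportᶜ + t * r = b := by rw [← p2, card_compl_add_card, Fintype.card_fin]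
  obtain ⟨x, x1, x2, x3⟩ := distr (a / r) π.supportᶜ (c - t * a) (by
    have e := id1 (a := a) cu
    omega)
  choose ρ r1 r2 using fun j => model hr a (x j) ((Nat.mul_le_mul_right r (x1 j)).trans (Nat.div_mul_le_self a r))
  have r0 : ∀ j ∈ π.support, ρ j = 1 := fun j hj => by
    have := r2 j
    rwa [x2 j (by simpa using hj), zero_mul, card_eq_zero, support_eq_empty_iff] at this
  have r3 : ∀ j, ρ (π j) = ρ j := fun j => by
    by_cases hj : j ∈ π.support
    · rw [r0 j hj, r0 _ (apply_mem_support.2 hj)]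
    · rw [notMem_support.1 hj]
  let τ : Perm (Fin b × Fin a) := Equiv.prodShear π ρ
  have tp : ∀ n : ℕ, ∀ j y, (τ ^ n) (j, y) = ((π ^ n) j, (ρ j ^ n) y) := fun n => by
    induction n with
    | zero => exact fun _ _ => rfl
    | succ n ih =>
      intro j y
      rw [pow_succ, Perm.mul_apply, show τ (j, y) = (π j, ρ j y) from rfl, ih, r3, pow_succ, pow_succ]
      rfl
  have t1 : τ ^ r = 1 := Equiv.ext fun ⟨j, y⟩ => by rw [tp, p1, r1]; rfl
  have t2 : #τ.support = c * r := by
    have : #τ.support = ∑ j, if j ∈ π.support then a else x j * r := by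
      rw [support, card_filter, Fintype.sum_prod_type]
      refine sum_congr rfl fun j _ => ?_
      split_ifs with hj
      · have : ∀ y, τ (j, y) ≠ (j, y) := fun y e => mem_support.1 hj (congrArg Prod.fst e)
        simp [this]
      · rw [← r2, support, card_filter]
        refine sum_congr rfl fun y _ => if_congr (not_congr ?_) rfl rfl
        show (π j, ρ j y) = (j, y) ↔ _
        rw [notMem_support.1 hj, Prod.mk.injEq]
        simp
    rw [this, ← sum_add_sum_compl π.support, sum_congr rfl fun j hj => if_pos hj,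
      sum_congr rfl fun j hj => if_neg (mem_compl.1 hj), sum_const, smul_eq_mul, ← sum_mul, x3, p2, mul_right_comm, ← add_mul,
      Nat.add_sub_cancel' h1]
  obtain ⟨g, hg⟩ := conj (finProdFinEquiv.trans (finCongr (mul_comm b a))) hr h t1 (hc.trans t2.symm)
  refine ⟨fun y => (g y).1, fun j => ?_, π, fun y => by simp only [hg]; rfl⟩
  refine (Nat.card_congr ?_).trans (Nat.card_fin a)
  exact
    { toFun := fun y => (g y.1).2
      invFun := fun z => ⟨g.symm (j, z), by simp⟩
      left_inv := fun y => Subtype.ext (by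
        have : (j, (g y.1).2) = g y.1 := Prod.ext y.2.symm rfl
        simp only [this, symm_apply_apply])
      right_inv := fun z => by simp }

theorem analyse {a b r : ℕ} (ha : 0 < a) (hr : r.Prime) {σ : Perm (Fin (a * b))} (h : σ ^ r = 1) {c : ℕ}
    (hc : #σ.support = c * r) (f : Fin (a * b) → Fin b) (hf : ∀ j : Fin b, Nat.card {x : Fin (a * b) // f x = j} = a)
    (π : Equiv.Perm (Fin b)) (hπ : ∀ x : Fin (a * b), f (σ x) = π (f x)) :
    ∃ t ≤ b / r, t * a ≤ c ∧ c ≤ b * (a / r) + t * (a % r) := by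
  haveI := Fact.mk hr
  have cf : ∀ j, #{x | f x = j} = a := fun j =>
    ((Nat.card_eq_fintype_card.trans (Fintype.card_subtype _)).symm).trans (hf j)
  have pw : ∀ n : ℕ, ∀ x, f ((σ ^ n) x) = (π ^ n) (f x) := fun n x => by
    induction n with
    | zero => rfl
    | succ n ih => rw [pow_succ', pow_succ', Perm.mul_apply, Perm.mul_apply, hπ, ih]
  have p1 : π ^ r = 1 := Equiv.ext fun j => by
    obtain ⟨x, hx⟩ := card_pos.1 ((cf j).symm ▸ ha)
    rw [← (mem_filter.1 hx).2, ← pw, h]
    rfl
  have p2 := KSub.card_supp hr p1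
  set t := #π.cycleFactorsFinset
  have cu : #π.supportᶜ + t * r = b := by rw [← p2, card_compl_add_card, Fintype.card_fin]
  have cs : #σ.supportᶜ + c * r = a * b := by rw [← hc, card_compl_add_card, Fintype.card_fin]
  have sm : #σ.supportᶜ = ∑ j ∈ π.supportᶜ, #{x ∈ σ.supportᶜ | f x = j} := card_eq_sum_card_fiberwise fun x hx => by
    have : σ x = x := by simpa using hx
    simp [← hπ, this]
  have up : #σ.supportᶜ ≤ #π.supportᶜ * a := by
    rw [sm]
    exact sum_le_card_nsmul _ _ _ fun j _ => (card_le_card (filter_subset_filter _ (subset_univ _))).trans_eq (cf j)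
  have lo : #π.supportᶜ * (a % r) ≤ #σ.supportᶜ := by
    rw [sm]
    refine card_nsmul_le_sum _ _ _ fun j hj => ?_
    have hj' : π j = j := by simpa using hj
    have hi : ∀ x, f (σ x) = j ↔ f x = j := fun x => by
      rw [hπ]
      exact ⟨fun e => π.injective (e.trans hj'.symm), fun e => e ▸ e.symm ▸ hj'⟩
    let τ : Perm {x // f x = j} := σ.subtypePerm hi
    have ht : τ ^ r ^ 1 = 1 := by
      rw [pow_one, subtypePerm_pow]
      ext x
      simp [h]
    have m := card_compl_support_modEq ht
    rw [← Nat.card_eq_fintype_card, hf] at m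
    refine (m.symm ▸ Nat.mod_le _ _ : a % r ≤ #τ.supportᶜ).trans
      (card_le_card_of_injOn Subtype.val (fun x hx => ?_) Subtype.val_injective.injOn)
    simp only [coe_compl, Set.mem_compl_iff, mem_coe, mem_support, not_not, coe_filter, mem_compl, Set.mem_setOf_eq] at hx ⊢
    exact ⟨congrArg Subtype.val hx, x.2⟩
  refine ⟨t, (Nat.le_div_iff_mul_le hr.pos).2 (by omega), Nat.le_of_mul_le_mul_right ?_ hr.pos,
    Nat.le_of_mul_le_mul_right ?_ hr.pos⟩
  · have := id2 (a := a) cu
    omega
  · have := id3 (a := a) cu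
    omega

theorem main (a b : ℕ) (ha : 2 ≤ a) (hb : 2 ≤ b) (r : ℕ) (hr : r.Prime)
    (hrd : r ∣ (a * b).factorial / (a.factorial ^ b * b.factorial)) :
    (∀ σ : Equiv.Perm (Fin (a * b)), orderOf σ = r →
        ∃ f : Fin (a * b) → Fin b, (∀ j : Fin b, Nat.card {x : Fin (a * b) // f x = j} = a) ∧
          ∃ π : Equiv.Perm (Fin b), ∀ x : Fin (a * b), f (σ x) = π (f x)) ↔
      (r ≤ a ∧ (a % r = 0 ∨ (b % r = 0 ∧ a % r = 1) ∨
        (a % r ≠ 0 ∧ b % r ≠ 0 ∧ (b % r) * (a % r) < r ∧ (b < r ∨ (b % r + r) * (a % r) ≤ (b % r) * a + r)))) := by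
  haveI := Fact.mk hr
  have hpos : a.factorial ^ b * b.factorial ∣ (a * b).factorial :=
    ⟨Nat.uniformBell b a, by rw [mul_comm a b, ← Nat.uniformBell_mul_eq b (show a ≠ 0 by omega)]; ring⟩
  have hab : r ≤ a * b := hr.dvd_factorial.1 (hrd.trans (Nat.div_dvd_of_dvd hpos))
  have ea := (Nat.div_add_mod a r).symm
  have eb := (Nat.div_add_mod b r).symm
  have hl := Nat.mod_lt a hr.pos
  have hk := Nat.mod_lt b hr.pos
  refine Iff.trans ?_ ((arith ea eb hl hk).trans ?_)
  · constructor
    · intro H c c1 hc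
      obtain ⟨σ, s1, s2⟩ := model hr _ c hc
      obtain ⟨f, hf, π, hπ⟩ := H σ (orderOf_eq_prime s1 fun e => by
        rw [e, support_one, card_empty] at s2
        exact (Nat.mul_pos c1 hr.pos).ne s2)
      exact analyse (by omega) hr s1 s2 f hf π hπ
    · intro H σ hσ
      have h1 : σ ^ r = 1 := hσ ▸ pow_orderOf_eq_one σ
      have h2 := KSub.card_supp hr h1
      obtain ⟨t, t1, t2, t3⟩ := H _ (Nat.pos_of_ne_zero fun e => by
        rw [e, zero_mul, card_eq_zero, support_eq_empty_iff] at h2
        rw [h2, orderOf_one] at hσ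
        exact hr.one_lt.ne hσ) (h2 ▸ (card_le_univ _).trans_eq (Fintype.card_fin _))
      exact build hr h1 h2 ((Nat.le_div_iff_mul_le hr.pos).1 t1) t2 t3
  · have r2 := hr.two_le
    generalize a / r = a' at *
    generalize b / r = b' at *
    generalize a % r = l at *
    generalize b % r = k at *
    have key : (k + r) * l ≤ k * a + r ↔ l ≤ k * a' + 1 := by
      rw [show k * a + r = k * l + r * (k * a' + 1) by rw [ea]; ring, add_mul, Nat.add_le_add_iff_left,
        Nat.mul_le_mul_left_iff hr.pos]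
    have hb' : b < r ↔ b' = 0 := ⟨fun h => by
      by_contra h0
      have := Nat.mul_le_mul_left r (Nat.pos_of_ne_zero h0)
      omega, fun h => by rw [h] at eb; omega⟩
    rw [key, hb']
    constructor
    · rintro ⟨h1, h2⟩
      refine ⟨?_, ?_⟩
      · by_contra hlt
        obtain rfl : a' = 0 := by
          by_contra h0
          have := Nat.mul_le_mul_left r (Nat.pos_of_ne_zero h0)
          omega
        obtain rfl : a = l := by omega
        obtain rfl : b' = 0 := by omega
        obtain rfl : b = k := by omega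
        rw [mul_comm] at h1
        omega
      · by_cases l0 : l = 0
        · exact .inl l0
        by_cases k0 : k = 0
        · subst k0
          refine .inr (.inl ⟨rfl, ?_⟩)
          rcases h2 with h | h | h
          · omega
          · subst h
            omega
          · omega
        · exact .inr (.inr ⟨l0, k0, h1, h2.resolve_left l0⟩)
    · rintro ⟨-, rfl | ⟨rfl, rfl⟩ | ⟨-, -, h1, h2⟩⟩
      · exact ⟨by omega, .inl rfl⟩
      · exact ⟨by omega, .inr (.inr (by omega))⟩
      · exact ⟨h1, .inr h2⟩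

end Cfsg.Agent.Part
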