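import Cfsg.Agent.Lib.J2.Enum

/-! Prime graphs of split extensions by elementary abelian groups. -/

set_option autoImplicit false

namespace Cfsg.Agent.J2

open Cfsg.Agent.Fi

theorem pg_ext {L H : Type*} [Group L] [Group H] [Finite H] {r : ℕ} (hp : r.Prime) (π : H →* L) (ι : L →* H) (hπ : ∀ g, π (ι g) = g)
    (hr : ∀ v, π v = 1 → v ^ r = 1) (hL : r ∣ Nat.card L) (hf : ∀ p : ℕ, p.Prime → p ≠ r → p ∣ Nat.card L →
      (∃ g : L, orderOf g = p * r) ∨ ∀ h v : H, π v = 1 → π h ^ p = 1 → π h ≠ 1 → Commute h v → v = 1) :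
    (∀ p : ℕ, p.Prime → (p ∣ Nat.card L ↔ p ∣ Nat.card H)) ∧
      ∀ p q : ℕ, p.Prime → q.Prime → p ≠ q → ((∃ g : L, orderOf g = p * q) ↔ ∃ g : H, orderOf g = p * q) := by
  have hi : Function.Injective ι := Function.LeftInverse.injective hπ
  have k : ∀ p : ℕ, p.Prime → ∀ h : H, π h ^ p = 1 → π h ≠ 1 → p ∣ Nat.card L := fun p hp h h1 h2 => by
    have := Fact.mk hp
    exact orderOf_eq_prime h1 h2 ▸ orderOf_dvd_natCard _
  have a : ∀ p q : ℕ, p.Prime → q.Prime → p ≠ q → ∀ h : H, orderOf h = p * q → π h ^ p = 1 → ∃ g : L, orderOf g = p * q := by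
    intro p q h1 h2 h3 h e e1
    have e2 : orderOf (h ^ p) = q := by rw [orderOf_pow_of_dvd h1.ne_zero (e ▸ dvd_mul_right _ _), e, Nat.mul_div_cancel_left _ h1.pos]
    obtain rfl : q = r := (Nat.prime_dvd_prime_iff_eq h2 hp).1 (e2 ▸ orderOf_dvd_of_pow_eq_one (hr _ (by rw [map_pow, e1])))
    have e3 : π h ≠ 1 := fun e' => by
      have := orderOf_dvd_of_pow_eq_one (hr _ e')
      exact h3 ((Nat.prime_dvd_prime_iff_eq h1 h2).1 ((dvd_mul_right _ _).trans (e ▸ this)))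
    refine (hf p h1 h3 (k p h1 h e1 e3)).resolve_right fun f => h2.one_lt.ne ?_
    rw [← e2, f h (h ^ p) (by rw [map_pow, e1]) e1 e3 (Commute.self_pow _ _), orderOf_one]
  refine ⟨fun p h1 => ⟨fun h => h.trans (Subgroup.card_dvd_of_injective ι hi), fun h => ?_⟩, fun p q h1 h2 h3 =>
    ⟨fun ⟨g, e⟩ => ⟨ι g, (orderOf_injective ι hi g).trans e⟩, fun ⟨h, e⟩ => ?_⟩⟩
  · have := Fact.mk h1
    obtain ⟨x, e⟩ := exists_prime_orderOf_dvd_card' p h
    by_cases e' : π x = 1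
    · exact (e ▸ orderOf_dvd_of_pow_eq_one (hr _ e')).trans hL
    · exact k p h1 x (by rw [← map_pow, ← e, pow_orderOf_eq_one, map_one]) e'
  · obtain ⟨c, d, hc, hd, e'⟩ := exists_dvd_and_dvd_of_dvd_mul (e ▸ orderOf_map_dvd π h)
    rcases (Nat.dvd_prime h2).1 hd with rfl | rfl
    · exact a p q h1 h2 h3 h e (orderOf_dvd_iff_pow_eq_one.1 (by rwa [e', mul_one]))
    rcases (Nat.dvd_prime h1).1 hc with rfl | rfl
    · rw [mul_comm] at e ⊢
      exact a d p h2 h1 h3.symm h e (orderOf_dvd_iff_pow_eq_one.1 (by rw [e', one_mul]))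
    · exact ⟨_, e'⟩

def lmul {P ι R : Type} [Group P] [Fintype ι] [DecidableEq ι] [CommRing R] (ρ : P →* Matrix ι ι R) (κ : Type) :
    P →* MulAut (Multiplicative (Matrix ι κ R)) :=
  MonoidHom.mk' (fun g => ⟨⟨fun X => .ofAdd (ρ g * X.toAdd), fun X => .ofAdd (ρ g⁻¹ * X.toAdd),
    fun X => by simp [← Matrix.mul_assoc, ← map_mul], fun X => by simp [← Matrix.mul_assoc, ← map_mul]⟩,
    fun X Y => by simp [Matrix.mul_add]⟩) fun g h => MulEquiv.ext fun X => by simp [Matrix.mul_assoc]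

theorem pg_mat {P : Type} {L : Type*} [Group P] [Finite P] [Group L] (e : P ≃* L) {d r : ℕ} [hp : Fact r.Prime]
    (ρ : P →* Matrix (Fin (d + 1)) (Fin (d + 1)) (ZMod r)) (hL : r ∣ Nat.card P) (hf : ∀ p : ℕ, p.Prime → p ≠ r → p ∣ Nat.card P →
      (∃ g : P, orderOf g = p * r) ∨ (¬ p ^ 2 ∣ Nat.card P ∧ ∃ y Z, y ^ p = 1 ∧ y ≠ 1 ∧ Z * (ρ y - 1) = 1)) (N : ℕ) :
    ∃ (H : Type) (_ : Group H) (_ : Finite H), N < Nat.card H ∧ ((∀ p : ℕ, p.Prime → (p ∣ Nat.card L ↔ p ∣ Nat.card H)) ∧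
      ∀ p q : ℕ, p.Prime → q.Prime → p ≠ q → ((∃ g : L, orderOf g = p * q) ↔ ∃ g : H, orderOf g = p * q)) := by
  let H := Multiplicative (Matrix (Fin (d + 1)) (Fin N) (ZMod r)) ⋊[lmul ρ (Fin N)] P
  have : Finite H := Finite.of_equiv _ SemidirectProduct.equivProd.symm
  have ec := Nat.card_congr e.toEquiv
  refine ⟨H, inferInstance, this, lt_of_lt_of_le ?_ (Nat.card_le_card_of_injective (fun a : Fin N → ZMod r =>
    (SemidirectProduct.inl (.ofAdd (Matrix.of fun _ => a)) : H)) fun a b h => congrFun (congrArg (fun x : H => x.left.toAdd) h) 0),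
    pg_ext hp.out (e.toMonoidHom.comp SemidirectProduct.rightHom) (SemidirectProduct.inr.comp e.symm.toMonoidHom) e.apply_symm_apply
      (fun v hv => ?_) (ec ▸ hL) fun p h1 h2 h3 => (hf p h1 h2 (ec ▸ h3)).imp (fun ⟨g, h⟩ => ⟨e g, (e.orderOf_eq g).trans h⟩) ?_⟩
  · rw [Nat.card_fun, Nat.card_zmod, Nat.card_eq_fintype_card, Fintype.card_fin]
    exact Nat.lt_pow_self hp.out.one_lt
  · obtain ⟨X, g⟩ := v
    obtain rfl : g = 1 := e.map_eq_one_iff.1 hv
    refine (map_pow SemidirectProduct.inl X r).symm.trans ?_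
    rw [show X ^ r = 1 from Multiplicative.toAdd.injective (by ext; simp), map_one]
  · rintro ⟨h4, y, Z, y1, y2, y3⟩ ⟨Y, g⟩ ⟨X, v⟩ hv g1 g2 hc
    obtain rfl : v = 1 := e.map_eq_one_iff.1 hv
    have g3 : g ^ p = 1 := e.map_eq_one_iff.1 ((map_pow e g p).trans g1)
    have g4 : g ≠ 1 := fun h => g2 (e.map_eq_one_iff.2 h)
    have := Fact.mk h1
    have oy := orderOf_eq_prime y1 y2
    obtain ⟨k, hk⟩ := conj_into (A := Subgroup.zpowers y) (a := 1) h4 (by rw [Nat.card_zpowers, oy, pow_one]) g3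
    obtain ⟨j, hj⟩ := mem_powers_of_prime_card (g := (⟨_, hk⟩ : Subgroup.zpowers y)) (g' := ⟨y, Subgroup.mem_zpowers y⟩)
      ((Nat.card_zpowers y).trans oy) fun h => g4 (conj_eq_one_iff.1 (congrArg Subtype.val h))
    have f1 : ρ g * X.toAdd = X.toAdd := by
      have : Y.toAdd + ρ g * X.toAdd = X.toAdd + ρ 1 * Y.toAdd := congrArg (fun x : H => x.left.toAdd) hc.eq
      rwa [map_one, Matrix.one_mul, add_comm X.toAdd, add_right_inj] at this
    have f2 : ∀ j, ρ (g ^ j) * X.toAdd = X.toAdd := fun j => by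
      induction j with
      | zero => simp
      | succ j ih => rw [pow_succ, map_mul, Matrix.mul_assoc, f1, ih]
    have f3 : (ρ y - 1) * (ρ k * X.toAdd) = 0 := by
      rw [Matrix.sub_mul, Matrix.one_mul, ← show (k * g * k⁻¹) ^ j = y from congrArg Subtype.val hj, conj_pow, ← Matrix.mul_assoc, ← map_mul,
        inv_mul_cancel_right, map_mul, Matrix.mul_assoc, f2, sub_self]
    have f4 : X.toAdd = 0 := by
      have := congrArg (fun W => ρ k⁻¹ * (Z * W)) f3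
      simpa only [← Matrix.mul_assoc, y3, Matrix.mul_one, ← map_mul, inv_mul_cancel, map_one, Matrix.one_mul, Matrix.mul_zero] using this
    exact SemidirectProduct.ext f4 rfl

end Cfsg.Agent.J2
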