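import Cfsg.Agent.Lib.J2.Ord

/-! Element orders in the symmetric group of degree eight and in extensions of the alternating group. -/

set_option autoImplicit false
set_option maxRecDepth 100000

namespace Cfsg.Agent.J2

open Equiv

def LL : List (Multiset ℕ) := [0, {2}, {3}, {4}, {2, 2}, {5}, {3, 2}, {6}, {4, 2}, {3, 3}, {2, 2, 2}, {7}, {5, 2}, {4, 3}, {3, 2, 2},
  {8}, {6, 2}, {5, 3}, {4, 4}, {4, 2, 2}, {3, 3, 2}, {2, 2, 2, 2}]

theorem mem_LL (s : Multiset ℕ) : (∀ a ∈ s, 2 ≤ a) → s.sum ≤ 8 → s ∈ LL := by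
  induction s using Multiset.induction_on with
  | empty => decide
  | cons a s ih =>
    intro h1 h2
    rw [Multiset.sum_cons] at h2
    exact (by decide +kernel : ∀ a < 9, ∀ l ∈ LL, 2 ≤ a → a + l.sum ≤ 8 → a ::ₘ l ∈ LL) a (by omega) s
      (ih (fun b hb => h1 b (Multiset.mem_cons_of_mem hb)) (by omega)) (h1 a (Multiset.mem_cons_self _ _)) h2

theorem ct8 (g : Perm (Fin 8)) : g.cycleType ∈ LL :=
  mem_LL _ (fun _ => Perm.two_le_of_mem_cycleType) (by rw [Perm.sum_cycleType]; exact (Finset.card_le_univ _).trans (by simp))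

def s7 : Perm (Fin 8) := ⟨![1, 2, 3, 4, 5, 6, 0, 7], ![6, 0, 1, 2, 3, 4, 5, 7], by decide, by decide⟩
def s15 : Perm (Fin 8) := ⟨![1, 2, 3, 4, 0, 6, 7, 5], ![4, 0, 1, 2, 3, 7, 5, 6], by decide, by decide⟩
theorem o7 : orderOf s7 = 7 := (orderOf_eq_iff (by norm_num)).2 (by decide +kernel)
theorem o15 : orderOf s15 = 15 := (orderOf_eq_iff (by norm_num)).2 (by decide +kernel)

theorem s8_spec : Set.range (orderOf : Perm (Fin 8) → ℕ) = {n | ∃ k ∈ [7, 8, 10, 12, 15], n ∣ k} := spec_eq (fun g => by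
    obtain ⟨k, hk, e⟩ := (by decide +kernel : ∀ l ∈ LL, ∃ k ∈ [7, 8, 10, 12, 15], l.lcm ∣ k) _ (ct8 g)
    exact ⟨k, hk, orderOf_dvd_iff_pow_eq_one.1 (g.lcm_cycleType ▸ e)⟩) (by
  simp only [List.forall_mem_cons, List.not_mem_nil, false_imp_iff, implies_true, and_true]
  exact ⟨⟨_, o7⟩, ⟨⟨![1, 2, 3, 4, 5, 6, 7, 0], ![7, 0, 1, 2, 3, 4, 5, 6], by decide, by decide⟩,
      (orderOf_eq_iff (by norm_num)).2 (by decide +kernel)⟩,
    ⟨⟨![1, 2, 3, 4, 0, 6, 5, 7], ![4, 0, 1, 2, 3, 6, 5, 7], by decide, by decide⟩, (orderOf_eq_iff (by norm_num)).2 (by decide +kernel)⟩,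
    ⟨⟨![1, 2, 3, 0, 5, 6, 4, 7], ![3, 0, 1, 2, 6, 4, 5, 7], by decide, by decide⟩, (orderOf_eq_iff (by norm_num)).2 (by decide +kernel)⟩,
    ⟨_, o15⟩⟩)

theorem a8_cases (g : alternatingGroup (Fin 8)) : (∃ k ∈ [4, 5, 6], g ^ k = 1) ∨ (g ^ 7 = 1 ∧ IsConj s7 g.1) ∨ (g ^ 15 = 1 ∧ IsConj s15 g.1) := by
  have k : ∀ l ∈ LL, (l.lcm = 7 → l = {7}) ∧ (l.lcm = 15 → l = {5, 3}) ∧
    (Even (l.sum + l.card) → (∃ k ∈ [4, 5, 6], l.lcm ∣ k) ∨ l.lcm = 7 ∨ l.lcm = 15) := by decide +kernel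
  have p : ∀ k, g.1.cycleType.lcm ∣ k → g ^ k = 1 := fun k e => Subtype.ext (orderOf_dvd_iff_pow_eq_one.1 (g.1.lcm_cycleType ▸ e))
  obtain ⟨k1, k2, k3⟩ := k _ (ct8 g.1)
  rcases k3 (by
    have := Perm.mem_alternatingGroup.1 g.2
    rwa [Perm.sign_of_cycleType, neg_one_pow_eq_one_iff_even (by decide)] at this) with ⟨k, hk, e⟩ | e | e
  · exact .inl ⟨k, hk, p k e⟩
  · exact .inr (.inl ⟨p _ e.dvd, Perm.isConj_iff_cycleType_eq.2 (((k _ (ct8 s7)).1 (s7.lcm_cycleType.trans o7)).trans (k1 e).symm)⟩)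
  · exact .inr (.inr ⟨p _ e.dvd, Perm.isConj_iff_cycleType_eq.2 (((k _ (ct8 s15)).2.1 (s15.lcm_cycleType.trans o15)).trans (k2 e).symm)⟩)

abbrev Gm (A : Type) [CommGroup A] := (Fin 8 → A) ⋊[mulAutArrow] alternatingGroup (Fin 8)

section
variable {A : Type} [CommGroup A]

theorem gm_left (x y : Gm A) (i : Fin 8) : (x * y).left i = x.left i * y.left (x.right.1⁻¹ i) := rfl

def pd (A : Type) [CommGroup A] : Gm A →* A := MonoidHom.mk' (fun x => ∏ i, x.left i) fun x y => by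
  simp only [gm_left, Finset.prod_mul_distrib, Equiv.prod_comp x.right.1⁻¹ y.left]

def Z0 (A : Type) [CommGroup A] : Subgroup (Gm A) where
  carrier := {x | x.right = 1 ∧ ∀ i, x.left i = x.left 0}
  one_mem' := ⟨rfl, fun _ => rfl⟩
  mul_mem' := fun {x y} h h' => ⟨by simp [h.1, h'.1], fun i => by rw [gm_left, gm_left, h.2, h'.2, h'.2 (x.right.1⁻¹ 0)]⟩
  inv_mem' := fun {x} h => ⟨by simp [h.1], fun i => by
    show (x.left _)⁻¹ = (x.left _)⁻¹
    rw [h.2, h.2 (_ • 0)]⟩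

theorem mem_Z0 {x : Gm A} : x ∈ Z0 A ↔ x.right = 1 ∧ ∀ i, x.left i = x.left 0 := Iff.rfl

instance : (Z0 A).Normal := ⟨fun x h g => by
  have : g * x = x * g := SemidirectProduct.ext (funext fun i => by
    rw [gm_left, gm_left, h.1, h.2, h.2 i, mul_comm]; rfl) (by simp [h.1])
  rwa [this, mul_inv_cancel_right]⟩

theorem sq_one (hA : ∀ a : A, a * a = 1) {x : Gm A} {k : ℕ} (h : x.right ^ k = 1) : x ^ (k * 2) = 1 := by
  have : (x ^ k).right = 1 := (map_pow SemidirectProduct.rightHom x k).trans h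
  rw [pow_mul, sq]
  exact SemidirectProduct.ext (funext fun i => by rw [gm_left, this]; exact hA _) (by rw [SemidirectProduct.mul_right, this]; rfl)

theorem inv_const (hA : ∀ a : A, a * a = 1) {x : Gm A} (hx : pd A x = 1) {k : ℕ} (h : x.right ^ k = 1) {s : Perm (Fin 8)}
    (hs : s = s7 ∨ s = s15) (hc : IsConj s x.right.1) : x ^ k ∈ Z0 A := by
  have h1 : (x ^ k).right = 1 := (map_pow SemidirectProduct.rightHom x k).trans h
  have h2 : ∏ i, (x ^ k).left i = 1 := (map_pow (pd A) x k).trans (by rw [hx, one_pow])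
  have h3 : ∀ i, (x ^ k).left (x.right.1 i) = (x ^ k).left i := fun i => by
    have := congrArg (fun y : Gm A => y.left (x.right.1 i)) ((pow_succ x k).symm.trans (pow_succ' x k))
    simp only [gm_left, h1] at this
    rw [mul_comm] at this
    simpa using this
  obtain ⟨c, hc⟩ := isConj_iff.1 hc
  generalize (x ^ k) = y at h1 h2 h3
  have h4 : ∀ i, y.left (c (s i)) = y.left (c i) := fun i => by rw [← h3 (c i), ← hc]; simp
  rw [← Equiv.prod_comp c, Fin.prod_univ_eight] at h2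
  have h5 : ∀ i, y.left (c i) = y.left (c 0) := by
    have hi : ∀ a b : A, a * b = 1 → b = a := fun a b e => mul_left_cancel (e.trans (hA a).symm)
    rcases hs with rfl | rfl
    · have e1 : y.left (c 1) = y.left (c 0) := h4 0
      have e2 : y.left (c 2) = y.left (c 0) := (h4 1).trans e1
      have e3 : y.left (c 3) = y.left (c 0) := (h4 2).trans e2
      have e4 : y.left (c 4) = y.left (c 0) := (h4 3).trans e3
      have e5 : y.left (c 5) = y.left (c 0) := (h4 4).trans e4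
      have e6 : y.left (c 6) = y.left (c 0) := (h4 5).trans e5
      have e7 : y.left (c 7) = y.left (c 0) := hi _ _ (by simpa only [e1, e2, e3, e4, e5, e6, hA, one_mul] using h2)
      intro i; fin_cases i; exacts [rfl, e1, e2, e3, e4, e5, e6, e7]
    · have e1 : y.left (c 1) = y.left (c 0) := h4 0
      have e2 : y.left (c 2) = y.left (c 0) := (h4 1).trans e1
      have e3 : y.left (c 3) = y.left (c 0) := (h4 2).trans e2
      have e4 : y.left (c 4) = y.left (c 0) := (h4 3).trans e3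
      have e6 : y.left (c 6) = y.left (c 5) := h4 5
      have e7 : y.left (c 7) = y.left (c 5) := (h4 6).trans e6
      have e5 : y.left (c 5) = y.left (c 0) := hi _ _ (by simpa only [e1, e2, e3, e4, e6, e7, hA, one_mul, mul_assoc, mul_one] using h2)
      intro i; fin_cases i; exacts [rfl, e1, e2, e3, e4, e5, e6.trans e5, e7.trans e5]
  exact ⟨h1, fun i => by rw [← c.apply_symm_apply i, ← c.apply_symm_apply 0, h5, h5 (c.symm 0)]⟩
end

abbrev HH (A : Type) [CommGroup A] : Subgroup (Gm A ⧸ Z0 A) := (pd A).ker.map (QuotientGroup.mk' (Z0 A))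

instance : DecidablePred (· ∈ Z0 ℤˣ) := fun _ => decidable_of_iff _ mem_Z0.symm

theorem hh_ord (n : ℕ) (f : Fin 8 → ℤˣ) (g : alternatingGroup (Fin 8)) {k : ℕ} (h0 : 0 < k ∧ ∏ i, f i = 1)
    (h : (⟨f, g⟩ : Gm ℤˣ) ^ k ∈ Z0 ℤˣ ∧ ∀ j < k, 0 < j → (⟨f, g⟩ : Gm ℤˣ) ^ j ∉ Z0 ℤˣ) : ∃ x : HH (Fin (n + 1) → ℤˣ), orderOf x = k := by
  let d : Gm ℤˣ →* Gm (Fin (n + 1) → ℤˣ) := MonoidHom.mk' (fun x => ⟨fun i _ => x.left i, x.right⟩) fun _ _ => rfl
  have e : ∀ x, d x ∈ Z0 _ ↔ x ∈ Z0 _ := fun x => and_congr_right fun _ => forall_congr' fun i =>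
    ⟨fun h => congrFun h 0, fun h => funext fun _ => h⟩
  refine ⟨⟨_, d ⟨f, g⟩, funext fun a => (Finset.prod_apply a Finset.univ fun i _ => f i).trans h0.2, rfl⟩, (Subgroup.orderOf_mk _ _).trans ((orderOf_eq_iff h0.1).2 ?_)⟩
  simpa only [QuotientGroup.mk'_apply, ← QuotientGroup.mk_pow, ← map_pow, ne_eq, QuotientGroup.eq_one_iff, e] using h

theorem hh_spec (n : ℕ) : Set.range (orderOf : HH (Fin (n + 1) → ℤˣ) → ℕ) = {n | ∃ k ∈ [7, 8, 10, 12, 15], n ∣ k} := by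
  have hA : ∀ a : Fin (n + 1) → ℤˣ, a * a = 1 := fun a => funext fun i => Int.units_mul_self _
  have : Finite (Gm (Fin (n + 1) → ℤˣ)) := Finite.of_equiv _ SemidirectProduct.equivProd.symm
  refine spec_eq ?_ ?_
  · rintro ⟨_, x, hx, rfl⟩
    simp only [Subtype.ext_iff, SubgroupClass.coe_pow, OneMemClass.coe_one, QuotientGroup.mk'_apply, ← QuotientGroup.mk_pow, QuotientGroup.eq_one_iff]
    rcases a8_cases x.right with ⟨k, hk, e⟩ | ⟨e, c⟩ | ⟨e, c⟩
    · exact ⟨k * 2, (by decide : ∀ k ∈ [4, 5, 6], k * 2 ∈ [7, 8, 10, 12, 15]) k hk, sq_one hA e ▸ one_mem _⟩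
    · exact ⟨7, by decide, inv_const hA hx e (.inl rfl) c⟩
    · exact ⟨15, by decide, inv_const hA hx e (.inr rfl) c⟩
  · simp only [List.forall_mem_cons, List.not_mem_nil, false_imp_iff, implies_true, and_true]
    exact ⟨hh_ord n 1 ⟨s7, Perm.mem_alternatingGroup.2 (by decide +kernel)⟩ (by decide) (by decide +kernel),
      hh_ord n ![-1, 1, 1, 1, 1, 1, -1, 1] ⟨⟨![1, 2, 3, 0, 5, 4, 6, 7], ![3, 0, 1, 2, 5, 4, 6, 7], by decide, by decide⟩,
        Perm.mem_alternatingGroup.2 (by decide +kernel)⟩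
        (by decide) (by decide +kernel),
      hh_ord n ![1, 1, 1, 1, 1, 1, -1, -1] ⟨⟨![1, 2, 3, 4, 0, 5, 6, 7], ![4, 0, 1, 2, 3, 5, 6, 7], by decide, by decide⟩,
        Perm.mem_alternatingGroup.2 (by decide +kernel)⟩
        (by decide) (by decide +kernel),
      hh_ord n ![1, 1, 1, -1, 1, 1, 1, -1] ⟨⟨![1, 2, 0, 4, 3, 6, 5, 7], ![2, 0, 1, 4, 3, 6, 5, 7], by decide, by decide⟩,
        Perm.mem_alternatingGroup.2 (by decide +kernel)⟩
        (by decide) (by decide +kernel),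
      hh_ord n 1 ⟨s15, Perm.mem_alternatingGroup.2 (by decide +kernel)⟩ (by decide) (by decide +kernel)⟩

theorem hh_card (n : ℕ) : Finite (HH (Fin (n + 1) → ℤˣ)) ∧ n < Nat.card (HH (Fin (n + 1) → ℤˣ)) := by
  have : Finite (Gm (Fin (n + 1) → ℤˣ)) := Finite.of_equiv _ SemidirectProduct.equivProd.symm
  refine ⟨inferInstance, lt_of_lt_of_le ?_ (Nat.card_le_card_of_injective (fun a : Fin (n + 1) → ℤˣ =>
    (⟨_, ⟨![a, a⁻¹, 1, 1, 1, 1, 1, 1], 1⟩, (Fin.prod_univ_eight _).trans (by simp), rfl⟩ : HH (Fin (n + 1) → ℤˣ))) fun a b e => ?_)⟩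
  · rw [Nat.card_fun, Nat.card_eq_fintype_card, Fintype.card_units_int, Nat.card_eq_fintype_card, Fintype.card_fin]
    exact (Nat.lt_succ_self n).trans Nat.lt_two_pow_self
  · have : (1 : Fin (n + 1) → ℤˣ)⁻¹ * 1 = a⁻¹ * b := (QuotientGroup.eq.1 (congrArg Subtype.val e)).2 2
    rw [eq_comm, inv_mul_cancel, inv_mul_eq_one] at this
    exact this

end Cfsg.Agent.J2
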