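import Mathlib

/-! Self-centralizing abelian subgroups of index `p` in their normalizers. -/

set_option autoImplicit false
set_option linter.unusedSectionVars false
set_option linter.unusedVariables false

namespace Cfsg.Agent.Soft

open Subgroup

universe u
variable {p : ℕ} [hp : Fact p.Prime]

section
variable {G : Type u} [Group G] [Finite G]

theorem btw {A B C : Subgroup G} (h1 : A ≤ B) (h2 : B ≤ C) (h : A.relIndex C = p) : B = A ∨ B = C := by
  have := relIndex_mul_relIndex A B C h1 h2
  rw [h] at this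
  rcases hp.out.eq_one_or_self_of_dvd _ (Dvd.intro _ this) with e | e
  · exact .inl (le_antisymm (relIndex_eq_one.1 e) h1)
  · rw [e] at this
    exact .inr (le_antisymm h2 (relIndex_eq_one.1 (Nat.eq_of_mul_eq_mul_left hp.out.pos (this.trans (mul_one p).symm))))

theorem grow (hG : IsPGroup p G) {A K : Subgroup G} (h : A < K) : A < normalizer (A : Set G) ⊓ K := by
  haveI := (hG.to_subgroup K).isNilpotent
  have := normalizerCondition_of_isNilpotent (G := K) (A.subgroupOf K)
    (lt_top_iff_ne_top.2 fun e => h.not_ge (subgroupOf_eq_top.1 e))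
  obtain ⟨x, hx, hx'⟩ := SetLike.exists_of_lt this
  rw [← subgroupOf_normalizer_eq h.le] at hx
  exact lt_of_le_of_ne (le_inf le_normalizer h.le) fun e => hx' (show x.1 ∈ A from e ▸ ⟨hx, x.2⟩)

theorem nle (hG : IsPGroup p G) {A K : Subgroup G} (h : A < K) (hi : A.relIndex (normalizer (A : Set G)) = p) :
    normalizer (A : Set G) ≤ K :=
  ((btw (grow hG h).le inf_le_left hi).resolve_left (grow hG h).ne').ge.trans inf_le_right

def S (E : Subgroup G) : Prop := E ≤ centralizer (E : Set G) ∧ centralizer (E : Set G) ≤ E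

theorem cen {E N : Subgroup G} (hE : E ≤ centralizer (E : Set G)) (h1 : E ≤ N) (h : E.relIndex N = p) {e : G} (he : e ∈ E)
    (hn : e ∉ centralizer (N : Set G)) : centralizer {e} ⊓ N = E :=
  (btw (le_inf (fun x hx => mem_centralizer_singleton_iff.2 (hE he x hx)) h1) inf_le_right h).resolve_right fun q =>
    hn fun x hx => mem_centralizer_singleton_iff.1 (q.ge hx).1

theorem ab {E N : Subgroup G} (h1 : E ≤ N) (h : E.relIndex N = p) (hc : N ≤ centralizer (E : Set G)) :
    N ≤ centralizer (N : Set G) := fun x hx y hy => by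
  rcases btw (le_inf (fun z hz => mem_centralizer_singleton_iff.2 (hc hx z hz)) h1 : E ≤ centralizer {x} ⊓ N)
    inf_le_right h with q | q
  · exact (hc hy x (q.le ⟨mem_centralizer_singleton_iff.2 rfl, hx⟩)).symm
  · exact mem_centralizer_singleton_iff.1 (q.ge hy).1

theorem cnt (hG : IsPGroup p G) {E N : Subgroup G} (hE : S E) (hN : N = normalizer (E : Set G)) (h : E.relIndex N = p)
    (ht : N ≠ ⊤) : N.relIndex (normalizer (N : Set G)) = p := by
  have EN : E ≤ N := hN ▸ le_normalizer
  obtain ⟨k, hk⟩ := (hG.to_subgroup (normalizer (N : Set G))).index (N.subgroupOf _)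
  have k0 : k ≠ 0 := by
    rintro rfl
    exact (grow hG (lt_top_iff_ne_top.2 ht)).not_ge (inf_le_left.trans (relIndex_eq_one.1 hk))
  obtain ⟨l, hl⟩ := (hG.to_subgroup E).index ((centralizer (N : Set G)).subgroupOf E)
  have l0 : l ≠ 0 := by
    rintro rfl
    have : N ≤ E := (le_centralizer_iff.1 (relIndex_eq_one.1 hl)).trans hE.2
    exact hp.out.one_lt.ne' (h.symm.trans (relIndex_eq_one.2 this))
  have c1 := ((centralizer (N : Set G)).subgroupOf E).card_mul_index
  have c2 : Nat.card ((centralizer (N : Set G)).subgroupOf E) +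
      Nat.card {e : E // e ∉ (centralizer (N : Set G)).subgroupOf E} = Nat.card E := by
    classical
    rw [← Nat.card_sum]
    exact Nat.card_congr (Equiv.sumCompl _)
  have c3 : Nat.card E * p = Nat.card N := by
    rw [← h, ← (E.subgroupOf N).card_mul_index, Nat.card_congr (subgroupOfEquivOfLe EN).toEquiv]
    rfl
  let Φ : Option ((normalizer (N : Set G) ⧸ N.subgroupOf _) × {e : E // e ∉ (centralizer (N : Set G)).subgroupOf E}) → N :=
    fun o => o.elim 1 fun a => ⟨a.1.out.1 * a.2.1.1 * a.1.out.1⁻¹, (a.1.out.2 _).1 (EN a.2.1.2)⟩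
  have ne1 : ∀ a, Φ (some a) ≠ 1 := fun a e => a.2.2 (by
    have e' : a.1.out.1 * a.2.1.1 * a.1.out.1⁻¹ = 1 := congrArg Subtype.val e
    have : a.2.1.1 = 1 := conj_eq_one_iff.1 e'
    rw [mem_subgroupOf, this]
    exact one_mem _)
  have inj : Function.Injective Φ := by
    rintro (_ | ⟨q, e⟩) (_ | ⟨q', e'⟩) hΦ
    · rfl
    · exact (ne1 _ hΦ.symm).elim
    · exact (ne1 _ hΦ).elim
    have t0 : q.out.1 * e.1.1 * q.out.1⁻¹ = q'.out.1 * e'.1.1 * q'.out.1⁻¹ := congrArg Subtype.val hΦ
    have t1 : (q'.out⁻¹ * q.out).1 * e.1.1 * (q'.out⁻¹ * q.out).1⁻¹ = e'.1.1 := by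
      rw [coe_mul, coe_inv, show ∀ a b c : G, a⁻¹ * b * c * (a⁻¹ * b)⁻¹ = a⁻¹ * (b * c * b⁻¹) * a from
        fun a b c => by group, t0]
      group
    have t2 : (q'.out⁻¹ * q.out).1 ∈ N := hN.ge (mem_normalizer_fintype fun x hx => (cen hE.1 EN h e'.1.2 e'.2).le
      ⟨mem_centralizer_singleton_iff.2 (by
        rw [← t1, conj_mul, conj_mul, hE.1 e.1.2 x hx]), ((q'.out⁻¹ * q.out).2 x).1 (EN hx)⟩)
    obtain rfl : q' = q := by rw [← q'.out_eq', ← q.out_eq']; exact QuotientGroup.eq.2 t2
    obtain rfl : e = e' := Subtype.ext (Subtype.ext (by simpa using t0))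
    rfl
  have c4 := Nat.card_le_card_of_injective Φ inj
  rw [Finite.card_option, Nat.card_prod, ← index, hk] at c4
  rw [hl] at c1
  have z0 : 0 < Nat.card ((centralizer (N : Set G)).subgroupOf E) := Nat.card_pos
  have : k = 1 := by
    by_contra k1
    have a1 : p ^ 2 ≤ p ^ k := Nat.pow_le_pow_right hp.out.pos (by omega)
    have a2 : p ≤ p ^ l := Nat.le_self_pow l0 p
    have p2 := hp.out.two_le
    generalize Nat.card ((centralizer (N : Set G)).subgroupOf E) = z at *
    generalize Nat.card {e : E // e ∉ (centralizer (N : Set G)).subgroupOf E} = c at *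
    have b1 : 2 * z ≤ z + c := by nlinarith
    have b2 : p ^ 2 * c ≤ p ^ k * c := Nat.mul_le_mul_right _ a1
    have b3 : (z + c) * p ≤ 2 * c * p := Nat.mul_le_mul_right _ (by omega)
    have b4 : 2 * c * p ≤ p ^ 2 * c := by rw [sq, mul_assoc, mul_assoc, mul_comm c]; exact Nat.mul_le_mul_right _ p2
    rw [← c3, ← c2] at c4
    omega
  rw [this, pow_one] at hk
  exact hk

abbrev π (G : Type u) [Group G] := QuotientGroup.mk' (center G)

theorem cm {K : Subgroup G} (h : center G ≤ K) : (K.map (π G)).comap (π G) = K :=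
  comap_map_eq_self ((QuotientGroup.ker_mk' _).le.trans h)

theorem q1 {K : Subgroup G} (h : center G ≤ K) :
    normalizer (K.map (π G) : Set (G ⧸ center G)) = (normalizer (K : Set G)).map (π G) := by
  nth_rewrite 2 [← cm h]
  rw [← comap_normalizer_eq_of_surjective _ (QuotientGroup.mk'_surjective _),
    map_comap_eq_self_of_surjective (QuotientGroup.mk'_surjective _)]

theorem q2 {K : Subgroup G} (h : center G ≤ K) (L : Subgroup G) : (K.map (π G)).relIndex (L.map (π G)) = K.relIndex L := by
  rw [← relIndex_comap, cm h]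

theorem S.ce {E : Subgroup G} (hE : S E) : center G ≤ E := (center_le_centralizer _).trans hE.2

theorem dich {E : Subgroup G} (hE : S E) (h : E.relIndex (normalizer (E : Set G)) = p) :
    S (E.map (π G)) ∨ S ((normalizer (E : Set G)).map (π G)) := by
  have a : E.map (π G) ≤ centralizer (E.map (π G) : Set (G ⧸ center G)) := by
    rintro _ ⟨x, hx, rfl⟩ _ ⟨y, hy, rfl⟩
    rw [← map_mul, hE.1 hx y hy, map_mul]
  have h' := (q2 hE.ce _).trans h
  rcases btw a ((centralizer_le_normalizer _).trans (q1 hE.ce).le) h' with q | q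
  · exact .inl ⟨a, q.le⟩
  · exact .inr ⟨ab (map_mono le_normalizer) h' q.ge, (centralizer_le (map_mono le_normalizer)).trans q.le⟩

end

theorem pa (n : ℕ) : ∀ (G : Type u) [Group G] [Finite G], Nat.card G = n → IsPGroup p G → ∀ E : Subgroup G, S E →
    E.relIndex (normalizer (E : Set G)) = p → ∀ K, E ≤ K → K ≠ ⊤ → K.relIndex (normalizer (K : Set G)) = p := by
  induction n using Nat.strong_induction_on with
  | _ n ih =>
  intro G _ _ hn hG E hE h K hK ht
  rcases hK.eq_or_lt with rfl | lt
  · exact h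
  haveI : Nontrivial G := (Subgroup.nontrivial_iff).1 ⟨K, ⊤, ht⟩
  have sm : Nat.card (G ⧸ center G) < n := by
    haveI := hG.center_nontrivial
    rw [← hn, ← (center G).index_mul_card]
    exact lt_mul_of_one_lt_right Nat.card_pos Finite.one_lt_card
  have cK := hE.ce.trans hK
  have t' : K.map (π G) ≠ ⊤ := fun e => ht (by rw [← cm cK, e, comap_top])
  have NK := nle hG lt h
  rw [← q2 cK, ← q1 cK]
  rcases dich hE h with s | s
  · exact ih _ sm _ rfl (hG.to_quotient _) _ s (by rw [q1 hE.ce, q2 hE.ce, h]) _ (map_mono hK) t'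
  · have cN := hE.ce.trans (le_normalizer (H := E))
    exact ih _ sm _ rfl (hG.to_quotient _) _ s (by
      rw [q1 cN, q2 cN]
      exact cnt hG hE rfl h fun e => ht (top_le_iff.1 (e.ge.trans NK))) _ (map_mono NK) t'

theorem cl (i : ℕ) : ∀ (G : Type u) [Group G] [Finite G] [Nontrivial G] [Group.IsNilpotent G], IsPGroup p G →
    ∀ E : Subgroup G, S E → (∀ K, E ≤ K → K ≠ ⊤ → K.relIndex (normalizer (K : Set G)) = p) →
    (∀ D : Subgroup G, D.Characteristic → E ≤ D → D = ⊤) → E.index = p ^ i → Group.nilpotencyClass G = i + 1 := by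
  induction i with
  | zero =>
    intro G _ _ _ _ hG E hE h1 h2 h3
    obtain rfl := index_eq_one.1 h3
    have : center G = ⊤ := top_le_iff.1 fun x _ => mem_center_iff.2 fun y => hE.1 (mem_top x) y (mem_top y)
    haveI : Subsingleton (G ⧸ center G) := by rw [this]; exact QuotientGroup.subsingleton_quotient_top
    rw [nilpotencyClass_eq_quotient_center_plus_one, nilpotencyClass_zero_iff_subsingleton.2 this]
  | succ i ih =>
    intro G _ _ _ _ hG E hE h1 h2 h3
    have Et : E ≠ ⊤ := fun e => by
      rw [e, index_top] at h3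
      exact (Nat.one_lt_pow (by omega) hp.out.one_lt).ne h3
    have h := h1 E le_rfl Et
    have sj := QuotientGroup.mk'_surjective (center G)
    haveI : Nontrivial (G ⧸ center G) := (Subgroup.nontrivial_iff).1 ⟨E.map (π G), ⊤, fun e => Et (by
      rw [← cm hE.ce, e, comap_top])⟩
    have cN := hE.ce.trans (le_normalizer (H := E))
    have s : S ((normalizer (E : Set G)).map (π G)) := (dich hE h).resolve_left fun s => by
      have a : (center (G ⧸ center G)).comap (π G) ≤ E := (comap_mono s.ce).trans (cm hE.ce).le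
      haveI : ((center (G ⧸ center G)).comap (π G)).Characteristic :=
        Characteristic.comap_quotient_mk (hH := inferInstance) inferInstance
      have b := h2 (centralizer ((center (G ⧸ center G)).comap (π G) : Set G)) inferInstance
        (hE.1.trans (centralizer_le a))
      haveI := (hG.to_quotient (center G)).center_nontrivial
      obtain ⟨⟨z, hz⟩, z1⟩ := exists_ne (1 : center (G ⧸ center G))
      obtain ⟨z, rfl⟩ := sj z
      exact z1 (Subtype.ext ((QuotientGroup.eq_one_iff z).2 (mem_center_iff.2 fun g => (b.ge (mem_top g) z hz).symm)))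
    rw [nilpotencyClass_eq_quotient_center_plus_one]
    refine congrArg (· + 1) (ih _ (hG.to_quotient _) _ s (fun K hK ht => ?_) (fun D hD hK => ?_) ?_)
    · have a := (map_le_iff_le_comap.1 hK)
      rw [← map_comap_eq_self_of_surjective sj K, q1 (cN.trans a), q2 (cN.trans a)]
      exact h1 _ (le_normalizer.trans a) fun e => ht (by rw [← map_comap_eq_self_of_surjective sj K, e, map_top_of_surjective _ sj])
    · rw [← map_comap_eq_self_of_surjective sj D, h2 _ (Characteristic.comap_quotient_mk (hH := inferInstance) hD)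
        (le_normalizer.trans (map_le_iff_le_comap.1 hK)), map_top_of_surjective _ sj]
    · have := relIndex_mul_index (le_normalizer (H := E))
      rw [h, h3, pow_succ'] at this
      rw [← relIndex_top_right, ← map_top_of_surjective _ sj, q2 cN, relIndex_top_right]
      exact Nat.eq_of_mul_eq_mul_left hp.out.pos this

theorem main {P : Type u} [Group P] [Finite P] (hP : IsPGroup p P)
    (E : Subgroup P) (hEab : IsMulCommutative ↥E) (hC : Subgroup.centralizer (E : Set P) ≤ E)
    (hN : (E.subgroupOf (Subgroup.normalizer (E : Set P))).index = p) :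
    (∀ K L : Subgroup P, E ≤ K → E ≤ L → K ≤ L ∨ L ≤ K) ∧
      (∀ K : Subgroup P, E ≤ K → K ≠ ⊤ → (K.subgroupOf (Subgroup.normalizer (K : Set P))).index = p) ∧
      ∀ (i : ℕ) (K : Subgroup P) [Group.IsNilpotent ↥K], E ≤ K → K ≠ ⊤ → K.index * p ^ i = E.index →
        Group.nilpotencyClass ↥K = i + 1 := by
  have hE : S E := ⟨fun x hx y hy => congrArg Subtype.val (hEab.is_comm.comm (⟨y, hy⟩ : E) ⟨x, hx⟩), hC⟩
  have a := pa _ P rfl hP E hE hN
  refine ⟨fun K L hK hL => ?_, a, fun i K _ hK ht hi => ?_⟩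
  · by_contra! q
    have k : K ⊓ L < K := inf_lt_left.2 q.1
    have r := a _ (le_inf hK hL) k.ne_top
    exact hp.out.one_lt.ne' (r.symm.trans (relIndex_eq_one.2 (le_inf (nle hP k r) (nle hP (inf_lt_right.2 q.2) r))))
  haveI : Nontrivial K := (nontrivial_iff_ne_bot K).2 fun e => ht (top_le_iff.1 fun x _ => hK (hC fun y hy => by
    rw [mem_bot.1 (e.le (hK hy)), one_mul, mul_one]))
  have lift : ∀ D : Subgroup K, E.subgroupOf K ≤ D → E ≤ D.map K.subtype := fun D hD x hx => ⟨⟨x, hK hx⟩, hD hx, rfl⟩
  have lt : ∀ D : Subgroup K, D ≠ ⊤ → D.map K.subtype < K := fun D hD => lt_of_le_of_ne (map_subtype_le D) fun e =>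
    hD (by rw [← comap_map_eq_self_of_injective K.subtype_injective D, e]; exact subgroupOf_self K)
  refine cl i K (hP.to_subgroup K) (E.subgroupOf K) ⟨fun x hx y hy => Subtype.ext (hE.1 hx y hy),
    fun x hx => hC fun y hy => congrArg Subtype.val (hx ⟨y, hK hy⟩ hy)⟩ (fun D hD ht' => ?_) (fun D hD hE' => ?_) ?_
  · have r := a _ (lift D hD) (lt D ht').ne_top
    rw [← relIndex_subgroupOf (nle hP (lt D ht') r), subgroupOf_normalizer_eq (lt D ht').le] at r
    rwa [show (D.map K.subtype).subgroupOf K = D from comap_map_eq_self_of_injective K.subtype_injective D] at r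
  · by_contra ht'
    have r := nle hP (lt D ht') (a _ (lift D hE') (lt D ht').ne_top)
    refine (grow hP (lt_top_iff_ne_top.2 ht)).not_ge (inf_le_left.trans (le_trans (fun g hg => ?_) r))
    refine mem_normalizer_fintype ?_
    rintro _ ⟨x, hx, rfl⟩
    exact ⟨K.normalizerMonoidHom ⟨g, hg⟩ x, characteristic_iff_le_comap.1 hD _ hx, rfl⟩
  · have := relIndex_mul_index hK
    rw [← hi, mul_comm] at this
    exact Nat.eq_of_mul_eq_mul_left (Nat.pos_of_ne_zero FiniteIndex.index_ne_zero) this

end Cfsg.Agent.Soft
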