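import Mathlib

/-! Elements of symmetric groups lying in a unique Sylow 2-subgroup. -/

set_option autoImplicit false
set_option linter.unusedSectionVars false
set_option linter.unusedVariables false

namespace Cfsg.Agent.Syl2U

open Equiv Equiv.Perm Finset Subgroup

theorem odd_df (m : ℕ) : Odd (2 * m + 1).doubleFactorial := by
  induction m with
  | zero => simp
  | succ m ih =>
    rw [show 2 * (m + 1) + 1 = (2 * m + 1) + 2 by ring, Nat.doubleFactorial_add_two]
    exact Odd.mul ⟨m + 1, by ring⟩ ih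

section
variable {Ω : Type} [Fintype Ω] [DecidableEq Ω]

theorem odd_card : Odd #{g : Perm Ω | g.cycleType = Multiset.replicate (Fintype.card Ω / 2) 2} := by
  have h := card_of_cycleType_mul_eq Ω (Multiset.replicate (Fintype.card Ω / 2) 2)
  generalize #{g : Perm Ω | g.cycleType = Multiset.replicate (Fintype.card Ω / 2) 2} = c at h ⊢
  rw [if_pos ⟨by simpa using Nat.div_mul_le_self _ 2, fun a ha => (Multiset.eq_of_mem_replicate ha).ge⟩] at h
  have e : ∏ n ∈ (Multiset.replicate (Fintype.card Ω / 2) 2).toFinset,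
      ((Multiset.replicate (Fintype.card Ω / 2) 2).count n).factorial = (Fintype.card Ω / 2).factorial := by
    rw [Multiset.toFinset_replicate]
    split_ifs with h0 <;> simp [*]
  rw [e, Multiset.sum_replicate, Multiset.prod_replicate, smul_eq_mul, mul_assoc, ← Nat.doubleFactorial_two_mul] at h
  generalize Fintype.card Ω = n at h
  have pos := Nat.doubleFactorial_pos (2 * (n / 2))
  rcases Nat.even_or_odd' n with ⟨m, rfl | rfl⟩
  · rw [show 2 * m / 2 = m by omega] at h pos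
    rw [show 2 * m - m * 2 = 0 by omega, Nat.factorial_zero, one_mul] at h
    rcases m with _ | m
    · simp at h
      simp [h]
    · rw [show (2 * (m + 1)).factorial = (2 * m + 1 + 1).factorial from rfl, Nat.factorial_eq_mul_doubleFactorial,
        mul_comm c] at h
      rw [Nat.eq_of_mul_eq_mul_left pos h]
      exact odd_df m
  · rw [show (2 * m + 1) / 2 = m by omega] at h pos
    rw [show 2 * m + 1 - m * 2 = 1 by omega, Nat.factorial_one, one_mul, Nat.factorial_eq_mul_doubleFactorial] at h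
    rw [Nat.eq_of_mul_eq_mul_right pos h]
    exact odd_df m

def M (t : Perm Ω) : Prop := t * t = 1 ∧ ∀ a b, t a = a → t b = b → a = b

theorem exM {Q : Subgroup (Perm Ω)} (hQ : IsPGroup 2 Q) : ∃ t, M t ∧ Q ≤ centralizer {t} := by
  haveI := Fact.mk Nat.prime_two
  let X := {g : Perm Ω // g.cycleType = Multiset.replicate (Fintype.card Ω / 2) 2}
  letI : MulAction Q X :=
    { smul := fun q g => ⟨q.1 * g.1 * q.1⁻¹, cycleType_conj.trans g.2⟩
      one_smul := fun g => Subtype.ext (by show (1 : Perm Ω) * g.1 * 1⁻¹ = g.1; group)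
      mul_smul := fun a b g => Subtype.ext (by
        show a.1 * b.1 * g.1 * (a.1 * b.1)⁻¹ = a.1 * (b.1 * g.1 * b.1⁻¹) * a.1⁻¹; group) }
  obtain ⟨t, ht⟩ := hQ.nonempty_fixed_point_of_prime_not_dvd_card X (by
    rw [Nat.card_eq_fintype_card, Fintype.card_subtype]
    exact (odd_card (Ω := Ω)).not_two_dvd_nat)
  refine ⟨t.1, ⟨?_, fun a b ha hb => ?_⟩, fun q hq => mem_centralizer_singleton_iff.2
    (mul_inv_eq_iff_eq_mul.1 (congrArg Subtype.val (ht ⟨q, hq⟩)))⟩
  · rw [← sq]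
    exact pow_prime_eq_one_iff.2 fun c hc => Multiset.eq_of_mem_replicate (t.2 ▸ hc)
  · have : #t.1.supportᶜ ≤ 1 := by
      rw [card_compl, ← sum_cycleType, t.2, Multiset.sum_replicate, smul_eq_mul]
      omega
    exact card_le_one.1 this a (by simpa using ha) b (by simpa using hb)

theorem zp {x : Perm Ω} {a : Ω} {i : ℤ} : (x ^ i) a = a ↔ (MulAction.period x a : ℤ) ∣ i :=
  MulAction.zpow_smul_eq_iff_period_dvd (g := x) (a := a)

theorem ui {x : Perm Ω} {a : Ω} {i j : ℤ} (h1 : (x ^ (2 * i)) a = a) (h2 : (x ^ (2 * j)) a = a) (h3 : (x ^ i) a ≠ a)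
    (h4 : (x ^ j) a ≠ a) : (x ^ i) a = (x ^ j) a := by
  rw [Ne, zp] at h3 h4
  obtain ⟨u, hu⟩ := zp.1 h1
  obtain ⟨v, hv⟩ := zp.1 h2
  obtain ⟨u, rfl | rfl⟩ := Int.even_or_odd' u
  · exact (h3 ⟨u, by linarith⟩).elim
  obtain ⟨v, rfl | rfl⟩ := Int.even_or_odd' v
  · exact (h4 ⟨v, by linarith⟩).elim
  have : (x ^ (i - j)) a = a := zp.2 ⟨u - v, by linarith⟩
  rw [show i = j + (i - j) by ring, zpow_add, Perm.mul_apply, this]

theorem oddfix {x : Perm Ω} {k : ℕ} (hx : x ^ 2 ^ k = 1) {a : Ω} {i : ℤ} (h : (x ^ (2 * i + 1)) a = a) : x a = a := by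
  have h1 : (MulAction.period x a : ℤ) ∣ 2 ^ k := zp.1 (by rw [← Nat.cast_ofNat, ← Nat.cast_pow, zpow_natCast, hx]; rfl)
  have c : IsCoprime ((2 : ℤ) ^ k) (2 * i + 1) := IsCoprime.pow_left ⟨-i, 1, by ring⟩
  simpa using zp.2 ((c.isUnit_of_dvd' h1 (zp.1 h)).dvd (a := 1))

def C (x : Perm Ω) : Prop := (∀ a b, x a ≠ a → (∀ i : ℤ, (x ^ i) a = a ↔ (x ^ i) b = b) → ∃ i : ℤ, (x ^ i) a = b) ∧
  ∀ a b c, x a = a → x b = b → x c = c → a = b ∨ a = c ∨ b = c

theorem cz {x t : Perm Ω} (h : x * t = t * x) (i : ℤ) (a : Ω) : (x ^ i) (t a) = t ((x ^ i) a) :=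
  congrArg (fun g : Perm Ω => g a) (Commute.zpow_left h i).eq

theorem part {x t : Perm Ω} (hx : C x) (ht : M t) (h : x * t = t * x) {a : Ω} (ha : x a ≠ a) :
    ∃ j : ℤ, (x ^ j) a = t a ∧ (x ^ (2 * j)) a = a ∧ (x ^ j) a ≠ a := by
  obtain ⟨j, hj⟩ := hx.1 a (t a) ha fun i => by rw [cz h, t.injective.eq_iff]
  refine ⟨j, hj, ?_, fun e => ha (ht.2 _ _ ?_ (hj.symm.trans e))⟩
  · rw [two_mul, zpow_add, Perm.mul_apply, hj, cz h, hj, ← Perm.mul_apply, ht.1, Perm.one_apply]
  · rw [← Perm.mul_apply, ← h, Perm.mul_apply, hj.symm.trans e]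

theorem uq {x t s : Perm Ω} (hx : C x) (ht : M t) (h : x * t = t * x) (hs : M s) (h' : x * s = s * x) : t = s := by
  have aux : ∀ {t s : Perm Ω}, M t → x * t = t * x → x * s = s * x → ∀ a, x a = a → t a = a → t a = s a :=
    fun {t s} ht h h' a ha e => by
      have f1 : x (s a) = s a := by simpa [ha] using cz h' 1 a
      have f2 : x (t (s a)) = t (s a) := by simpa [f1] using cz h 1 (s a)
      rcases hx.2 _ _ _ ha f1 f2 with q | q | q
      · exact e.trans q
      · exact e.trans (t.injective (e.trans q))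
      · exact e.trans (ht.2 _ _ e q.symm)
  ext a
  by_cases ha : x a = a
  · rcases hx.2 a (t a) (s a) ha (by simpa [ha] using cz h 1 a) (by simpa [ha] using cz h' 1 a) with q | q | q
    · exact aux ht h h' a ha q.symm
    · exact (aux hs h' h a ha q.symm).symm
    · exact q
  · obtain ⟨i, i1, i2, i3⟩ := part hx ht h ha
    obtain ⟨j, j1, j2, j3⟩ := part hx hs h' ha
    rw [← i1, ← j1, ui i2 j2 i3 j3]

def st (t : Perm Ω) (ht : t * t = 1) : Setoid Ω where
  r a b := a = b ∨ t a = b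
  iseqv := ⟨fun _ => .inl rfl, fun h => h.imp Eq.symm fun h => by rw [← h, ← Perm.mul_apply, ht, Perm.one_apply],
    fun {a b c} h h' => by
      rcases h with rfl | rfl
      · exact h'
      rcases h' with rfl | rfl
      · exact .inr rfl
      · exact .inl (by rw [← Perm.mul_apply, ht, Perm.one_apply])⟩

@[reducible] def act (t : Perm Ω) (ht : t * t = 1) : MulAction (centralizer {t}) (Quotient (st t ht)) where
  smul g := Quotient.map g.1 fun a b h => h.imp (congrArg _) fun h => by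
    rw [← h]
    exact congrArg (fun s : Perm Ω => s a) (mem_centralizer_singleton_iff.1 g.2).symm
  one_smul q := Quotient.inductionOn q fun _ => rfl
  mul_smul _ _ q := Quotient.inductionOn q fun _ => rfl

end

theorem ind (n : ℕ) : ∀ (Ω : Type) [Fintype Ω] [DecidableEq Ω], Fintype.card Ω = n → ∀ (x : Perm Ω) (k : ℕ), x ^ 2 ^ k = 1 →
    C x → ∀ Q R : Subgroup (Perm Ω), IsPGroup 2 Q → IsPGroup 2 R → x ∈ Q → x ∈ R → IsPGroup 2 ↥(Q ⊔ R) := by
  induction n using Nat.strong_induction_on with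
  | _ n ih =>
  intro Ω _ _ hn x k hk hx Q R hQ hR xQ xR
  classical
  obtain ⟨t, ht, Qt⟩ := exM hQ
  obtain ⟨s, hs, Rt⟩ := exM hR
  have h := mem_centralizer_singleton_iff.1 (Qt xQ)
  obtain rfl := uq hx ht h hs (mem_centralizer_singleton_iff.1 (Rt xR))
  by_cases t1 : t = 1
  · haveI : Subsingleton Ω := ⟨fun a b => ht.2 a b (by rw [t1]; rfl) (by rw [t1]; rfl)⟩
    exact fun g => ⟨0, Subsingleton.elim _ _⟩
  letI := act t ht.1
  let φ := MulAction.toPermHom (centralizer {t}) (Quotient (st t ht.1))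
  have hφ : ∀ g a, φ g ⟦a⟧ = ⟦g.1 a⟧ := fun _ _ => rfl
  let y : centralizer {t} := ⟨x, Qt xQ⟩
  have hy : ∀ (i : ℤ) a, (φ y ^ i) ⟦a⟧ = ⟦(x ^ i) a⟧ := fun i a => by rw [← map_zpow, hφ]; rfl
  have ex : ∀ a b : Ω, (⟦a⟧ : Quotient (st t ht.1)) = ⟦b⟧ ↔ b = a ∨ t b = a := fun a b => eq_comm.trans Quotient.eq
  have sq2 : ∀ a, x a ≠ a → ∀ i : ℤ, (φ y ^ i) ⟦a⟧ = ⟦a⟧ ↔ (x ^ (2 * i)) a = a := fun a ha i => by
    rw [hy, ex]
    constructor
    · rintro (e | e)
      · rw [two_mul, zpow_add, Perm.mul_apply, ← e, ← e]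
      · rw [two_mul, zpow_add, Perm.mul_apply, ← e, cz h, ← e, ← Perm.mul_apply, ht.1, Perm.one_apply]
    · intro e
      obtain ⟨j, j1, j2, j3⟩ := part hx ht h ha
      exact or_iff_not_imp_left.2 fun q => j1 ▸ ui j2 e j3 (Ne.symm q)
  have lt : Fintype.card (Quotient (st t ht.1)) < n := by
    obtain ⟨a, ha⟩ : ∃ a, t a ≠ a := not_forall.1 fun e => t1 (Equiv.ext e)
    exact hn ▸ Fintype.card_lt_of_surjective_not_injective _ Quotient.mk_surjective
      fun i => ha (i ((ex _ _).2 (.inr rfl)))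
  have same : ∀ a b, x a ≠ a → x b ≠ b → (∀ i : ℤ, (x ^ (2 * i)) a = a ↔ (x ^ (2 * i)) b = b) → ∃ i : ℤ, (x ^ i) a = b :=
    fun a b ha hb e => hx.1 a b ha fun i => by
      obtain ⟨i, rfl | rfl⟩ := Int.even_or_odd' i
      · exact e i
      · exact iff_of_false (fun q => ha (oddfix hk q)) fun q => hb (oddfix hk q)
  have two : ∀ a b : Ω, φ y ⟦a⟧ = ⟦a⟧ → φ y ⟦b⟧ = ⟦b⟧ → (x a = a ↔ x b = b) → (⟦a⟧ : Quotient (st t ht.1)) = ⟦b⟧ :=
    fun a b ha hb e => by
      by_cases fa : x a = a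
      · have fb := e.1 fa
        by_contra ne
        rw [ex, not_or] at ne
        refine ne.1 (ht.2 _ _ ?_ ?_)
        · rcases hx.2 b a (t b) fb fa (by simpa [fb] using cz h 1 b) with q | q | q
          · exact (ne.1 q).elim
          · exact q.symm
          · exact (ne.2 q.symm).elim
        · rcases hx.2 b a (t a) fb fa (by simpa [fa] using cz h 1 a) with q | q | q
          · exact (ne.1 q).elim
          · exact (ne.2 (by rw [q, ← Perm.mul_apply, ht.1, Perm.one_apply])).elim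
          · exact q.symm
      · have fb := mt e.2 fa
        obtain ⟨i, rfl⟩ := same a b fa fb fun i => iff_of_true
          ((sq2 a fa i).1 (zpow_apply_eq_self_of_apply_eq_self ha i)) ((sq2 b fb i).1 (zpow_apply_eq_self_of_apply_eq_self hb i))
        rw [← hy, zpow_apply_eq_self_of_apply_eq_self ha]
  have cy : C (φ y) := by
    refine ⟨fun a b => Quotient.inductionOn₂ a b fun a b ha e => ?_,
      fun a b c => Quotient.inductionOn₃ a b c fun a b c ha hb hc => ?_⟩
    · have fa : x a ≠ a := fun q => ha (congrArg _ q)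
      have fb : x b ≠ b := fun q => ha (by simpa using (e 1).2 (by rw [zpow_one]; exact congrArg _ q))
      obtain ⟨i, hi⟩ := same a b fa fb fun i => by rw [← sq2 a fa, ← sq2 b fb, e]
      exact ⟨i, by rw [hy, hi]⟩
    · by_cases p1 : x a = a ↔ x b = b
      · exact .inl (two a b ha hb p1)
      by_cases p2 : x a = a ↔ x c = c
      · exact .inr (.inl (two a c ha hc p2))
      · exact .inr (.inr (two b c hb hc (by tauto)))
  have r := ih _ lt _ rfl (φ y) k (by rw [← map_pow, show y ^ 2 ^ k = 1 from Subtype.ext hk, map_one]) cy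
    ((Q.subgroupOf _).map φ) ((R.subgroupOf _).map φ) ((hQ.comap_subtype).map φ) ((hR.comap_subtype).map φ)
    ⟨y, xQ, rfl⟩ ⟨y, xR, rfl⟩
  have ker : IsPGroup 2 φ.ker := fun g => ⟨1, Subtype.ext (Subtype.ext (Equiv.ext fun a => by
    have e : ∀ a, a = g.1.1 a ∨ t a = g.1.1 a := fun a => (ex _ _).1 ((hφ g.1 a).symm.trans (by rw [g.2]; rfl))
    show g.1.1 (g.1.1 a) = a
    rcases e a with q | q
    · rw [← q, ← q]
    · rw [← q, ← Perm.mul_apply, mem_centralizer_singleton_iff.1 g.1.2, Perm.mul_apply, ← q, ← Perm.mul_apply, ht.1,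
        Perm.one_apply]))⟩
  refine ((r.comap_of_ker_isPGroup φ ker).map (centralizer {t}).subtype).to_le (sup_le (fun g hg => ?_) fun g hg => ?_)
  · exact ⟨⟨g, Qt hg⟩, mem_sup_left ⟨_, hg, rfl⟩, rfl⟩
  · exact ⟨⟨g, Rt hg⟩, mem_sup_right ⟨_, hg, rfl⟩, rfl⟩

variable {Ω : Type} [Fintype Ω] [DecidableEq Ω]

theorem sw {x : Perm Ω} (hx : IsPGroup 2 (zpowers x)) {P : Sylow 2 (Perm Ω)} (hP : ∀ R : Sylow 2 (Perm Ω), x ∈ R → R = P)
    {u v : Ω} (h1 : ∀ i : ℤ, (x ^ i) u = u ↔ (x ^ i) v = v) (h2 : ∀ i : ℤ, (x ^ i) u = v ↔ (x ^ i) v = u) :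
    swap u v ∈ P := by
  haveI := Fact.mk Nat.prime_two
  let S : Set (Perm Ω) := Set.range fun i : ℤ => x ^ i * swap u v * (x ^ i)⁻¹
  have c0 : ∀ i : ℤ, Commute (x ^ i * swap u v * (x ^ i)⁻¹) (swap u v) := fun i => by
    rw [← swap_apply_apply]
    by_cases a : (x ^ i) u = u
    · rw [a, (h1 i).1 a]
    by_cases b : (x ^ i) u = v
    · rw [b, (h2 i).1 b, swap_comm]
    refine Commute.symm (mul_inv_eq_iff_eq_mul.1 ?_)
    rw [← swap_apply_apply, swap_apply_of_ne_of_ne a b, swap_apply_of_ne_of_ne (mt (h2 i).2 b) (mt (h1 i).2 a)]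
  have cS : ∀ a ∈ S, ∀ b ∈ S, Commute a b := by
    rintro _ ⟨i, rfl⟩ _ ⟨j, rfl⟩
    have := (c0 (-j + i)).map (MulAut.conj (x ^ j))
    simp only [MulAut.conj_apply] at this
    rwa [show x ^ j * (x ^ (-j + i) * swap u v * (x ^ (-j + i))⁻¹) * (x ^ j)⁻¹ = x ^ i * swap u v * (x ^ i)⁻¹ by group] at this
  have cN : ∀ a ∈ closure S, ∀ b ∈ closure S, Commute a b := fun a ha b hb =>
    (closure_le_centralizer_centralizer S ha b ((closure_le (centralizer S)).2 (fun c hc d hd => cS d hd c hc) hb)).symm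
  have pN : IsPGroup 2 (closure S) := fun g => ⟨1, Subtype.ext (by
    show g.1 ^ 2 = 1
    refine closure_induction (p := fun a _ => a ^ 2 = 1) ?_ (one_pow 2) (fun a b ha hb p q => ?_) (fun a _ p => ?_) g.2
    · rintro _ ⟨i, rfl⟩
      rw [conj_pow, sq, swap_mul_self, mul_one, mul_inv_cancel]
    · rw [(cN a ha b hb).mul_pow, p, q, one_mul]
    · rw [inv_pow, p, inv_one])⟩
  have nx : zpowers x ≤ normalizer (closure S : Set (Perm Ω)) := zpowers_le.2 (mem_normalizer_fintype fun g hg => by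
    refine closure_induction (p := fun a _ => x * a * x⁻¹ ∈ closure S) ?_ (by simp) (fun a b _ _ p q => ?_)
      (fun a _ p => ?_) hg
    · rintro _ ⟨i, rfl⟩
      exact subset_closure ⟨1 + i, by group⟩
    · rw [← conj_mul]
      exact mul_mem p q
    · rw [← conj_inv]
      exact inv_mem p)
  obtain ⟨R, hR⟩ := (hx.to_sup_of_normal_right' pN nx).exists_le_sylow
  rw [← hP R (hR (mem_sup_left (mem_zpowers x)))]
  exact hR (mem_sup_right (subset_closure ⟨0, by simp⟩))

theorem no3 {P : Sylow 2 (Perm Ω)} {a b c : Ω} (h1 : swap a b ∈ P) (h2 : swap a c ∈ P) : a = b ∨ a = c ∨ b = c := by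
  haveI := Fact.mk Nat.prime_two
  by_contra! q
  obtain ⟨k, hk⟩ := IsPGroup.iff_orderOf.1 P.2 ⟨_, mul_mem h1 h2⟩
  rw [← orderOf_coe, (isThreeCycle_swap_mul_swap_same q.1 q.2.1 q.2.2).orderOf] at hk
  exact absurd (Nat.Prime.dvd_of_dvd_pow Nat.prime_three hk.dvd) (by norm_num)

theorem cyc {x : Perm Ω} {a : Ω} (ha : x a ≠ a) (i : ℤ) : (x ^ i) a = a ↔ (#(x.cycleOf a).support : ℤ) ∣ i := by
  have c := isCycle_cycleOf x ha
  rw [← c.orderOf, orderOf_dvd_iff_zpow_eq_one, ← cycleOf_zpow_apply_self]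
  refine ⟨fun h => Equiv.ext fun y => ?_, fun h => by rw [h]; rfl⟩
  by_cases hy : x.cycleOf a y = y
  · exact zpow_apply_eq_self_of_apply_eq_self hy i
  · obtain ⟨j, rfl⟩ := c.exists_zpow_eq (x := a) (by rwa [cycleOf_apply_self]) hy
    rw [cz (Commute.zpow_right (Commute.refl (x.cycleOf a)) j).eq, h]
    rfl

theorem main (x : Perm Ω) (hx : ∃ k : ℕ, orderOf x = 2 ^ k) :
    (∃! P : Sylow 2 (Perm Ω), x ∈ P) ↔ (Fintype.card Ω ≤ x.support.card + 2 ∧ x.cycleType.Nodup) := by
  haveI := Fact.mk Nat.prime_two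
  obtain ⟨k, hk⟩ := hx
  have xk : x ^ 2 ^ k = 1 := hk ▸ pow_orderOf_eq_one x
  have hz : IsPGroup 2 (zpowers x) := IsPGroup.of_card ((Nat.card_zpowers x).trans hk)
  have cc := card_compl_add_card x.support
  constructor
  · rintro ⟨P, -, hP⟩
    constructor
    · by_contra q
      obtain ⟨a, b, c, ha, hb, hc, ab, ac, bc⟩ := two_lt_card_iff.1 (show 2 < #x.supportᶜ by omega)
      have f : ∀ u ∈ x.supportᶜ, ∀ i : ℤ, (x ^ i) u = u := fun u hu =>
        zpow_apply_eq_self_of_apply_eq_self (by simpa using hu)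
      have g : ∀ u ∈ x.supportᶜ, ∀ v ∈ x.supportᶜ, swap u v ∈ P := fun u hu v hv =>
        sw hz hP (fun i => iff_of_true (f u hu i) (f v hv i)) fun i => by rw [f u hu, f v hv, eq_comm]
      rcases no3 (g a ha b hb) (g a ha c hc) with q | q | q <;> contradiction
    · rw [cycleType_def]
      refine Multiset.Nodup.map_on (fun c hc d hd e => ?_) x.cycleFactorsFinset.nodup
      obtain ⟨a, ha⟩ := (mem_cycleFactorsFinset_iff.1 hc).1.nonempty_support
      obtain ⟨b, hb⟩ := (mem_cycleFactorsFinset_iff.1 hd).1.nonempty_support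
      have fa := mem_support.1 (mem_cycleFactorsFinset_support_le hc ha)
      have fb := mem_support.1 (mem_cycleFactorsFinset_support_le hd hb)
      obtain rfl := cycle_is_cycleOf ha hc
      obtain rfl := cycle_is_cycleOf hb hd
      by_contra ne
      have ns : ¬ x.SameCycle a b := fun s => ne s.cycleOf_eq
      have e' : #(x.cycleOf a).support = #(x.cycleOf b).support := e
      obtain ⟨j, hj | hj⟩ := Int.even_or_odd' (#(x.cycleOf a).support : ℤ)
      swap
      · exact fa (oddfix xk ((cyc fa _).2 hj.dvd))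
      have j2 : (x ^ j) ((x ^ j) a) = a := by rw [← Perm.mul_apply, ← zpow_add, ← two_mul, cyc fa, hj]
      have cm : ∀ (i : ℤ) u, (x ^ i) ((x ^ j) u) = (x ^ j) ((x ^ i) u) := cz (Commute.zpow_right (Commute.refl x) j).eq
      rcases no3 (sw hz hP (u := a) (v := b) (fun i => by rw [cyc fa, cyc fb, e'])
        fun i => iff_of_false (fun q => ns ⟨i, q⟩) fun q => ns (SameCycle.symm ⟨i, q⟩))
        (sw hz hP (u := a) (v := (x ^ j) a) (fun i => by rw [cm, (x ^ j).injective.eq_iff])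
          fun i => by rw [cm]; exact ⟨fun q => by rw [q, j2], fun q => (x ^ j).injective (q.trans j2.symm)⟩) with q | q | q
      · exact ns ⟨0, q⟩
      · have p0 : (0 : ℤ) < #(x.cycleOf a).support := by exact_mod_cast card_pos.2 ⟨a, ha⟩
        have := Int.le_of_dvd (by omega) ((cyc fa j).1 q.symm)
        omega
      · exact ns ⟨j, q.symm⟩
  · rintro ⟨h1, h2⟩
    have hC : C x := by
      refine ⟨fun a b fa e => ?_, fun a b c ha hb hc => ?_⟩
      · have fb : x b ≠ b := fun q => fa (by simpa using (e 1).2 (by simpa using q))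
        have : x.cycleOf a = x.cycleOf b := Multiset.inj_on_of_nodup_map (cycleType_def x ▸ h2) _
          (cycleOf_mem_cycleFactorsFinset_iff.2 (mem_support.2 fa)) _ (cycleOf_mem_cycleFactorsFinset_iff.2 (mem_support.2 fb))
          (Nat.dvd_antisymm (Int.natCast_dvd_natCast.1 ((cyc fa _).1 ((e _).2 ((cyc fb _).2 dvd_rfl))))
            (Int.natCast_dvd_natCast.1 ((cyc fb _).1 ((e _).1 ((cyc fa _).2 dvd_rfl)))))
        have m : b ∈ (x.cycleOf a).support := this ▸ mem_support_cycleOf_iff.2 ⟨SameCycle.refl _ _, mem_support.2 fb⟩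
        exact (mem_support_cycleOf_iff.1 m).1
      · by_contra! q
        have := two_lt_card_iff.2 ⟨a, b, c, (by simpa using ha : a ∈ x.supportᶜ), by simpa using hb, by simpa using hc, q⟩
        omega
    obtain ⟨P, hP⟩ := hz.exists_le_sylow
    refine ⟨P, hP (mem_zpowers x), fun R hR => Sylow.ext ?_⟩
    have := ind _ Ω rfl x k xk hC R P R.2 P.2 hR (hP (mem_zpowers x))
    exact (R.3 this le_sup_left).symm.trans (P.3 this le_sup_right)

end Cfsg.Agent.Syl2U
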