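import Mathlib

/-! The automorphism group of a monomial 2-group in dimension 2 over a Fermat prime field. -/

set_option autoImplicit false
set_option linter.unusedSectionVars false
set_option linter.unusedVariables false

namespace Cfsg.Agent.T0q

section
variable {T : Type*} [Group T]

theorem L (α : MulAut T) {x t : T} (h : α x = x * t) (ht : α t = t) (k : ℕ) : (α ^ k) x = x * t ^ k := by
  induction k with
  | zero => simp
  | succ k ih => rw [pow_succ', MulAut.mul_apply, ih, map_mul, map_pow, h, ht, pow_succ', mul_assoc]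

theorem fx (α : MulAut T) {x : T} (h : α x = x) (k : ℕ) : (α ^ k) x = x := by
  simpa using L α (t := 1) (by simpa using h) (map_one α) k

theorem ab (A : Subgroup T) (hc : ∀ x ∈ A, ∀ y ∈ A, x * y = y * x) (α : MulAut T) (hA : ∀ x ∈ A, α x ∈ A)
    (h2 : ∀ x ∈ A, x * x = 1 → α x = x) (n : ℕ) : ∀ x ∈ A, x ^ 2 ^ n = 1 → (α ^ 2 ^ n) x = x := by
  have hk : ∀ k : ℕ, ∀ x ∈ A, (α ^ k) x ∈ A := fun k => by
    induction k with
    | zero => exact fun x hx => hx
    | succ k ih => exact fun x hx => by rw [pow_succ', MulAut.mul_apply]; exact hA _ (ih x hx)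
  induction n with
  | zero => intro x _ h; rw [pow_zero, pow_one] at h; rw [h, map_one]
  | succ n ih =>
    intro x hx h
    have h1 := ih (x * x) (mul_mem hx hx) (by rw [← sq, ← pow_mul, ← pow_succ', h])
    have m := hk (2 ^ n) x hx
    have t2 : (x⁻¹ * (α ^ 2 ^ n) x) * (x⁻¹ * (α ^ 2 ^ n) x) = 1 := by
      rw [mul_assoc, ← mul_assoc ((α ^ 2 ^ n) x), hc _ m _ (inv_mem hx), mul_assoc, ← map_mul, h1]
      group
    have := L (α ^ 2 ^ n) (x := x) (t := x⁻¹ * (α ^ 2 ^ n) x) (by group) (fx α (h2 _ (mul_mem (inv_mem hx) m) t2) _) 2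
    rw [pow_succ, pow_mul, this, sq, t2, mul_one]

variable {U : Type*} [CommGroup U]

def S (U : Type*) [CommGroup U] : Subgroup (U × U) where
  carrier := {p | p.1 * p.2 * (p.1 * p.2) = 1}
  one_mem' := by simp
  mul_mem' := fun {a b} (ha : _ = _) (hb : _ = _) => show a.1 * b.1 * (a.2 * b.2) * (a.1 * b.1 * (a.2 * b.2)) = 1 by
    rw [← mul_one 1]
    nth_rewrite 1 [← ha, ← hb]
    simp only [mul_assoc, mul_comm, mul_left_comm]
  inv_mem' := fun {a} (ha : _ = _) => show a.1⁻¹ * a.2⁻¹ * (a.1⁻¹ * a.2⁻¹) = 1 by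
    rw [← mul_inv, ← mul_inv, ha, inv_one]

def dg (p : S U) : S U := ⟨(p.1.1 * p.1.2, p.1.1 * p.1.2), by
  have : _ = _ := p.2
  show _ * _ * (_ * _) = 1
  rw [this, mul_one]⟩

theorem abs (n : U) (hn : ∀ a : U, a * a = 1 ↔ a = 1 ∨ a = n) (m : ℕ) (hm : ∀ a : U, a ^ 2 ^ m = 1)
    (hc : (∀ a : U, a * a = 1) ∨ ∃ c : U, c ^ 4 ≠ 1) (δ : S U →* T) (inj : Function.Injective δ) (ω : T)
    (hω : ∀ p, ω * δ p * (ω * δ p) = δ (dg p)) (all : ∀ t, ∃ p, t = δ p ∨ t = ω * δ p) (hne : ∀ p, ω ≠ δ p) :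
    IsPGroup 2 (MulAut T) := by
  have n2 : n * n = 1 := (hn n).2 (.inr rfl)
  let pN : S U := ⟨(n, n), show n * n * (n * n) = 1 by rw [n2, mul_one]⟩
  let pz : S U := ⟨(1, n), show 1 * n * (1 * n) = 1 by rw [one_mul, n2]⟩
  have four : ∀ p : S U, p * p = 1 → p = 1 ∨ p = pN ∨ p = pz ∨ p = pz * pN := fun p hp => by
    rcases (hn p.1.1).1 (congrArg (·.1.1) hp) with a | a <;> rcases (hn p.1.2).1 (congrArg (·.1.2) hp) with b | b
    · exact .inl (Subtype.ext (Prod.ext a b))
    · exact .inr (.inr (.inl (Subtype.ext (Prod.ext a b))))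
    · exact .inr (.inr (.inr (Subtype.ext (Prod.ext (a.trans (one_mul n).symm) (b.trans n2.symm)))))
    · exact .inr (.inl (Subtype.ext (Prod.ext a b)))
  have dg2 : ∀ p : S U, dg p = 1 ∨ dg p = pN := fun p =>
    ((hn _).1 p.2).imp (fun a => Subtype.ext (Prod.ext a a)) fun a => Subtype.ext (Prod.ext a a)
  have NN : pN * pN = 1 := Subtype.ext (Prod.ext n2 n2)
  have zz : pz * pz = 1 := Subtype.ext (Prod.ext (mul_one 1) n2)
  have NN' : δ pN * δ pN = 1 := by rw [← map_mul, NN, map_one]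
  have zz' : δ pz * δ pz = 1 := by rw [← map_mul, zz, map_one]
  have r2 : ω * δ pz * (ω * δ pz) = δ pN := (hω pz).trans (congrArg δ (Subtype.ext (Prod.ext (one_mul n) (one_mul n))))
  have ww : ω * ω = 1 := by
    have := hω 1
    rwa [map_one, mul_one, show dg (1 : S U) = 1 from Subtype.ext (Prod.ext (mul_one 1) (mul_one 1)), map_one] at this
  have fN : ∀ α : MulAut T, α (δ pN) = 1 ∨ α (δ pN) = δ pN → α (δ pN) = δ pN := fun α h =>
    h.elim (fun h => by rw [(map_eq_one_iff α α.injective).1 h, map_one]) id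
  intro α
  rcases hc with hc | ⟨c, hc⟩
  · have p2 : ∀ p : S U, p * p = 1 := fun p => Subtype.ext (Prod.ext (hc _) (hc _))
    have aN : α (δ pN) = δ pN := fN α (by
      rw [← r2, map_mul]
      obtain ⟨p, h | h⟩ := all (α (ω * δ pz))
      · rw [h, ← map_mul, p2, map_one]
        exact .inl rfl
      · rw [h, hω, r2]
        exact (dg2 p).imp (fun e => by rw [e, map_one]) (congrArg δ))
    set r := ω * δ pz with hr
    have r4 : r ^ 4 = 1 := by rw [show r ^ 4 = r * r * (r * r) by simp [pow_succ, mul_assoc], r2, NN']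
    have ar : α r = r ∨ α r = r * δ pN := by
      have e : α r * α r = δ pN := by rw [← map_mul, r2, aN]
      by_cases h1 : pN = 1
      · have hz : pz = 1 := Subtype.ext (Prod.ext rfl (congrArg (·.1.2) h1))
        have hp : ∀ p : S U, p = 1 := fun p => by simpa [h1, hz] using four p (p2 p)
        obtain ⟨p, h | h⟩ := all (α r)
        · rw [hp p, map_one, map_eq_one_iff α α.injective] at h
          rw [h, map_one]
          exact .inl rfl
        · exact .inl (by rw [h, hr, hp p, hz])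
      obtain ⟨p, h | h⟩ := all (α r)
      · rw [h, ← map_mul, p2] at e
        exact (h1 (inj e).symm).elim
      · rw [h, hω] at e
        rcases four p (p2 p) with rfl | rfl | rfl | rfl
        · exact (h1 ((inj e).symm.trans (Subtype.ext (Prod.ext (mul_one 1) (mul_one 1))))).elim
        · exact (h1 ((inj e).symm.trans (Subtype.ext (Prod.ext n2 n2)))).elim
        · exact .inl h
        · exact .inr (by rw [h, map_mul, mul_assoc])
    have br : (α ^ 2) r = r := ar.elim (fun h => fx α h 2) fun h => by rw [L α h aN, sq, NN', mul_one]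
    have bN := fx α aN 2
    have zw : ω = δ pz * r⁻¹ := by
      rw [hr, mul_inv_rev, inv_eq_of_mul_eq_one_right zz', inv_eq_of_mul_eq_one_right ww, ← mul_assoc, zz', one_mul]
    obtain ⟨i, hi⟩ : ∃ i : ℤ, (α ^ 2) (δ pz) = δ pz * r ^ i := by
      have q : ∀ y, (α ^ 2) y = y → (α ^ 2) (δ pz) = y → ∃ i : ℤ, (α ^ 2) (δ pz) = δ pz * r ^ i := fun y h1 h2 =>
        ⟨0, by rw [zpow_zero, mul_one, h2, (α ^ 2).injective (h2.trans h1.symm)]⟩
      obtain ⟨p, h | h⟩ := all ((α ^ 2) (δ pz)) <;> rcases four p (p2 p) with rfl | rfl | rfl | rfl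
      · exact q _ (by rw [map_one, map_one]) h
      · exact q _ bN h
      · exact ⟨0, by simpa using h⟩
      · exact ⟨2, by rw [h, map_mul, ← r2, zpow_two]⟩
      · exact ⟨-1, by rw [h, map_one, mul_one, zpow_neg_one, ← zw]⟩
      · exact ⟨1, by rw [h, ← r2, zpow_one]; nth_rewrite 1 [zw]; group⟩
      · exact q _ br h
      · exact q _ (by rw [map_mul δ, ← mul_assoc, map_mul, br, bN]) h
    have gz : ((α ^ 2) ^ 4) (δ pz) = δ pz := by
      rw [L _ hi (by rw [map_zpow, br]), ← zpow_natCast, ← zpow_mul, mul_comm i, zpow_mul, zpow_natCast, r4, one_zpow, mul_one]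
    have gp : ∀ p, ((α ^ 2) ^ 4) (δ p) = δ p := fun p => by
      rcases four p (p2 p) with rfl | rfl | rfl | rfl
      · rw [map_one, map_one]
      · exact fx _ bN 4
      · exact gz
      · rw [map_mul δ, map_mul, gz, fx _ bN 4]
    have gw : ((α ^ 2) ^ 4) ω = ω := by
      nth_rewrite 1 [zw]
      rw [map_mul, map_inv, gz, fx _ br 4, ← zw]
    refine ⟨3, ?_⟩
    rw [show α ^ 2 ^ 3 = (α ^ 2) ^ 4 by rw [← pow_mul]; rfl]
    ext t
    obtain ⟨p, rfl | rfl⟩ := all t
    · exact gp p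
    · rw [map_mul, gw, gp]
      rfl
  · have big : ∀ β : MulAut T, ∀ p : S U, p.1.1 ^ 4 ≠ 1 → β (δ p) ∈ δ.range := fun β p hp => by
      obtain ⟨q, h | h⟩ := all (β (δ p))
      · exact ⟨q, h.symm⟩
      · refine (hp (congrArg (·.1.1) (inj (a₁ := p ^ 4) (a₂ := 1) (β.injective ?_)))).elim
        rw [map_pow, map_pow, h, show ∀ y : T, y ^ 4 = y * y * (y * y) from fun y => by simp [pow_succ, mul_assoc], hω,
          map_one, map_one]
        rcases dg2 q with e | e <;> rw [e]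
        · rw [map_one, mul_one]
        · exact NN'
    have hA : ∀ β : MulAut T, ∀ x ∈ δ.range, β x ∈ δ.range := by
      rintro β _ ⟨p, rfl⟩
      by_cases hp : p.1.1 ^ 4 = 1
      · let g : S U := ⟨(c, c⁻¹), show c * c⁻¹ * (c * c⁻¹) = 1 by simp⟩
        rw [show p = p * g * g⁻¹ by group, map_mul δ, map_inv, map_mul β, map_inv]
        exact mul_mem (big β _ (show (p.1.1 * c) ^ 4 ≠ 1 by rwa [mul_pow, hp, one_mul])) (inv_mem (big β g hc))
      · exact big β p hp
    have out : ∀ β : MulAut T, ∀ p, ∃ q, β (ω * δ p) = ω * δ q := fun β p => by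
      obtain ⟨q, h | h⟩ := all (β (ω * δ p))
      · obtain ⟨s, hs⟩ := hA β⁻¹ _ ⟨q, h.symm⟩
        refine (hne (s * p⁻¹) ?_).elim
        rw [map_mul, map_inv, hs, MulAut.inv_apply, MulEquiv.symm_apply_apply, mul_inv_cancel_right]
      · exact ⟨q, h⟩
    have aN : α (δ pN) = δ pN := fN α (by
      obtain ⟨q, h⟩ := out α pz
      rw [← r2, map_mul, h, hω, r2]
      exact (dg2 q).imp (fun e => by rw [e, map_one]) (congrArg δ))
    have bz : (α ^ 2) (δ pz) = δ pz := by
      obtain ⟨q, h⟩ := hA α _ ⟨pz, rfl⟩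
      have q2 : q * q = 1 := inj (by rw [map_mul, h, ← map_mul, zz', map_one, map_one])
      rcases four q q2 with rfl | rfl | rfl | rfl
      · rw [map_one, eq_comm, map_eq_one_iff α α.injective] at h
        rw [h, map_one]
      · rw [← α.injective (aN.trans h)]
        exact fx α aN 2
      · exact fx α h.symm 2
      · rw [L α (h.symm.trans (map_mul δ _ _)) aN, sq, NN', mul_one]
    have pm : ∀ p : S U, δ p ^ 2 ^ m = 1 := fun p => by
      rw [← map_pow, show p ^ 2 ^ m = 1 from Subtype.ext (Prod.ext (hm _) (hm _)), map_one]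
    have gp : ∀ p, ((α ^ 2) ^ 2 ^ m) (δ p) = δ p := fun p => by
      refine ab δ.range ?_ _ (hA _) ?_ m _ ⟨p, rfl⟩ (pm p)
      · rintro _ ⟨a, rfl⟩ _ ⟨b, rfl⟩
        rw [← map_mul, mul_comm, map_mul]
      · rintro _ ⟨q, rfl⟩ hq
        rcases four q (inj (by rw [map_mul, hq, map_one])) with rfl | rfl | rfl | rfl
        · rw [map_one, map_one]
        · exact fx α aN 2
        · exact bz
        · rw [map_mul δ, map_mul, bz, fx α aN 2]
    obtain ⟨q, hq⟩ := out ((α ^ 2) ^ 2 ^ m) 1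
    rw [map_one, mul_one] at hq
    have gw := L _ hq (gp q) (2 ^ m)
    rw [pm, mul_one] at gw
    refine ⟨1 + m + m, ?_⟩
    rw [pow_add, pow_add, pow_mul, pow_mul, pow_one]
    ext t
    obtain ⟨p, rfl | rfl⟩ := all t
    · exact fx _ (gp p) _
    · rw [map_mul, gw, fx _ (gp p)]
      rfl

end

variable {F : Type*} [Field F]

def Dl (a b : Fˣ) : (Fin 2 → F) ≃ₗ[F] (Fin 2 → F) where
  toFun v := ![a * v 0, b * v 1]
  map_add' v w := by ext i; fin_cases i <;> simp [mul_add]
  map_smul' c v := by ext i; fin_cases i <;> simp [mul_left_comm]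
  invFun v := ![a⁻¹ * v 0, b⁻¹ * v 1]
  left_inv v := by ext i; fin_cases i <;> simp
  right_inv v := by ext i; fin_cases i <;> simp

def Wl : (Fin 2 → F) ≃ₗ[F] (Fin 2 → F) where
  toFun v := ![v 1, v 0]
  map_add' v w := by ext i; fin_cases i <;> simp
  map_smul' c v := by ext i; fin_cases i <;> simp
  invFun v := ![v 1, v 0]
  left_inv v := by ext i; fin_cases i <;> simp
  right_inv v := by ext i; fin_cases i <;> simp

theorem Dl_apply (a b : Fˣ) (v : Fin 2 → F) : Dl a b v = ![a * v 0, b * v 1] := rfl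
theorem Wl_apply (v : Fin 2 → F) : Wl v = ![v 1, v 0] := rfl

theorem main (q m : ℕ) [Fact q.Prime] (hq : q = 2 ^ m + 1) (hq5 : q ≠ 5)
    (T : Subgroup ((Fin 2 → ZMod q) ≃ₗ[ZMod q] (Fin 2 → ZMod q)))
    (hT : ∀ f, f ∈ T ↔ ∃ a s : ZMod q, a ≠ 0 ∧ (s = 1 ∨ s = -1) ∧
      ((∀ v, f v = ![a * v 0, s * a⁻¹ * v 1]) ∨ (∀ v, f v = ![s * a⁻¹ * v 1, a * v 0]))) :
    IsPGroup 2 (MulAut T) := by
  have hn : ∀ a : (ZMod q)ˣ, a * a = 1 ↔ a = 1 ∨ a = -1 := fun a => by
    simp only [Units.ext_iff, Units.val_mul, Units.val_one, Units.val_neg]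
    exact mul_self_eq_one_iff
  have card : Nat.card (ZMod q)ˣ = 2 ^ m := by
    rw [Nat.card_eq_fintype_card, ZMod.card_units, hq, Nat.add_sub_cancel]
  have hm : ∀ a : (ZMod q)ˣ, a ^ 2 ^ m = 1 := fun a => card ▸ pow_card_eq_one'
  have mem : ∀ p : S (ZMod q)ˣ, Dl p.1.1 p.1.2 ∈ T := fun p => (hT _).2 ⟨p.1.1, (p.1.1 * p.1.2 : (ZMod q)ˣ), p.1.1.ne_zero,
    ((hn _).1 p.2).imp (congrArg Units.val) (congrArg Units.val), .inl fun v => by
      rw [Dl_apply, Units.val_mul, mul_comm (p.1.1 : ZMod q) (p.1.2 : ZMod q), mul_inv_cancel_right₀ p.1.1.ne_zero]⟩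
  let δ : S (ZMod q)ˣ →* T :=
    { toFun := fun p => ⟨_, mem p⟩
      map_one' := Subtype.ext (LinearEquiv.ext fun v => by ext i; fin_cases i <;> simp [Dl_apply])
      map_mul' := fun a b => Subtype.ext (LinearEquiv.ext fun v => by
        ext i; fin_cases i <;> simp [Dl_apply, mul_assoc]) }
  have hδ : ∀ p v, (δ p).1 v = ![p.1.1 * v 0, p.1.2 * v 1] := fun _ _ => rfl
  refine abs (-1) hn m hm ?_ δ ?_ ⟨Wl, (hT _).2 ⟨1, 1, one_ne_zero, .inl rfl, .inr fun v => by simp [Wl_apply]⟩⟩ ?_ ?_ ?_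
  · by_cases h : m ≤ 1
    · refine .inl fun a => ?_
      rw [← sq, ← orderOf_dvd_iff_pow_eq_one]
      exact (orderOf_dvd_of_pow_eq_one (hm a)).trans (pow_dvd_pow 2 h)
    · obtain ⟨c, hc⟩ := IsCyclic.exists_ofOrder_eq_natCard (α := (ZMod q)ˣ)
      refine .inr ⟨c, fun e => ?_⟩
      have := (Nat.pow_dvd_pow_iff_le_right (k := m) (l := 2) one_lt_two).1 (card ▸ hc ▸ orderOf_dvd_of_pow_eq_one e)
      obtain rfl : m = 2 := by omega
      exact hq5 hq
  · refine (injective_iff_map_eq_one _).2 fun p hp => ?_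
    have := hδ p 1
    rw [hp] at this
    exact Subtype.ext (Prod.ext (Units.ext (by simpa using (congrFun this 0).symm))
      (Units.ext (by simpa using (congrFun this 1).symm)))
  · intro p
    refine Subtype.ext (LinearEquiv.ext fun v => ?_)
    ext i
    fin_cases i <;> simp [hδ, Wl_apply, dg, mul_assoc, mul_left_comm]
  · intro t
    obtain ⟨a, s, ha, hs, h⟩ := (hT _).1 t.2
    have s0 : s ≠ 0 := by rcases hs with rfl | rfl <;> simp
    refine ⟨⟨(Units.mk0 a ha, Units.mk0 (s * a⁻¹) (mul_ne_zero s0 (inv_ne_zero ha))), Units.ext ?_⟩,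
      h.imp (fun h => Subtype.ext (LinearEquiv.ext fun v => (h v).trans rfl))
        fun h => Subtype.ext (LinearEquiv.ext fun v => (h v).trans rfl)⟩
    simp only [Units.val_mul, Units.val_mk0, Units.val_one]
    rcases hs with rfl | rfl <;> field_simp
  · intro p e
    have := congrFun ((congrArg (fun t : T => t.1 ![1, 0]) e).trans (hδ p _)) 1
    simp [Wl_apply] at this

end Cfsg.Agent.T0q
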