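import Cfsg.Agent.Lib.J2.Uni
import Cfsg.Agent.Lib.Spor.Iso2

/-! The point stabiliser of the Hall-Janko group on a hundred points is the unitary group of dimension three over nine elements. -/

set_option autoImplicit false
set_option maxRecDepth 100000

namespace Cfsg.Agent.Ct.U33

open Cfsg.Agent.PC Cfsg.Agent.Fi MulAction Matrix
open Cfsg.Agent.J2 (OKU su su_reps su_inj toCX CX pt2 q0 Q0 SO ch hs)
open scoped Pointwise

def GK (i : ℕ) : ℕ := Nat.land (Nat.shiftRight (nat_lit 0x156807341286826227462641124) (Nat.mul (nat_lit 36) i)) (nat_lit 68719476735)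
def TK (i : ℕ) : ℕ := Nat.land (Nat.shiftRight (nat_lit 0x200020001200010002200006030200003060200002020200001010186508351183504671182505281181507141176405381173407641172404271171408151168315580167318450165314870164317740156807341153805681152808251151804171146704371143708651142707241141705181138617540137614470135618850134615780128218550127217440125215880124214770118114570117115480115117840114118750100020002088512521087516431085513861084511711078413561077412421075411811074416731060300002058816531057811411055812821054813761048711511047713461045716831044712721030600002020200002010100002006020300003020600002020200001020100) (Nat.mul (nat_lit 36) i)) (nat_lit 68719476735)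
def Tf_t : TN := (TN.node (TN.node (TN.leaf (nat_lit 0xbdba0bef6bacc21d7d7c8456029b423aae74486757ae2ea72b243e719153077f142603e5c63bcc57361e9876840f890d)) (TN.leaf (nat_lit 0x2b08866e52800c7b461ab5b5fac6cf904780612ce8c69a0375149c32ef3bd6139493a6a1e47f694a73c3e27550fd))) (TN.node (TN.leaf (nat_lit 0x9f779707222461bb354a226eee58d332b70fe710d04670ad83e11de14a4ea99d9518af2800bf4d59a8709b3dc57fa1f4)) (TN.leaf (nat_lit 0x0))))
noncomputable def Tf (i : ℕ) : ℕ := get2 Tf_t (nat_lit 6) (nat_lit 0x3f) i
noncomputable def T (j c : ℕ) : ℕ := Tf (Nat.add (Nat.mul j (nat_lit 63)) c)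
def sg (i : ℕ) : ℕ := Nat.land (Nat.shiftRight (nat_lit 0x956244ca939c5264b4a45496da08218c72b701406840f14886d5cf50dc69f076403a2f0aa9a46f5c8c3ad5007658833c60b89bb9ce2b05) (Nat.mul (nat_lit 7) i)) (nat_lit 127)
def io_t : TN := (TN.node (TN.leaf (nat_lit 0x4881184427803a700bb47006c7d87addfe7bfbc4f300d7253f8894d805f5ae414002600075000002e30902f6e9019)) (TN.leaf (nat_lit 0xa00000002a030680001540032000803000034000b00023016028)))
noncomputable def io (i : ℕ) : ℕ := get2 io_t (nat_lit 6) (nat_lit 0x3f) i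
def CV0 (i : ℕ) : ℕ := Nat.land (Nat.shiftRight (nat_lit 0x11e5a859a31a68069818a69c22cb96a1c31a2acb283a83064ac98822aa9c71832aa1e2ac688b2a69890a71a21871ca8) (Nat.mul (nat_lit 6) i)) (nat_lit 63)
def CV1 (i : ℕ) : ℕ := Nat.land (Nat.shiftRight (nat_lit 0x28000e58010a51000a71020000e49021000029000021800c78019800029019039c40000000001029a71c71039858000) (Nat.mul (nat_lit 6) i)) (nat_lit 63)
def CV2 (i : ℕ) : ℕ := Nat.land (Nat.shiftRight (nat_lit 0x600000000000000000000000010000000) (Nat.mul (nat_lit 5) i)) (nat_lit 31)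
noncomputable def lt : List Lev := [⟨nat_lit 53, nat_lit 63, nat_lit 2, CV0⟩, ⟨nat_lit 12, nat_lit 32, nat_lit 1, CV1⟩, ⟨nat_lit 26, nat_lit 3, nat_lit 0, CV2⟩]

def dm (k : ℕ) : Matrix (Fin 3) (Fin 3) K9 := of fun i j => kel (Nat.land (Nat.shiftRight k (4 * (3 * i.val + j.val))) 15)
def key (A : Matrix (Fin 3) (Fin 3) K9) : ℕ := ∑ i : Fin 3, ∑ j : Fin 3, 16 ^ (3 * i.val + j.val) * Fin.val (A i j)
theorem ok1 : ∀ j < 3, OKU 3 (dm (GK j)) := by simp only [OKU, det_fin_three]; decide +kernel
theorem ok2 : ∀ j < 63, OKU 3 (dm (TK j)) := by simp only [OKU, det_fin_three]; decide +kernel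
theorem ok3 : ∀ j < 3, ∀ c < 63, T j c < 63 ∧ dm (GK j) * dm (TK c) = dm (TK (T j c)) * dm (GK j) := by decide +kernel

theorem res : ∃ H : Subgroup Cfsg.Spor.J2, H.index = 100 ∧
    (∃ (F : Type) (_ : Field F) (_ : Fintype F), Fintype.card F = 9 ∧ Nonempty (H ≃* PSU 3 F 3)) ∧
    ∃ c₁ c₂ : Cfsg.Spor.J2 ⧸ H, (orbit H c₁).ncard = 36 ∧ (orbit H c₂).ncard = 63 := by
  have hF : Fintype.card K9 = 3 ^ 2 := rfl
  have cd : Nat.card (PSU 3 K9 3) = 6048 := by
    have := S0280.result (q := 3) hF 3 (by decide)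
    norm_num [Fin.prod_univ_succ, Finset.prod_range_succ, Nat.even_iff] at this
    omega
  obtain ⟨h1, y, h2⟩ := ch.quot rfl hs rfl
  refine ⟨_, h1, ⟨K9, inferInstance, inferInstance, rfl, ?_⟩, y 1, y 22, (h2 _ (by decide)).1.trans (by decide +kernel),
    (h2 _ (by decide)).1.trans (by decide +kernel)⟩
  exact Spor.iso_cert ((ch.reps.mono (by decide : 3 ≤ 4)).res sg 63 T (by decide +kernel))
    (su_reps (q := 3) hF (RingHom.id _) ok1 ok2 ok3) (ch.inj.res sg io 63 (by decide +kernel))
    (su_inj (q := 3) hF _ ok2 key (by decide +kernel)) 8 lt (k := 6048) (by decide +kernel) ch.stab.1.le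
    (ch.stab.2.trans (by decide +kernel)) cd (by decide)

end Cfsg.Agent.Ct.U33
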