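import Cfsg.Agent.Lib.J2.Pgx
import Cfsg.Agent.Lib.Cert.Lin6
import Cfsg.Agent.S0280

/-! Table models of unitary groups acting by conjugation on labelled elements. -/

set_option autoImplicit false

namespace Cfsg.Agent.J2

open Cfsg.Agent.PC Cfsg.Agent.Classical Matrix

variable {K : Type} [Field K] {F : Type*} [Field F] [Fintype F] {q n : ℕ}

theorem mem_su (hF : Fintype.card F = q ^ 2) {g : SpecialLinearGroup (Fin n) F} (h : g.1ᵀ * g.1.map (frobq hF) = 1) : g ∈ SU n F q := by
  have e : ∀ (A : Matrix (Fin n) (Fin n) F) u v, hermForm n F q (A *ᵥ u) (A *ᵥ v) = u ⬝ᵥ (Aᵀ * A.map (frobq hF)) *ᵥ (frobq hF ∘ v) :=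
    fun A u v => by
      rw [← mulVec_mulVec, dotProduct_mulVec, vecMul_transpose]
      exact Finset.sum_congr rfl fun i _ => congrArg _ (RingHom.map_mulVec (frobq hF) A v i)
  exact fun u v => (e g.1 u v).trans (by rw [h, one_mulVec]; rfl)

def OKU (q : ℕ) (A : Matrix (Fin n) (Fin n) K) : Prop := A.det = 1 ∧ Aᵀ * A.map (· ^ q) = 1

open scoped _root_.Classical in
noncomputable def su (hF : Fintype.card F = q ^ 2) (f : K →+* F) (A : Matrix (Fin n) (Fin n) K) : SU n F q :=
  if h : OKU q A then ⟨⟨A.map f, by rw [← RingHom.mapMatrix_apply, ← RingHom.map_det, h.1, map_one]⟩, mem_su hF (by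
    have := congrArg (fun X : Matrix _ _ K => X.map f) h.2
    simp only [Matrix.map_mul, transpose_map, Matrix.map_one _ (map_zero f) (map_one f)] at this
    rw [← this]; congr 1; ext; exact (map_pow f _ _).symm)⟩ else 1

variable (hF : Fintype.card F = q ^ 2) (f : K →+* F)

theorem su_val {A : Matrix (Fin n) (Fin n) K} (h : OKU q A) : (su hF f A).1.1 = A.map f := by rw [su, dif_pos h]

theorem su_reps {GM TM : ℕ → Matrix (Fin n) (Fin n) K} {T : ℕ → ℕ → ℕ} {m N : ℕ} (h1 : ∀ j < m, OKU q (GM j)) (h2 : ∀ c < N, OKU q (TM c))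
    (h3 : ∀ j < m, ∀ c < N, T j c < N ∧ GM j * TM c = TM (T j c) * GM j) :
    Reps (fun c => toCX (su hF f (TM c))) N (fun j => (su hF f (GM j) : PSU n F q)) T m := fun j hj c hc =>
  ⟨(h3 j hj c hc).1, (J2.cx_smul _ _).trans <| congrArg toCX (mul_inv_eq_of_eq_mul (Subtype.ext (Subtype.ext (by
    show (su hF f (GM j)).1.1 * (su hF f (TM c)).1.1 = (su hF f (TM (T j c))).1.1 * (su hF f (GM j)).1.1
    rw [su_val hF f (h1 j hj), su_val hF f (h2 c hc), su_val hF f (h2 _ (h3 j hj c hc).1), ← Matrix.map_mul, ← Matrix.map_mul,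
      (h3 j hj c hc).2]))))⟩

theorem su_inj {TM : ℕ → Matrix (Fin n) (Fin n) K} {N : ℕ} (h2 : ∀ c < N, OKU q (TM c)) (key : Matrix (Fin n) (Fin n) K → ℕ)
    (h : ∀ i < N, i + 1 < N → key (TM i) < key (TM (i + 1))) : Inj (fun c => toCX (su hF f (TM c))) N :=
  Inj.of_key (fun c => key (TM c)) (fun i hi j hj e => congrArg key (Matrix.map_injective f.injective (by
    have := congrArg (fun x : SU n F q => x.1.1) e
    simpa only [toCX, su_val hF f (h2 i hi), su_val hF f (h2 j hj)] using this))) fun i hi => h i (by omega) hi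

/-- matrices whose first row is the first unit vector -/
def Aff (d : ℕ) (R : Type) [CommRing R] : Subgroup (GL (Fin (d + 1)) R) where
  carrier := {g | Pi.single 0 1 ᵥ* g.1 = Pi.single 0 1}
  one_mem' := vecMul_one _
  mul_mem' := fun {a b} h h' => by
    show _ ᵥ* (a.1 * b.1) = _
    rw [← vecMul_vecMul, h, h']
  inv_mem' := fun {a} h => by
    show _ ᵥ* (a⁻¹).1 = _
    conv_lhs => rw [← h, vecMul_vecMul, Units.mul_inv, vecMul_one]

def affL (d : ℕ) (R : Type) [CommRing R] : Aff d R →* Matrix (Fin d) (Fin d) R where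
  toFun g := g.1.1.submatrix Fin.succ Fin.succ
  map_one' := submatrix_one _ (Fin.succ_injective _)
  map_mul' a b := by
    ext i j
    have : b.1.1 0 j.succ = 0 := by simpa using congrFun b.2 j.succ
    simp [mul_apply, Fin.sum_univ_succ, this]

end Cfsg.Agent.J2
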